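import Mathlib.Algebra.Category.ModuleCat.Sheaf.Abelian
import Mathlib.Algebra.Category.ModuleCat.Sheaf.Colimits
import Mathlib.Algebra.Category.ModuleCat.Presheaf.Colimits
import Mathlib.CategoryTheory.Limits.Preserves.Shapes.Kernels
import Mathlib.CategoryTheory.Sites.EpiMono
import Mathlib.CategoryTheory.Sites.Abelian
import Mathlib.Algebra.Category.Grp.Abelian
import Mathlib.Algebra.Category.Grp.EpiMono
import Mathlib.CategoryTheory.ConcreteCategory.EpiMono
import Mathlib.CategoryTheory.Abelian.Basic
import Mathlib.Topology.Sheaves.LocallySurjective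
import Mathlib.AlgebraicGeometry.Modules.Sheaf

set_option autoImplicit false
open CategoryTheory CategoryTheory.Limits

namespace Groth.Agent.H53

universe v v' u u'

section

variable {C : Type u'} [Category.{v'} C] {J : GrothendieckTopology C} (R : Sheaf J RingCat.{u})
  [HasSheafify J AddCommGrpCat.{v}] [J.WEqualsLocallyBijective AddCommGrpCat.{v}]

/-- The forgetful functor from sheaves of modules to sheaves of abelian groups preserves
epimorphisms. -/
lemma toSheaf_map_epi {G F : SheafOfModules.{v} R} (p : G ⟶ F) [Epi p] :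
    Epi ((SheafOfModules.toSheaf R).map p) := by
  let adj := PresheafOfModules.sheafificationAdjunction.{v} (𝟙 R.obj)
  let L := PresheafOfModules.sheafification.{v} (𝟙 R.obj)
  let ι' := SheafOfModules.forget.{v} R ⋙ PresheafOfModules.restrictScalars (𝟙 R.obj)
  let Ψ := PresheafOfModules.toPresheaf.{v} R.obj ⋙ presheafToSheaf J AddCommGrpCat.{v}
  let q := ι'.map p
  have hnat : L.map q ≫ adj.counit.app F = adj.counit.app G ≫ p := adj.counit.naturality p
  have hLq : Epi (L.map q) := by
    have h : L.map q = adj.counit.app G ≫ p ≫ inv (adj.counit.app F) := by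
      rw [← Category.assoc, ← hnat, Category.assoc, IsIso.hom_inv_id, Category.comp_id]
    rw [h]
    infer_instance
  have hzero : L.map (cokernel.π q) = 0 := by
    rw [← cancel_epi (L.map q), ← L.map_comp, cokernel.condition, L.map_zero, comp_zero]
  have hZ : IsZero (L.obj (cokernel q)) := by
    have : Epi (L.map (cokernel.π q)) := inferInstance
    exact IsZero.of_epi_eq_zero _ hzero
  have hZ' : IsZero (Ψ.obj (cokernel q)) :=
    (SheafOfModules.toSheaf R).map_isZero hZ
  have hΨq : Epi (Ψ.map q) :=
    Preadditive.epi_of_isZero_cokernel' _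
      (CokernelCofork.mapIsColimit _ (cokernelIsCokernel q) Ψ) hZ'
  have hΨq' : Epi ((SheafOfModules.toSheaf R).map (L.map q)) := hΨq
  have h2 : (SheafOfModules.toSheaf R).map (L.map q) ≫
      (SheafOfModules.toSheaf R).map (adj.counit.app F) =
      (SheafOfModules.toSheaf R).map (adj.counit.app G) ≫ (SheafOfModules.toSheaf R).map p := by
    rw [← Functor.map_comp, hnat, Functor.map_comp]
  have h3 : Epi ((SheafOfModules.toSheaf R).map (adj.counit.app G) ≫
      (SheafOfModules.toSheaf R).map p) := by
    rw [← h2]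
    infer_instance
  exact epi_of_epi ((SheafOfModules.toSheaf R).map (adj.counit.app G)) _

end

open AlgebraicGeometry in
/-- An epimorphism of `𝒪_X`-modules is locally surjective on sections. -/
lemma modules_epi_locally_surjective {X : Scheme.{u}} {G F : X.Modules} (p : G ⟶ F) [Epi p]
    (U : X.Opens) (t : Γ(F, U)) (x : X) (hx : x ∈ U) :
    ∃ (V : X.Opens) (hV : V ≤ U) (s : Γ(G, V)), x ∈ V ∧
      p.app V s = F.presheaf.map (homOfLE hV).op t := by
  have hp : @Epi (SheafOfModules.{u} X.ringCatSheaf) _ G F p := ‹Epi p›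
  have hepi : Epi ((SheafOfModules.toSheaf X.ringCatSheaf).map p) :=
    @toSheaf_map_epi _ _ _ X.ringCatSheaf _ _ G F p hp
  have hls := (TopCat.Sheaf.isLocallySurjective_iff_epi
    ((SheafOfModules.toSheaf X.ringCatSheaf).map p)).2 hepi
  rw [TopCat.Presheaf.isLocallySurjective_iff] at hls
  obtain ⟨V, hV, ⟨s, hs⟩, hxV⟩ := hls U t x hx
  exact ⟨V, hV, s, hxV, hs⟩

end Groth.Agent.H53
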