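import Mathlib
import Groth.Prelude.Def_DDual2
import Groth.Agent.H35.TorAmp
import Groth.Agent.H35.FlatBC
import Groth.Agent.H40.LTensorComp
import Groth.Agent.H31.KFlatRing
import Groth.Agent.H31.KFlatBounded
import Groth.Agent.H31.KFlatResolutionSite

/-!
# Derived base change `- ⊗^L_A B` computed on K-flat complexes (helper53 library)

For a ring map `φ : A → B`, termwise extension of scalars sends quasi-isomorphisms between K-flat
complexes to quasi-isomorphisms; hence `(DRing.LBaseChange φ).obj (Q P) ≅ Q (P ⊗_A B)` for K-flat `P`.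
Also: `n`-isomorphism criteria for the first morphism of a distinguished triangle in a derived
category.
-/

set_option autoImplicit false
universe u
open CategoryTheory CategoryTheory.Limits MonoidalCategory Pretriangulated
attribute [local instance] HasDerivedCategory.standard

namespace Groth.Agent.H53.LBaseChange

open DRing DerivedCategory Groth.Agent.H31 Groth.Agent.H40.LTensorComp Groth.Agent.H35.TorAmp
  Groth.Agent.H35.FlatBC

section Triangle

variable {C : Type*} [Category C] [Abelian C] [HasDerivedCategory C]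

/-- If the first morphism of a distinguished triangle is an isomorphism on `H^i` for `i > m` and an
epimorphism on `H^m`, the cohomology of the third vertex vanishes in degrees `≥ m`. -/
lemma isZero_obj₃_of_nIso (T : Triangle (DerivedCategory C)) (hT : T ∈ distTriang _) (m : ℤ)
    (hiso : ∀ i, m < i → IsIso ((homologyFunctor C i).map T.mor₁))
    (hepi : Epi ((homologyFunctor C m).map T.mor₁)) :
    ∀ i, m ≤ i → IsZero ((homologyFunctor C i).obj T.obj₃) := by
  intro i hi
  have hepi_i : Epi ((homologyFunctor C i).map T.mor₁) := by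
    rcases hi.eq_or_lt with rfl | h
    · exact hepi
    · have := hiso i h
      infer_instance
  have hmono : Mono ((homologyFunctor C (i + 1)).map T.mor₁) := by
    have := hiso (i + 1) (by omega)
    infer_instance
  exact (HomologySequence.exact₃ T hT i (i + 1) rfl).isZero_of_both_zeros
    ((HomologySequence.epi_homologyMap_mor₁_iff T hT i).1 hepi_i)
    ((HomologySequence.mono_homologyMap_mor₁_iff T hT i (i + 1) rfl).1 hmono)

/-- Conversely. -/
lemma nIso_of_isZero_obj₃ (T : Triangle (DerivedCategory C)) (hT : T ∈ distTriang _) (m : ℤ)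
    (h : ∀ i, m ≤ i → IsZero ((homologyFunctor C i).obj T.obj₃)) :
    (∀ i, m < i → IsIso ((homologyFunctor C i).map T.mor₁)) ∧
      Epi ((homologyFunctor C m).map T.mor₁) := by
  have hepi : ∀ i, m ≤ i → Epi ((homologyFunctor C i).map T.mor₁) := fun i hi =>
    (HomologySequence.epi_homologyMap_mor₁_iff T hT i).2 ((h i hi).eq_of_tgt _ _)
  refine ⟨fun i hi => ?_, hepi m le_rfl⟩
  have := hepi i hi.le
  have : Mono ((homologyFunctor C i).map T.mor₁) :=
    (HomologySequence.mono_homologyMap_mor₁_iff T hT (i - 1) i (by omega)).2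
      ((h (i - 1) (by omega)).eq_of_src _ _)
  exact isIso_of_mono_of_epi _

end Triangle

section NatIso

variable {C D : Type*} [Category C] [Category D] [Abelian C] [Abelian D]

lemma quasiIso_iff_of_natIso {F G : C ⥤ D} [F.Additive] [G.Additive] (e : F ≅ G)
    {K L : CochainComplex C ℤ} (α : K ⟶ L) :
    QuasiIso ((F.mapHomologicalComplex (ComplexShape.up ℤ)).map α) ↔
      QuasiIso ((G.mapHomologicalComplex (ComplexShape.up ℤ)).map α) :=
  _root_.quasiIso_iff_of_arrow_mk_iso _ _
    (Arrow.isoMk ((NatIso.mapHomologicalComplex e (ComplexShape.up ℤ)).app K)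
      ((NatIso.mapHomologicalComplex e (ComplexShape.up ℤ)).app L)
      ((NatIso.mapHomologicalComplex e (ComplexShape.up ℤ)).hom.naturality α).symm)

end NatIso

variable {A B : Type u} [CommRing A] [CommRing B] (φ : A →+* B)

/-- `B` as an `A`-module. -/
noncomputable abbrev Bmod : ModuleCat.{u} A :=
  (ModuleCat.restrictScalars φ).obj (ModuleCat.of B B)

/-- Restriction of scalars. -/
noncomputable abbrev res : ModuleCat.{u} B ⥤ ModuleCat.{u} A := ModuleCat.restrictScalars.{u} φ

/-- The underlying `A`-module of `B ⊗_A M` is the tensor product of `A`-modules. -/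
noncomputable def extResEquiv (M : ModuleCat.{u} A) :
    ((res φ).obj ((ext φ).obj M)) ≃ₗ[A] (TensorProduct A (Bmod φ) M) where
  toFun x := x
  invFun x := x
  map_add' _ _ := rfl
  map_smul' _ _ := rfl
  left_inv _ := rfl
  right_inv _ := rfl

/-- Extension followed by restriction of scalars is the tensor product with `B`. -/
noncomputable def extResIso : ext φ ⋙ res φ ≅ tensorLeft (Bmod φ) :=
  NatIso.ofComponents (fun M => (extResEquiv φ M).toModuleIso) (fun {M N} g => by
    apply ModuleCat.hom_ext
    apply LinearMap.ext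
    intro x
    rfl)

/-- Termwise extension of scalars sends quasi-isomorphisms between K-flat complexes to
quasi-isomorphisms. -/
theorem quasiIso_extCx_map {P Q : Cx A} (α : P ⟶ Q) (hα : QuasiIso α)
    (hP : DRing.IsKFlat A P) (hQ : DRing.IsKFlat A Q) : QuasiIso ((extCx φ).map α) := by
  have := KFlatRing.hasExactColimitsOfShape_nat (R := A)
  have h1 : QuasiIso (((tensorRight (Bmod φ)).mapHomologicalComplex (ComplexShape.up ℤ)).map α) :=
    quasiIso_map_flip_obj (T := curriedTensor (ModuleCat.{u} A)) KFlatRing.tensorLike α hα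
      ((KFlatRing.isKFlat_iff P).1 hP) ((KFlatRing.isKFlat_iff Q).1 hQ) (Bmod φ)
  have h2 : QuasiIso (((tensorLeft (Bmod φ)).mapHomologicalComplex (ComplexShape.up ℤ)).map α) :=
    (quasiIso_iff_of_natIso (BraidedCategory.tensorLeftIsoTensorRight (Bmod φ)) α).2 h1
  have h3 : QuasiIso (((ext φ ⋙ res φ).mapHomologicalComplex (ComplexShape.up ℤ)).map α) :=
    (quasiIso_iff_of_natIso (extResIso φ) α).2 h2
  have h4 : QuasiIso (((res φ).mapHomologicalComplex (ComplexShape.up ℤ)).map
      ((extCx φ).map α)) := h3
  exact (HomologicalComplex.quasiIso_map_iff_of_preservesHomology _ (res φ)).1 h4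

/-- The counit of derived base change is an isomorphism on K-flat complexes. -/
theorem isIso_counit [DRing.HasLBaseChange φ] (P : Cx A) (hP : DRing.IsKFlat A P) :
    IsIso (((DRing.baseChangeKh φ).totalLeftDerivedCounit DerivedCategory.Qh
      (HomotopyCategory.quasiIso (ModuleCat.{u} A) (ComplexShape.up ℤ))).app
        ((HomotopyCategory.quotient _ _).obj P)) := by
  have := KFlatRing.hasExactColimitsOfShape_nat (R := A)
  refine isIso_counit_app (T := curriedTensor (ModuleCat.{u} A)) KFlatRing.tensorLike
    (DRing.baseChangeKh φ) ?_ _ P ((KFlatRing.isKFlat_iff P).1 hP)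
  intro P' Q' α hP' hQ' hα
  show IsIso (DerivedCategory.Qh.map
    (((ModuleCat.extendScalars.{u, u, u} φ).mapHomotopyCategory (ComplexShape.up ℤ)).map
      ((HomotopyCategory.quotient _ _).map α)))
  rw [DerivedCategory.isIso_Qh_map_iff]
  change HomotopyCategory.quasiIso _ _ ((HomotopyCategory.quotient _ _).map
    (((ModuleCat.extendScalars.{u, u, u} φ).mapHomologicalComplex _).map α))
  rw [HomotopyCategory.quotient_map_mem_quasiIso_iff, HomologicalComplex.mem_quasiIso_iff]
  exact quasiIso_extCx_map φ α hα ((KFlatRing.isKFlat_iff _).2 hP') ((KFlatRing.isKFlat_iff _).2 hQ')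

/-- `(Q P) ⊗^L_A B ≅ Q (P ⊗_A B)` for a K-flat complex `P`. -/
noncomputable def objIso [DRing.HasLBaseChange φ] (P : Cx A) (hP : DRing.IsKFlat A P) :
    (DRing.LBaseChange φ).obj (toD P) ≅ toD ((extCx φ).obj P) :=
  @asIso _ _ _ _ (((DRing.baseChangeKh φ).totalLeftDerivedCounit DerivedCategory.Qh
    (HomotopyCategory.quasiIso (ModuleCat.{u} A) (ComplexShape.up ℤ))).app
      ((HomotopyCategory.quotient _ _).obj P)) (isIso_counit φ P hP)

/-- Derived base change of an object represented by a K-flat complex. -/
noncomputable def objIso' [DRing.HasLBaseChange φ] (P : Cx A) (hP : DRing.IsKFlat A P)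
    {K : Dual.D A} (e : toD P ≅ K) :
    toD ((extCx φ).obj P) ≅ (DRing.LBaseChange φ).obj K :=
  (objIso φ P hP).symm ≪≫ (DRing.LBaseChange φ).mapIso e

/-- Base change preserves `m`-pseudo-coherence. -/
theorem isPseudoCoherent_LBaseChange [DRing.HasLBaseChange φ]
    (K : Dual.D A) (m : ℤ) (hK : DRing.IsPseudoCoherent A m K) :
    DRing.IsPseudoCoherent B m ((DRing.LBaseChange φ).obj K) := by
  obtain ⟨E, a, b, α, hE, hEff, hiso, hepi⟩ := hK
  have hb : b ≤ max b m := le_max_left _ _
  have hm : m ≤ max b m := le_max_right _ _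
  have hKle : K.IsLE (max b m) := by
    rw [isLE_iff]
    intro i hi
    have := hiso i (by omega)
    have hz : IsZero ((homologyFunctor (ModuleCat.{u} A) i).obj (toD E)) :=
      (exactAt_iff_isZero_H E i).1
        (ShortComplex.exact_of_isZero_X₂ _ (hE i (Or.inr (by omega))))
    exact hz.of_iso (asIso ((homologyFunctor (ModuleCat.{u} A) i).map α)).symm
  obtain ⟨P, hP, hPfree, ⟨eP⟩⟩ := exists_free_model_of_isLE K (max b m)
  have hPfl := free_flat P hPfree
  have hPK : DRing.IsKFlat A P := KFlatRing.isKFlat_of_bounded_above_flat P _ hP hPfl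
  have hEfree : ∀ i, Module.Free A (E.X i) := fun i => (hEff i).2
  have hEab : VanishesAbove E b := fun i hi => hE i (Or.inr hi)
  have hEK : DRing.IsKFlat A E :=
    KFlatRing.isKFlat_of_bounded_above_flat E b hEab (free_flat E hEfree)
  have := Groth.Agent.H35.MPCoh.kprojective_of_free E b hEab hEfree
  obtain ⟨f, hf⟩ := Groth.Agent.H56.exists_chainMap_of_isKProjective E P (α ≫ eP.inv)
  have hf_iso : ∀ i, m < i →
      IsIso ((homologyFunctor (ModuleCat.{u} A) i).map (Q.map f)) := by
    intro i hi
    rw [hf, Functor.map_comp]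
    have := hiso i hi
    infer_instance
  have hf_epi : Epi ((homologyFunctor (ModuleCat.{u} A) m).map (Q.map f)) := by
    rw [hf, Functor.map_comp]
    have := hepi
    infer_instance
  have hC : ∀ i, m ≤ i → IsZero ((homologyFunctor (ModuleCat.{u} A) i).obj
      (Q.obj (CochainComplex.mappingCone f))) :=
    isZero_obj₃_of_nIso (Q.mapTriangle.obj (CochainComplex.mappingCone.triangle f))
      (mappingCone_triangle_distinguished f) m hf_iso hf_epi
  have hCle : (Q.obj (CochainComplex.mappingCone f)).IsLE (m - 1) := by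
    rw [isLE_iff]
    intro i hi
    exact hC i (by omega)
  obtain ⟨F, hF, hFfree, ⟨eF⟩⟩ :=
    exists_free_model_of_isLE (Q.obj (CochainComplex.mappingCone f)) (m - 1)
  have := Groth.Agent.H35.MPCoh.kprojective_of_free F (m - 1) hF hFfree
  obtain ⟨g, hg⟩ := Groth.Agent.H56.exists_chainMap_of_isKProjective F (CochainComplex.mappingCone f) eF.hom
  have hgq : QuasiIso g := by
    rw [← DerivedCategory.isIso_Q_map_iff_quasiIso, hg]
    infer_instance
  have hFK : DRing.IsKFlat A F :=
    KFlatRing.isKFlat_of_bounded_above_flat F _ hF (free_flat F hFfree)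
  have hCK : DRing.IsKFlat A (CochainComplex.mappingCone f) :=
    (KFlatRing.isKFlat_mappingCone f).1 hEK hPK
  have hbc : QuasiIso ((extCx φ).map g) := quasiIso_extCx_map φ g hgq hFK hCK
  have hex : ∀ i, m ≤ i → ((extCx φ).obj (CochainComplex.mappingCone f)).ExactAt i := by
    intro i hi
    have h0 : ((extCx φ).obj F).ExactAt i :=
      ShortComplex.exact_of_isZero_X₂ _ ((ext φ).map_isZero (hF i (by omega)))
    exact (quasiIsoAt_iff_exactAt ((extCx φ).map g) i h0).1 inferInstance
  have hC' : ∀ i, m ≤ i → IsZero ((homologyFunctor (ModuleCat.{u} B) i).obj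
      (Q.obj (CochainComplex.mappingCone ((extCx φ).map f)))) := by
    intro i hi
    exact ((exactAt_iff_isZero_H _ i).1 (hex i hi)).of_iso
      ((homologyFunctor (ModuleCat.{u} B) i).mapIso
        (Q.mapIso (CochainComplex.mappingCone.mapHomologicalComplexIso f (ext φ)).symm))
  obtain ⟨hiso', hepi'⟩ := nIso_of_isZero_obj₃
    (Q.mapTriangle.obj (CochainComplex.mappingCone.triangle ((extCx φ).map f)))
    (mappingCone_triangle_distinguished ((extCx φ).map f)) m hC'
  refine ⟨(extCx φ).obj E, a, b, Q.map ((extCx φ).map f) ≫ (objIso' φ P hPK eP).hom,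
    vanishesOutside_ext φ E a b hE, fun i => ⟨?_, ?_⟩, fun i hi => ?_, ?_⟩
  · have := (hEff i).1
    exact finite_ext φ (E.X i)
  · have := (hEff i).2
    exact free_ext φ (E.X i)
  · rw [Functor.map_comp]
    have h1 : IsIso ((homologyFunctor (ModuleCat.{u} B) i).map (Q.map ((extCx φ).map f))) :=
      hiso' i hi
    infer_instance
  · rw [Functor.map_comp]
    have h1 : Epi ((homologyFunctor (ModuleCat.{u} B) m).map (Q.map ((extCx φ).map f))) := hepi'
    infer_instance

end Groth.Agent.H53.LBaseChange
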