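import Groth.Agent.H40.LeftDer
import Mathlib.CategoryTheory.Localization.DerivabilityStructure.PointwiseRightDerived

/-!
# Left derived functors from a left derivability structure, by dualizing Mathlib (helper53 library)

Mathlib proves for a *right* derivability structure `Φ` and a functor `F` such that `Φ.Derives F`:
existence of the right derived functor, and the criterion `isRightDerivedFunctor_of_isIso`.
We dualize both statements (the converse direction of helper40's `isLeftKanExtension_op`).

* `isRightKanExtension_unop`: if `(RF, β)` is a left Kan extension of `F.op` along `L.op`, then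
  `(RF.unop, unopNat β)` is a right Kan extension of `F` along `L`.
* `isLeftDerivedFunctor_of_isIso`: for a left derivability structure `Φ` with `Φ.functor ⋙ F` inverting
  `W₁`, any `(LF, α)` with `α` an isomorphism on the objects coming from `Φ` is a left derived functor.
* `hasLeftDerivedFunctor`: under the same hypotheses, `F` has a left derived functor.
-/

set_option autoImplicit false

namespace Groth.Agent.H53.LeftDerOp

open CategoryTheory Opposite Limits Groth.Agent.H40.LeftDer

section KanOp

variable {C D H : Type*} [Category C] [Category D] [Category H]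
  {L : C ⥤ D} {F : C ⥤ H}

/-- If `(RF, β)` is a left Kan extension of `F.op` along `L.op`, then `(RF.unop, unopNat β)` is a
right Kan extension of `F` along `L`. -/
lemma isRightKanExtension_unop (RF : Dᵒᵖ ⥤ Hᵒᵖ) (β : F.op ⟶ L.op ⋙ RF)
    [RF.IsLeftKanExtension β] : RF.unop.IsRightKanExtension (unopNat β) := by
  refine ⟨⟨IsTerminal.ofUniqueHom
    (fun E => CostructuredArrow.homMk
      (NatTrans.unop (RF.descOfIsLeftKanExtension β E.left.op (opNat E.left E.hom))) ?_) ?_⟩⟩
  · ext X
    exact Quiver.Hom.op_inj
      (RF.descOfIsLeftKanExtension_fac_app β E.left.op (opNat E.left E.hom) (op X))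
  · intro E m
    apply CostructuredArrow.hom_ext
    have hσ : NatTrans.op m.left =
        RF.descOfIsLeftKanExtension β E.left.op (opNat E.left E.hom) := by
      apply RF.hom_ext_of_isLeftKanExtension β
      ext Y
      rw [NatTrans.comp_app, Functor.whiskerLeft_app, NatTrans.comp_app, Functor.whiskerLeft_app,
        Functor.descOfIsLeftKanExtension_fac_app]
      exact Quiver.Hom.unop_inj (congr_app (CostructuredArrow.w m) (unop Y))
    ext X
    exact Quiver.Hom.op_inj (congr_app hσ (op X))

/-- If `(LF.op, opNat α)` is a left Kan extension of `F.op` along `L.op`, then `(LF, α)` is a right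
Kan extension of `F` along `L`. -/
lemma isRightKanExtension_of_op (LF : D ⥤ H) (α : L ⋙ LF ⟶ F)
    [LF.op.IsLeftKanExtension (opNat LF α)] : LF.IsRightKanExtension α :=
  isRightKanExtension_unop LF.op (opNat LF α)

end KanOp

section LeftDerives

variable {C₁ C₂ D₂ H : Type*} [Category C₁] [Category C₂] [Category D₂] [Category H]
  {W₁ : MorphismProperty C₁} {W₂ : MorphismProperty C₂}
  (Φ : LocalizerMorphism W₁ W₂) [Φ.IsLeftDerivabilityStructure]
  {F : C₂ ⥤ H} (h : W₁.IsInvertedBy (Φ.functor ⋙ F))

include h in
/-- A functor derived by a left derivability structure has a left derived functor. -/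
theorem hasLeftDerivedFunctor : F.HasLeftDerivedFunctor W₂ := by
  have h' : Φ.op.Derives F.op := h.op
  have h1 : F.op.HasPointwiseRightDerivedFunctor W₂.op := h'.hasPointwiseRightDerivedFunctor
  let RF := F.op.totalRightDerived W₂.Q.op W₂.op
  let β : F.op ⟶ W₂.Q.op ⋙ RF := F.op.totalRightDerivedUnit W₂.Q.op W₂.op
  have h2 : RF.IsRightDerivedFunctor β W₂.op := inferInstance
  have h3 : RF.IsLeftKanExtension β := h2.isLeftKanExtension
  have h4 := isRightKanExtension_unop RF β
  rw [Functor.hasLeftDerivedFunctor_iff F W₂.Q W₂]
  exact Functor.HasRightKanExtension.mk RF.unop (unopNat β)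

variable {L₂ : C₂ ⥤ D₂} [L₂.IsLocalization W₂] {LF : D₂ ⥤ H} (α : L₂ ⋙ LF ⟶ F)

include h in
/-- For a left derivability structure `Φ` deriving `F`, any `(LF, α)` with `α` an isomorphism on
the objects coming from `Φ` is a left derived functor of `F`. -/
theorem isLeftDerivedFunctor_of_isIso (hα : ∀ X₁ : C₁, IsIso (α.app (Φ.functor.obj X₁))) :
    LF.IsLeftDerivedFunctor α W₂ := by
  have h' : Φ.op.Derives F.op := h.op
  have h1 : LF.op.IsRightDerivedFunctor (opNat LF α) W₂.op :=
    h'.isRightDerivedFunctor_of_isIso (opNat LF α) (fun X₁ => by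
      have := hα X₁.unop
      change IsIso (α.app (Φ.functor.obj X₁.unop)).op
      infer_instance)
  have h2 : LF.op.IsLeftKanExtension (opNat LF α) := h1.isLeftKanExtension
  exact ⟨isRightKanExtension_of_op LF α⟩

end LeftDerives

end Groth.Agent.H53.LeftDerOp
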