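import Groth.Agent.H53.KanTransfer
import Groth.Agent.H53.LeftDerOp

/-!
# Transfer of left derived functors along an intermediate localization, converse direction
(helper53 library)

Notation of `KanTransfer`: `q : C ⥤ K` a localization functor for `V`, `L_K : K ⥤ D` a localization
functor for `W_K`, `L ≅ q ⋙ L_K` a localization functor for `W`, `F ≅ q ⋙ F_K`.

* `isLeftDerivedFunctor_of_αK`: if `(LF, α_K)` is a left derived functor of `F_K` along `L_K`, then
  `(LF, α)` is a left derived functor of `F` along `L`.
* `hasLeftDerivedFunctor_of_K`: existence of a left derived functor of `F_K` gives one for `F`.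
* `hasLeftDerivedFunctor_of_derivability`, `isLeftDerivedFunctor_of_isIso`: existence and recognition
  of left derived functors along `L` from a left derivability structure on the intermediate
  category `K`.
-/

set_option autoImplicit false

namespace Groth.Agent.H53.KanTransfer

open CategoryTheory Limits Functor

variable {C K D E : Type*} [Category C] [Category K] [Category D] [Category E]
  (q : C ⥤ K) (V : MorphismProperty C) [q.IsLocalization V]
  (L_K : K ⥤ D) (L : C ⥤ D) (i : q ⋙ L_K ≅ L)
  (F : C ⥤ E) (F_K : K ⥤ E) (e : q ⋙ F_K ≅ F)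
  (LF : D ⥤ E) (α : L ⋙ LF ⟶ F)
  (W : MorphismProperty C) [L.IsLocalization W] (W_K : MorphismProperty K)
  [L_K.IsLocalization W_K]

theorem isLeftDerivedFunctor_of_αK
    (hK : LF.IsLeftDerivedFunctor (αK q V L_K L i F F_K e LF α) W_K) :
    LF.IsLeftDerivedFunctor α W := by
  have hKan : LF.IsRightKanExtension (αK q V L_K L i F F_K e LF α) :=
    Functor.IsLeftDerivedFunctor.isRightKanExtension LF _ W_K
  refine ⟨⟨⟨Limits.IsTerminal.ofUniqueHom (fun g => ?_) (fun g m => ?_)⟩⟩⟩
  · -- existence
    let γK : L_K ⋙ g.left ⟶ F_K := αK q V L_K L i F F_K e g.left g.hom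
    refine CostructuredArrow.homMk
      (LF.liftOfIsRightKanExtension (αK q V L_K L i F F_K e LF α) g.left γK) ?_
    ext X
    have hfac := LF.liftOfIsRightKanExtension_fac_app (αK q V L_K L i F F_K e LF α) g.left γK
      (q.obj X)
    have hnat := (LF.liftOfIsRightKanExtension (αK q V L_K L i F F_K e LF α) g.left γK).naturality
      (i.hom.app X)
    dsimp only [γK] at hfac
    rw [αK_app, αK_app] at hfac
    dsimp at hnat
    rw [← reassoc_of% hnat] at hfac
    have h1 := (cancel_epi (g.left.map (i.hom.app X))).1 hfac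
    simp only [← Category.assoc] at h1
    have h2 := (cancel_mono (e.inv.app X)).1 h1
    exact h2
  · -- uniqueness
    apply CostructuredArrow.hom_ext
    let γK : L_K ⋙ g.left ⟶ F_K := αK q V L_K L i F F_K e g.left g.hom
    let ml : g.left ⟶ LF := m.left
    change ml = LF.liftOfIsRightKanExtension (αK q V L_K L i F F_K e LF α) g.left γK
    apply LF.hom_ext_of_isRightKanExtension (αK q V L_K L i F F_K e LF α)
    rw [LF.liftOfIsRightKanExtension_fac]
    apply Localization.natTrans_ext q V
    intro X
    have hm : ml.app (L.obj X) ≫ α.app X = g.hom.app X := congr_app (CostructuredArrow.w m) X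
    have hnat : g.left.map (i.hom.app X) ≫ ml.app (L.obj X) =
        ml.app (L_K.obj (q.obj X)) ≫ LF.map (i.hom.app X) := ml.naturality (i.hom.app X)
    rw [NatTrans.comp_app, whiskerLeft_app]
    dsimp only [γK]
    rw [αK_app, αK_app, ← reassoc_of% hnat, reassoc_of% hm]

/-- The extension of `α_K : L_K ⋙ LF ⟶ F_K` to `L ⋙ LF ⟶ F`. -/
def ofK (αk : L_K ⋙ LF ⟶ F_K) : L ⋙ LF ⟶ F :=
  whiskerRight i.inv LF ≫ (Functor.associator q L_K LF).hom ≫ whiskerLeft q αk ≫ e.hom

lemma ofK_app (αk : L_K ⋙ LF ⟶ F_K) (X : C) :
    (ofK q L_K L i F F_K e LF αk).app X =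
      LF.map (i.inv.app X) ≫ αk.app (q.obj X) ≫ e.hom.app X := by
  simp [ofK]

lemma αK_ofK (αk : L_K ⋙ LF ⟶ F_K) :
    αK q V L_K L i F F_K e LF (ofK q L_K L i F F_K e LF αk) = αk := by
  apply Localization.natTrans_ext q V
  intro X
  rw [αK_app, ofK_app]
  simp only [Category.assoc, Iso.hom_inv_id_app]
  rw [← CategoryTheory.Functor.map_comp_assoc, Iso.hom_inv_id_app]
  erw [CategoryTheory.Functor.map_id, Category.id_comp, Category.comp_id]

include q V L_K i F_K e W_K in
/-- Existence of a left derived functor along `L ≅ q ⋙ L_K` from existence along `L_K`. -/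
theorem hasLeftDerivedFunctor_of_K [F_K.HasLeftDerivedFunctor W_K] :
    F.HasLeftDerivedFunctor W := by
  let LF := F_K.totalLeftDerived L_K W_K
  let αk := F_K.totalLeftDerivedCounit L_K W_K
  have hK : LF.IsLeftDerivedFunctor
      (αK q V L_K L i F F_K e LF (ofK q L_K L i F F_K e LF αk)) W_K := by
    rw [αK_ofK]
    infer_instance
  have := isLeftDerivedFunctor_of_αK q V L_K L i F F_K e LF (ofK q L_K L i F F_K e LF αk) W W_K hK
  exact Functor.HasLeftDerivedFunctor.mk' (L := L) LF (ofK q L_K L i F F_K e LF αk)

section Derivability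

variable {K₁ : Type*} [Category K₁] {W₁ : MorphismProperty K₁} (Φ : LocalizerMorphism W₁ W_K)
  [Φ.IsLeftDerivabilityStructure] (h : W₁.IsInvertedBy (Φ.functor ⋙ F_K))

include q V L_K i F_K e W_K Φ h in
/-- Existence of a left derived functor along `L ≅ q ⋙ L_K` from a left derivability structure on
the intermediate category. -/
theorem hasLeftDerivedFunctor_of_derivability : F.HasLeftDerivedFunctor W := by
  have := Groth.Agent.H53.LeftDerOp.hasLeftDerivedFunctor Φ h
  exact hasLeftDerivedFunctor_of_K q V L_K L i F F_K e W W_K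

include V i e h in
/-- Recognition of left derived functors along `L ≅ q ⋙ L_K` from a left derivability structure on
the intermediate category: it suffices that `α` is an isomorphism on objects whose image in `K`
comes from `Φ`. -/
theorem isLeftDerivedFunctor_of_isIso
    (hα : ∀ X₁ : K₁, ∃ (X : C) (_ : q.obj X ≅ Φ.functor.obj X₁), IsIso (α.app X)) :
    LF.IsLeftDerivedFunctor α W := by
  apply isLeftDerivedFunctor_of_αK q V L_K L i F F_K e LF α W W_K
  apply Groth.Agent.H53.LeftDerOp.isLeftDerivedFunctor_of_isIso Φ h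
  intro X₁
  obtain ⟨X, eX, hX⟩ := hα X₁
  rw [← NatTrans.isIso_app_iff_of_iso _ eX, αK_app]
  infer_instance

end Derivability

end Groth.Agent.H53.KanTransfer
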