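import Groth.Agent.H53.ProdDer
import Groth.Agent.H53.KanTransfer2
import Mathlib.Algebra.Homology.DerivedCategory.Basic
import Mathlib.Algebra.Homology.Localization

/-!
# Left derived functors on complexes computed on an adapted class (helper53 library)

`A` abelian, `G : CochainComplex A ℤ ⥤ D` a functor, `PP` a triangulated class of objects of the
homotopy category `K(A)`.  `Adapted PP G`: every complex has a left resolution by an object of `PP`,
`G` inverts homotopy equivalences, and `G` inverts the quasi-isomorphisms between complexes in `PP`.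
Then
* `hasLeft`: the total left derived functor of `G` along `Q : C(A) ⥤ D(A)` exists;
* for every left derived functor `(LF, α)` of `G` along `Q`:
  `isIso_app` (`α` is an isomorphism on complexes in `PP`),
  `isLeftDerivedFunctor_comp` (`LF` is an absolute left derived functor);
* `isLeftDerivedFunctor_of_isIso`: a pair `(LF, α)` with `α` an isomorphism on complexes in `PP` is a
  left derived functor.
-/

set_option autoImplicit false
universe w v u
open CategoryTheory CategoryTheory.Limits HomologicalComplex

namespace Groth.Agent.H53.CxDerive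

open Groth.Agent.H53.ProdDer Groth.Agent.H53 Groth.Agent.H40.LeftDer

variable (A : Type u) [Category.{v} A] [Abelian A] [HasDerivedCategory.{w} A]

/-- The homotopy category. -/
abbrev HC := HomotopyCategory A (ComplexShape.up ℤ)

/-- The quotient functor. -/
abbrev qq : CochainComplex A ℤ ⥤ HC A := HomotopyCategory.quotient _ _

/-- Homotopy equivalences. -/
abbrev hEq : MorphismProperty (CochainComplex A ℤ) :=
  HomologicalComplex.homotopyEquivalences A (ComplexShape.up ℤ)

/-- Acyclic complexes. -/
abbrev Bac : ObjectProperty (HC A) := HomotopyCategory.subcategoryAcyclic A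

/-- Quasi-isomorphisms in the homotopy category. -/
abbrev WK : MorphismProperty (HC A) := (Bac A).trW

/-- Quasi-isomorphisms of complexes. -/
abbrev qis : MorphismProperty (CochainComplex A ℤ) :=
  HomologicalComplex.quasiIso A (ComplexShape.up ℤ)

variable {A}

omit [HasDerivedCategory.{w} A] in
lemma quasiIso_of_WK {X Y : CochainComplex A ℤ} (f : X ⟶ Y)
    (hf : (HomotopyCategory.subcategoryAcyclic A).trW ((qq A).map f)) :
    QuasiIso f := by
  rwa [← HomotopyCategory.quasiIso_eq_trW_subcategoryAcyclic,
    HomotopyCategory.quotient_map_mem_quasiIso_iff, HomologicalComplex.mem_quasiIso_iff] at hf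

variable (PP : ObjectProperty (HC A)) [PP.IsTriangulated] [PP.IsClosedUnderIsomorphisms]
  {D : Type*} [Category D] (G : CochainComplex A ℤ ⥤ D)

/-- `PP` is adapted to `G`. -/
structure Adapted : Prop where
  res : HasLeftRes PP (Bac A)
  inv₁ : (hEq A).IsInvertedBy G
  inv₂ : ∀ {P P' : CochainComplex A ℤ} (f : P ⟶ P'), PP ((qq A).obj P) → PP ((qq A).obj P') →
    QuasiIso f → IsIso (G.map f)

omit [HasDerivedCategory.{w} A] in
/-- A functor identifying homotopic maps inverts homotopy equivalences. -/
lemma inverts_hEq_of_homotopy {D : Type*} [Category D] (G : CochainComplex A ℤ ⥤ D)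
    (hG : ∀ {X Y : CochainComplex A ℤ} (f g : X ⟶ Y), Homotopy f g → G.map f = G.map g) :
    (hEq A).IsInvertedBy G := by
  rintro X Y f ⟨e, rfl⟩
  refine ⟨G.map e.inv, ?_, ?_⟩
  · rw [← G.map_comp, hG _ _ e.homotopyHomInvId, G.map_id]
  · rw [← G.map_comp, hG _ _ e.homotopyInvHomId, G.map_id]

/-- The inclusion of `PP`, as a localizer morphism. -/
noncomputable abbrev Φ := PP.triangulatedLocalizerMorphism (Bac A)

variable {PP G}

omit [HasDerivedCategory.{w} A] in
lemma Adapted.good (h : Adapted PP G) : Good (Φ PP) := good_triangulated h.res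

/-- The descent of `G` to the homotopy category. -/
noncomputable def Adapted.GK (h : Adapted PP G) : HC A ⥤ D := Localization.lift G h.inv₁ (qq A)

/-- `G` factors through its descent. -/
noncomputable def Adapted.eGK (h : Adapted PP G) : qq A ⋙ h.GK ≅ G := Localization.fac _ _ _

omit [HasDerivedCategory.{w} A] [PP.IsClosedUnderIsomorphisms] in
lemma Adapted.derives (h : Adapted PP G) :
    (((Bac A).inverseImage PP.ι).trW).IsInvertedBy ((Φ PP).functor ⋙ h.GK) := by
  intro X Y f hf
  obtain ⟨f', hf'⟩ : ∃ f' : X.obj.as ⟶ Y.obj.as, (qq A).map f' = f.hom :=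
    (qq A).map_surjective f.hom
  have hq : QuasiIso f' := by
    apply quasiIso_of_WK
    rw [hf']
    rw [ObjectProperty.trW_inverseImage_ι_iff] at hf
    obtain ⟨Z, g, k, hT, hZ⟩ := hf
    exact ⟨Z, g, k, hT, hZ.2⟩
  have h3 : IsIso (G.map f') := h.inv₂ f' X.property Y.property hq
  have h4 := (NatIso.isIso_map_iff h.eGK f').2 h3
  have h5 : ((Φ PP).functor ⋙ h.GK).map f = (qq A ⋙ h.GK).map f' := by
    change h.GK.map f.hom = h.GK.map ((qq A).map f')
    rw [hf']
    rfl
  exact h5 ▸ h4

/-- The total left derived functor of `G` along `Q` exists. -/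
theorem Adapted.hasLeft (h : Adapted PP G) : G.HasLeftDerivedFunctor (qis A) := by
  have := h.good.isLeftDerivabilityStructure
  exact KanTransfer.hasLeftDerivedFunctor_of_derivability (qq A) (hEq A) DerivedCategory.Qh
    DerivedCategory.Q (DerivedCategory.quotientCompQhIso _) G h.GK h.eGK (qis A) (WK A) (Φ PP)
    h.derives

section Derived

variable (LF : DerivedCategory A ⥤ D) (α : DerivedCategory.Q ⋙ LF ⟶ G)

/-- The counit of a left derived functor of `G` is an isomorphism on complexes in `PP`. -/
theorem Adapted.isIso_app (h : Adapted PP G) [LF.IsLeftDerivedFunctor α (qis A)]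
    (P : CochainComplex A ℤ) (hP : PP ((qq A).obj P)) : IsIso (α.app P) := by
  have := h.good.isLeftDerivabilityStructure
  exact KanTransfer.isIso_app_of_derivability (qq A) (hEq A) DerivedCategory.Qh DerivedCategory.Q
    (DerivedCategory.quotientCompQhIso _) G h.GK h.eGK LF α (qis A) (WK A) (Φ PP) h.derives P
    ⟨(qq A).obj P, hP⟩ (Iso.refl _)

/-- A pair `(LF, α)` with `α` an isomorphism on complexes in `PP` is a left derived functor. -/
theorem Adapted.isLeftDerivedFunctor_of_isIso (h : Adapted PP G)
    (hα : ∀ P : CochainComplex A ℤ, PP ((qq A).obj P) → IsIso (α.app P)) :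
    LF.IsLeftDerivedFunctor α (qis A) := by
  have := h.good.isLeftDerivabilityStructure
  refine KanTransfer.isLeftDerivedFunctor_of_isIso (qq A) (hEq A) DerivedCategory.Qh
    DerivedCategory.Q (DerivedCategory.quotientCompQhIso _) G h.GK h.eGK LF α (qis A) (WK A) (Φ PP)
    h.derives ?_
  intro X₁
  exact ⟨X₁.obj.as, Iso.refl _, hα X₁.obj.as X₁.property⟩

omit [HasDerivedCategory.{w} A] [PP.IsTriangulated] [PP.IsClosedUnderIsomorphisms] in
/-- Post-composition preserves adaptedness. -/
lemma Adapted.comp (h : Adapted PP G) {E' : Type*} [Category E'] (H : D ⥤ E') :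
    Adapted PP (G ⋙ H) where
  res := h.res
  inv₁ := MorphismProperty.IsInvertedBy.of_comp _ _ h.inv₁ H
  inv₂ f hP hP' hf := by
    have := h.inv₂ f hP hP' hf
    dsimp
    infer_instance

/-- A left derived functor of `G` is absolute. -/
theorem Adapted.isLeftDerivedFunctor_comp (h : Adapted PP G) [LF.IsLeftDerivedFunctor α (qis A)]
    {E' : Type*} [Category E'] (H : D ⥤ E') :
    (LF ⋙ H).IsLeftDerivedFunctor
      ((Functor.associator _ _ _).inv ≫ Functor.whiskerRight α H) (qis A) := by
  refine (h.comp H).isLeftDerivedFunctor_of_isIso (LF ⋙ H) _ ?_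
  intro P hP
  have := h.isIso_app LF α P hP
  simp only [NatTrans.comp_app, Functor.associator_inv_app, Functor.whiskerRight_app,
    Category.id_comp]
  infer_instance

end Derived

end Groth.Agent.H53.CxDerive
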