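import Mathlib.CategoryTheory.Functor.Derived.LeftDerived
import Mathlib.CategoryTheory.Localization.Predicate
import Groth.Agent.H40.LeftDer

/-!
# Transfer of left derived functors along an intermediate localization (helper53 library)

`q : C ⥤ K` is a localization functor (for `V`), `L_K : K ⥤ D` a localization functor (for `W_K`),
`L ≅ q ⋙ L_K : C ⥤ D` a localization functor for `W`.  If `F : C ⥤ E` factors as `q ⋙ F_K` and
`(LF, α)` is a left derived functor of `F` along `L`, then `(LF, α_K)` is a left derived functor of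
`F_K` along `L_K`, where `α_K` is the descent of `α`.  Typical use: `C` = cochain complexes,
`K` = homotopy category, `D` = derived category.
-/

set_option autoImplicit false

namespace Groth.Agent.H53.KanTransfer

open CategoryTheory Limits Functor

variable {C K D E : Type*} [Category C] [Category K] [Category D] [Category E]
  (q : C ⥤ K) (V : MorphismProperty C) [q.IsLocalization V]
  (L_K : K ⥤ D) (L : C ⥤ D) (i : q ⋙ L_K ≅ L)
  (F : C ⥤ E) (F_K : K ⥤ E) (e : q ⋙ F_K ≅ F)
  (LF : D ⥤ E) (α : L ⋙ LF ⟶ F)

/-- The natural transformation `q ⋙ L_K ⋙ LF ⟶ q ⋙ F_K` induced by `α`. -/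
def τ : q ⋙ (L_K ⋙ LF) ⟶ q ⋙ F_K :=
  (Functor.associator q L_K LF).inv ≫ whiskerRight i.hom LF ≫ α ≫ e.inv

/-- The descent of `α` to `K`. -/
noncomputable def αK : L_K ⋙ LF ⟶ F_K :=
  Localization.liftNatTrans q V (q ⋙ (L_K ⋙ LF)) (q ⋙ F_K) (L_K ⋙ LF) F_K (τ q L_K L i F F_K e LF α)

lemma αK_app (X : C) :
    (αK q V L_K L i F F_K e LF α).app (q.obj X) =
      LF.map (i.hom.app X) ≫ α.app X ≫ e.inv.app X := by
  dsimp only [αK]
  rw [Localization.liftNatTrans_app]
  simp [τ, Localization.Lifting.iso]

variable (W : MorphismProperty C) [L.IsLocalization W] (W_K : MorphismProperty K)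
  [L_K.IsLocalization W_K]

theorem isLeftDerivedFunctor_αK [LF.IsLeftDerivedFunctor α W] :
    LF.IsLeftDerivedFunctor (αK q V L_K L i F F_K e LF α) W_K := by
  have hKan : LF.IsRightKanExtension α := Functor.IsLeftDerivedFunctor.isRightKanExtension LF α W
  refine ⟨⟨⟨Limits.IsTerminal.ofUniqueHom (fun g => ?_) (fun g m => ?_)⟩⟩⟩
  · -- existence
    let β' : L ⋙ g.left ⟶ F :=
      whiskerRight i.inv g.left ≫ (Functor.associator q L_K g.left).hom ≫
        whiskerLeft q g.hom ≫ e.hom
    refine CostructuredArrow.homMk (LF.liftOfIsRightKanExtension α g.left β') ?_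
    apply Localization.natTrans_ext q V
    intro X
    have hfac := LF.liftOfIsRightKanExtension_fac_app α g.left β' X
    have hnat := (LF.liftOfIsRightKanExtension α g.left β').naturality (i.hom.app X)
    dsimp at hnat
    change (LF.liftOfIsRightKanExtension α g.left β').app (L_K.obj (q.obj X)) ≫
      (αK q V L_K L i F F_K e LF α).app (q.obj X) = g.hom.app (q.obj X)
    rw [αK_app]
    rw [← Category.assoc, ← hnat, Category.assoc, reassoc_of% hfac]
    dsimp [β']
    simp only [Category.assoc, Category.id_comp, Iso.hom_inv_id_app]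
    rw [← CategoryTheory.Functor.map_comp_assoc, Iso.hom_inv_id_app]
    erw [CategoryTheory.Functor.map_id, Category.id_comp, Category.comp_id]
  · -- uniqueness
    apply CostructuredArrow.hom_ext
    let ml : g.left ⟶ LF := m.left
    let β' : L ⋙ g.left ⟶ F :=
      whiskerRight i.inv g.left ≫ (Functor.associator q L_K g.left).hom ≫
        whiskerLeft q g.hom ≫ e.hom
    change ml = LF.liftOfIsRightKanExtension α g.left β'
    apply LF.hom_ext_of_isRightKanExtension α
    ext X
    have hm : ml.app (L_K.obj (q.obj X)) ≫ (αK q V L_K L i F F_K e LF α).app (q.obj X) =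
        g.hom.app (q.obj X) := congr_app (CostructuredArrow.w m) (q.obj X)
    have hnat : g.left.map (i.hom.app X) ≫ ml.app (L.obj X) =
        ml.app (L_K.obj (q.obj X)) ≫ LF.map (i.hom.app X) := ml.naturality (i.hom.app X)
    rw [αK_app] at hm
    rw [NatTrans.comp_app, NatTrans.comp_app, whiskerLeft_app, whiskerLeft_app,
      LF.liftOfIsRightKanExtension_fac_app]
    dsimp [β']
    rw [← hm]
    simp only [Category.assoc, Category.id_comp, Iso.inv_hom_id_app]
    erw [Category.comp_id]
    rw [← reassoc_of% hnat, ← CategoryTheory.Functor.map_comp_assoc, Iso.inv_hom_id_app]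
    erw [CategoryTheory.Functor.map_id, Category.id_comp]

include V i e in
/-- Computing a left derived functor along `L ≅ q ⋙ L_K` on objects coming from a left
derivability structure on the intermediate category `K`. -/
theorem isIso_app_of_derivability [LF.IsLeftDerivedFunctor α W]
    {K₁ : Type*} [Category K₁] {W₁ : MorphismProperty K₁} (Φ : LocalizerMorphism W₁ W_K)
    [Φ.IsLeftDerivabilityStructure] (h : W₁.IsInvertedBy (Φ.functor ⋙ F_K))
    (X : C) (X₁ : K₁) (eX : q.obj X ≅ Φ.functor.obj X₁) : IsIso (α.app X) := by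
  have := isLeftDerivedFunctor_αK q V L_K L i F F_K e LF α W W_K
  have h1 : IsIso ((αK q V L_K L i F F_K e LF α).app (Φ.functor.obj X₁)) :=
    Groth.Agent.H40.LeftDer.isIso_of_isLeftDerivedFunctor Φ h (αK q V L_K L i F F_K e LF α) X₁
  rw [← NatTrans.isIso_app_iff_of_iso _ eX, αK_app] at h1
  have h2 : IsIso (α.app X ≫ e.inv.app X) := IsIso.of_isIso_comp_left (LF.map (i.hom.app X)) _
  exact IsIso.of_isIso_comp_right (α.app X) (e.inv.app X)

end Groth.Agent.H53.KanTransfer
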