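import Mathlib.CategoryTheory.Localization.DerivabilityStructure.Constructor
import Mathlib.CategoryTheory.Localization.Prod
import Mathlib.CategoryTheory.Triangulated.LocalizingSubcategory
import Groth.Agent.H40.LeftDer

/-!
# Products of left derivability structures (helper53 library)

A localizer morphism is `Good` when it is a localized equivalence, its categories of left
resolutions are connected and arrows have left resolutions.  `Good` morphisms are left derivability
structures (Mathlib's constructor), `Good` is stable under products, and the inclusion of a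
triangulated subcategory with enough left resolutions is `Good` (the argument of helper40's
`LeftDer.isLeftDerivabilityStructure`, split into its three parts).
-/

set_option autoImplicit false

namespace Groth.Agent.H53.ProdDer

open CategoryTheory Limits

section Prod

variable {C₁ C₂ D₁ D₂ : Type*} [Category C₁] [Category C₂] [Category D₁] [Category D₂]
  {W₁ : MorphismProperty C₁} {W₂ : MorphismProperty C₂}
  {V₁ : MorphismProperty D₁} {V₂ : MorphismProperty D₂}

/-- The product of two localizer morphisms. -/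
def prodLM (Φ : LocalizerMorphism W₁ W₂) (Ψ : LocalizerMorphism V₁ V₂) :
    LocalizerMorphism (W₁.prod V₁) (W₂.prod V₂) where
  functor := Φ.functor.prod Ψ.functor
  map := fun _ _ _ hf => ⟨Φ.map _ hf.1, Ψ.map _ hf.2⟩

/-- The three conditions of Mathlib's constructor for left derivability structures. -/
structure Good (Φ : LocalizerMorphism W₁ W₂) : Prop where
  locEq : Φ.IsLocalizedEquivalence
  conn : ∀ X₂, IsConnected (Φ.LeftResolution X₂)
  arrow : Φ.arrow.HasLeftResolutions

theorem Good.isLeftDerivabilityStructure {Φ : LocalizerMorphism W₁ W₂} (h : Good Φ)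
    [W₂.ContainsIdentities] : Φ.IsLeftDerivabilityStructure := by
  have := h.locEq
  have := h.conn
  have := h.arrow
  exact LocalizerMorphism.IsLeftDerivabilityStructure.mk' Φ

variable (Φ : LocalizerMorphism W₁ W₂) (Ψ : LocalizerMorphism V₁ V₂)

/-- Pairing of left resolutions. -/
def pairRes {X : C₂} {Y : D₂} (R : Φ.LeftResolution X) (S : Ψ.LeftResolution Y) :
    (prodLM Φ Ψ).LeftResolution (X, Y) where
  X₁ := (R.X₁, S.X₁)
  w := (R.w, S.w)
  hw := ⟨R.hw, S.hw⟩

/-- Pairing with a fixed second resolution, as a functor. -/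
def pairLeft {X : C₂} {Y : D₂} (S : Ψ.LeftResolution Y) :
    Φ.LeftResolution X ⥤ (prodLM Φ Ψ).LeftResolution (X, Y) where
  obj R := pairRes Φ Ψ R S
  map {R R'} φ :=
    { f := (φ.f, 𝟙 _)
      comm := by
        apply Prod.ext
        · exact φ.comm
        · change Ψ.functor.map (𝟙 _) ≫ S.w = S.w
          simp }
  map_id R := by
    apply LocalizerMorphism.LeftResolution.hom_ext
    rfl
  map_comp φ ψ := by
    apply LocalizerMorphism.LeftResolution.hom_ext
    apply Prod.ext
    · rfl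
    · change 𝟙 _ = 𝟙 _ ≫ 𝟙 _
      simp

/-- Pairing with a fixed first resolution, as a functor. -/
def pairRight {X : C₂} {Y : D₂} (R : Φ.LeftResolution X) :
    Ψ.LeftResolution Y ⥤ (prodLM Φ Ψ).LeftResolution (X, Y) where
  obj S := pairRes Φ Ψ R S
  map {S S'} φ :=
    { f := (𝟙 _, φ.f)
      comm := by
        apply Prod.ext
        · change Φ.functor.map (𝟙 _) ≫ R.w = R.w
          simp
        · exact φ.comm }
  map_id S := by
    apply LocalizerMorphism.LeftResolution.hom_ext
    rfl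
  map_comp φ ψ := by
    apply LocalizerMorphism.LeftResolution.hom_ext
    apply Prod.ext
    · change 𝟙 _ = 𝟙 _ ≫ 𝟙 _
      simp
    · rfl

/-- First component of a left resolution for the product. -/
def fstRes {X : C₂} {Y : D₂} (T : (prodLM Φ Ψ).LeftResolution (X, Y)) : Φ.LeftResolution X where
  X₁ := T.X₁.1
  w := T.w.1
  hw := T.hw.1

/-- Second component of a left resolution for the product. -/
def sndRes {X : C₂} {Y : D₂} (T : (prodLM Φ Ψ).LeftResolution (X, Y)) : Ψ.LeftResolution Y where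
  X₁ := T.X₁.2
  w := T.w.2
  hw := T.hw.2

lemma pairRes_fst_snd {X : C₂} {Y : D₂} (T : (prodLM Φ Ψ).LeftResolution (X, Y)) :
    pairRes Φ Ψ (fstRes Φ Ψ T) (sndRes Φ Ψ T) = T := rfl

theorem isConnected_prod {X : C₂} {Y : D₂} (h₁ : IsConnected (Φ.LeftResolution X))
    (h₂ : IsConnected (Ψ.LeftResolution Y)) :
    IsConnected ((prodLM Φ Ψ).LeftResolution (X, Y)) := by
  have : Nonempty ((prodLM Φ Ψ).LeftResolution (X, Y)) :=
    ⟨pairRes Φ Ψ (Classical.arbitrary _) (Classical.arbitrary _)⟩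
  refine zigzag_isConnected (fun T T' => ?_)
  rw [← pairRes_fst_snd Φ Ψ T, ← pairRes_fst_snd Φ Ψ T']
  have z₁ : Zigzag (pairRes Φ Ψ (fstRes Φ Ψ T) (sndRes Φ Ψ T))
      (pairRes Φ Ψ (fstRes Φ Ψ T') (sndRes Φ Ψ T)) :=
    zigzag_obj_of_zigzag (pairLeft Φ Ψ (sndRes Φ Ψ T))
      (isPreconnected_zigzag (fstRes Φ Ψ T) (fstRes Φ Ψ T'))
  have z₂ : Zigzag (pairRes Φ Ψ (fstRes Φ Ψ T') (sndRes Φ Ψ T))
      (pairRes Φ Ψ (fstRes Φ Ψ T') (sndRes Φ Ψ T')) :=
    zigzag_obj_of_zigzag (pairRight Φ Ψ (fstRes Φ Ψ T'))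
      (isPreconnected_zigzag (sndRes Φ Ψ T) (sndRes Φ Ψ T'))
  exact z₁.trans z₂

theorem arrow_hasLeftResolutions_prod (h₁ : Φ.arrow.HasLeftResolutions)
    (h₂ : Ψ.arrow.HasLeftResolutions) : (prodLM Φ Ψ).arrow.HasLeftResolutions := by
  intro f
  obtain ⟨R⟩ := h₁ (Arrow.mk f.hom.1)
  obtain ⟨S⟩ := h₂ (Arrow.mk f.hom.2)
  exact ⟨{
    X₁ := Arrow.mk (X := (R.X₁.left, S.X₁.left)) (Y := (R.X₁.right, S.X₁.right))
      (R.X₁.hom, S.X₁.hom)
    w := Arrow.homMk (R.w.left, S.w.left) (R.w.right, S.w.right) (by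
      apply Prod.ext
      · exact R.w.w
      · exact S.w.w)
    hw := ⟨⟨R.hw.1, S.hw.1⟩, ⟨R.hw.2, S.hw.2⟩⟩ }⟩

theorem isLocalizedEquivalence_prod [W₁.ContainsIdentities] [W₂.ContainsIdentities]
    [V₁.ContainsIdentities] [V₂.ContainsIdentities]
    [Φ.IsLocalizedEquivalence] [Ψ.IsLocalizedEquivalence] :
    (prodLM Φ Ψ).IsLocalizedEquivalence := by
  have h₁ : (Φ.functor ⋙ W₂.Q).IsLocalization W₁ := inferInstance
  have h₂ : (Ψ.functor ⋙ V₂.Q).IsLocalization V₁ := inferInstance
  have h₃ : ((Φ.functor ⋙ W₂.Q).prod (Ψ.functor ⋙ V₂.Q)).IsLocalization (W₁.prod V₁) :=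
    inferInstance
  have h₄ : ((prodLM Φ Ψ).functor ⋙ (W₂.Q.prod V₂.Q)).IsLocalization (W₁.prod V₁) := h₃
  exact LocalizerMorphism.IsLocalizedEquivalence.of_isLocalization_of_isLocalization
    (prodLM Φ Ψ) (W₂.Q.prod V₂.Q)

theorem Good.prod [W₁.ContainsIdentities] [W₂.ContainsIdentities]
    [V₁.ContainsIdentities] [V₂.ContainsIdentities]
    {Φ : LocalizerMorphism W₁ W₂} {Ψ : LocalizerMorphism V₁ V₂} (h₁ : Good Φ) (h₂ : Good Ψ) :
    Good (prodLM Φ Ψ) where
  locEq := by
    have := h₁.locEq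
    have := h₂.locEq
    exact isLocalizedEquivalence_prod Φ Ψ
  conn := fun X => isConnected_prod Φ Ψ (h₁.conn X.1) (h₂.conn X.2)
  arrow := arrow_hasLeftResolutions_prod Φ Ψ h₁.arrow h₂.arrow

end Prod

section Id

variable {C : Type*} [Category C] (W : MorphismProperty C) [W.ContainsIdentities]

theorem good_id : Good (LocalizerMorphism.id W) where
  locEq := inferInstance
  conn := fun X => by
    have : Nonempty ((LocalizerMorphism.id W).LeftResolution X) :=
      ⟨{ X₁ := X, w := 𝟙 X, hw := W.id_mem X }⟩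
    refine zigzag_isConnected (fun R R' => ?_)
    let T : (LocalizerMorphism.id W).LeftResolution X := { X₁ := X, w := 𝟙 X, hw := W.id_mem X }
    have h₁ : Zigzag R T := Zigzag.of_hom
      { f := R.w
        comm := by
          change R.w ≫ 𝟙 X = R.w
          simp }
    have h₂ : Zigzag T R' := Zigzag.of_inv
      { f := R'.w
        comm := by
          change R'.w ≫ 𝟙 X = R'.w
          simp }
    exact h₁.trans h₂
  arrow := fun f => ⟨{
    X₁ := f
    w := 𝟙 f
    hw := ⟨W.id_mem _, W.id_mem _⟩ }⟩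

end Id

section Triangulated

open Pretriangulated ObjectProperty Groth.Agent.H40.LeftDer

variable {C : Type*} [Category C] [HasZeroObject C] [HasShift C ℤ] [Preadditive C]
  [∀ (n : ℤ), (shiftFunctor C n).Additive] [Pretriangulated C] [IsTriangulated C]
  {A B : ObjectProperty C} [A.IsTriangulated] [B.IsTriangulated]
  [A.IsClosedUnderIsomorphisms] [B.IsClosedUnderIsomorphisms]

/-- The inclusion of a triangulated subcategory with enough left resolutions is `Good`
(helper40's argument). -/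
theorem good_triangulated (hres : HasLeftRes A B) :
    Good (A.triangulatedLocalizerMorphism B) := by
  have := isVerdierLeftLocalizing hres
  let Φ := A.triangulatedLocalizerMorphism B
  have hLR : Φ.HasLeftResolutions := fun X => by
    obtain ⟨P, s, hP, hs⟩ := hres X
    exact ⟨{ X₁ := ⟨P, hP⟩, w := s, hw := hs }⟩
  refine ⟨?_, ?_, ?_⟩
  · let L₁ := (B.inverseImage A.ι).trW.Q
    let L₂ := B.trW.Q
    let G := Φ.localizedFunctor L₁ L₂
    have h1 : (Φ.functor ⋙ L₂).EssSurj := Φ.essSurj_of_hasLeftResolutions L₂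
    have h2 : (L₁ ⋙ G).EssSurj := Functor.essSurj_of_iso (CatCommSq.iso Φ.functor L₁ L₂ G)
    have h3 : G.EssSurj :=
      ⟨fun Y => ⟨L₁.obj ((L₁ ⋙ G).objPreimage Y), ⟨(L₁ ⋙ G).objObjPreimageIso Y⟩⟩⟩
    have h4 : G.IsEquivalence := { }
    exact LocalizerMorphism.IsLocalizedEquivalence.mk' Φ L₁ L₂ G
  · intro X₂
    have : Nonempty (Φ.LeftResolution X₂) := hLR X₂
    have : IsPreconnected (Φ.LeftResolution X₂) := zigzag_isPreconnected (fun R R' => by
      obtain ⟨ψ, hψ⟩ :=
        (MorphismProperty.LeftFraction.mk (W := B.trW) R.w R'.w R'.hw).exists_rightFraction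
      obtain ⟨P, u, hP, hu⟩ := hres ψ.X'
      let R'' : Φ.LeftResolution X₂ :=
        { X₁ := ⟨P, hP⟩
          w := u ≫ ψ.s ≫ R.w
          hw := B.trW.comp_mem _ _ hu (B.trW.comp_mem _ _ ψ.hs R.hw) }
      have h1 : Zigzag R R'' := Zigzag.of_inv
        { f := ObjectProperty.homMk (u ≫ ψ.s)
          comm := Category.assoc _ _ _ }
      have h2 : Zigzag R'' R' := Zigzag.of_hom
        { f := ObjectProperty.homMk (u ≫ ψ.f)
          comm := by
            dsimp at hψ
            change (u ≫ ψ.f) ≫ R'.w = u ≫ ψ.s ≫ R.w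
            rw [Category.assoc, hψ] }
      exact h1.trans h2)
    constructor
  · intro f
    obtain ⟨PY, wY, hPY, hwY⟩ := hres f.right
    obtain ⟨ψ, hψ⟩ :=
      (MorphismProperty.LeftFraction.mk (W := B.trW) f.hom wY hwY).exists_rightFraction
    obtain ⟨PX, u, hPX, hu⟩ := hres ψ.X'
    exact ⟨{ X₁ := Arrow.mk (ObjectProperty.homMk (u ≫ ψ.f) :
                (⟨PX, hPX⟩ : A.FullSubcategory) ⟶ ⟨PY, hPY⟩)
             w := Arrow.homMk (u ≫ ψ.s) wY (by
               change (u ≫ ψ.s) ≫ f.hom = (u ≫ ψ.f) ≫ wY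
               rw [Category.assoc, Category.assoc, hψ])
             hw := ⟨B.trW.comp_mem _ _ hu ψ.hs, hwY⟩ }⟩

end Triangulated

end Groth.Agent.H53.ProdDer
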