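import Groth.Prelude.Def_DTen2
import Groth.Agent.H53.ProdDer
import Groth.Agent.H53.KanTransfer
import Groth.Agent.H40.LTensorComp
import Groth.Agent.H31.KFlatRing
import Groth.Agent.H31.KFlatBounded
import Groth.Agent.H31.KFlatResolutionSite
import Mathlib.Algebra.Homology.BifunctorHomotopy
import Mathlib.CategoryTheory.Monoidal.Closed.Braided

/-!
# The derived tensor product `DTen.LTen₂` is computed on K-flat complexes (helper53 library)
-/

set_option autoImplicit false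
universe u
open CategoryTheory CategoryTheory.Limits MonoidalCategory
attribute [local instance] HasDerivedCategory.standard

namespace Groth.Agent.H53.DTenComp

open Groth.Agent.H31 Groth.Agent.H31.KFlat Groth.Agent.H40.LTensorComp Groth.Agent.H53.ProdDer
  HomologicalComplex

variable (A : Type u) [CommRing A]

section Homotopy

variable {A}

/-- `Q` identifies the tensor products of homotopic maps. -/
lemma Q_map_tensorHom_eq_of_homotopy {K K' L L' : DRing.Cx A} {f f' : K ⟶ K'} {g g' : L ⟶ L'}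
    (hf : Homotopy f f') (hg : Homotopy g g') :
    (DerivedCategory.Q : DRing.Cx A ⥤ Dual.D A).map (f ⊗ₘ g) = DerivedCategory.Q.map (f' ⊗ₘ g') := by
  have h1 : Homotopy (f ⊗ₘ g) (f' ⊗ₘ g) :=
    mapBifunctorMapHomotopy₁ hf g (curriedTensor (ModuleCat.{u} A)) (ComplexShape.up ℤ)
  have h2 : Homotopy (f' ⊗ₘ g) (f' ⊗ₘ g') :=
    mapBifunctorMapHomotopy₂ f' hg (curriedTensor (ModuleCat.{u} A)) (ComplexShape.up ℤ)
  exact HomologicalComplexUpToQuasiIso.Q_map_eq_of_homotopy (h1.trans h2)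

/-- `Q(f ⊗ g)` is an isomorphism when `f`, `g` are homotopy equivalences. -/
lemma isIso_Q_map_tensorHom_of_homotopyEquiv {K K' L L' : DRing.Cx A} (e₁ : HomotopyEquiv K K')
    (e₂ : HomotopyEquiv L L') :
    IsIso ((DerivedCategory.Q : DRing.Cx A ⥤ Dual.D A).map (e₁.hom ⊗ₘ e₂.hom)) := by
  refine ⟨DerivedCategory.Q.map (e₁.inv ⊗ₘ e₂.inv), ?_, ?_⟩
  · rw [← Functor.map_comp, MonoidalCategory.tensorHom_comp_tensorHom,
      Q_map_tensorHom_eq_of_homotopy e₁.homotopyHomInvId e₂.homotopyHomInvId]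
    simp
  · rw [← Functor.map_comp, MonoidalCategory.tensorHom_comp_tensorHom,
      Q_map_tensorHom_eq_of_homotopy e₁.homotopyInvHomId e₂.homotopyInvHomId]
    simp

/-- The tensor product of two homotopy equivalences. -/
noncomputable def tensorHomotopyEquiv {K K' L L' : DRing.Cx A} (e₁ : HomotopyEquiv K K')
    (e₂ : HomotopyEquiv L L') : HomotopyEquiv (K ⊗ L) (K' ⊗ L') where
  hom := e₁.hom ⊗ₘ e₂.hom
  inv := e₁.inv ⊗ₘ e₂.inv
  homotopyHomInvId :=
    (Homotopy.ofEq (MonoidalCategory.tensorHom_comp_tensorHom _ _ _ _)).trans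
      (((mapBifunctorMapHomotopy₁ e₁.homotopyHomInvId (e₂.hom ≫ e₂.inv)
        (curriedTensor (ModuleCat.{u} A)) (ComplexShape.up ℤ)).trans
        (mapBifunctorMapHomotopy₂ (𝟙 K) e₂.homotopyHomInvId
          (curriedTensor (ModuleCat.{u} A)) (ComplexShape.up ℤ))).trans
        (Homotopy.ofEq (MonoidalCategory.id_tensorHom_id K L)))
  homotopyInvHomId :=
    (Homotopy.ofEq (MonoidalCategory.tensorHom_comp_tensorHom _ _ _ _)).trans
      (((mapBifunctorMapHomotopy₁ e₁.homotopyInvHomId (e₂.inv ≫ e₂.hom)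
        (curriedTensor (ModuleCat.{u} A)) (ComplexShape.up ℤ)).trans
        (mapBifunctorMapHomotopy₂ (𝟙 K') e₂.homotopyInvHomId
          (curriedTensor (ModuleCat.{u} A)) (ComplexShape.up ℤ))).trans
        (Homotopy.ofEq (MonoidalCategory.id_tensorHom_id K' L')))

end Homotopy

section Setup

/-- The homotopy category of `A`-modules. -/
abbrev HC := HomotopyCategory (ModuleCat.{u} A) (ComplexShape.up ℤ)

/-- The quotient functor. -/
abbrev qq : DRing.Cx A ⥤ HC A := HomotopyCategory.quotient _ _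

/-- Homotopy equivalences. -/
abbrev hEq : MorphismProperty (DRing.Cx A) :=
  HomologicalComplex.homotopyEquivalences (ModuleCat.{u} A) (ComplexShape.up ℤ)

/-- Acyclic complexes. -/
abbrev Bac : ObjectProperty (HC A) := HomotopyCategory.subcategoryAcyclic (ModuleCat.{u} A)

/-- Quasi-isomorphisms in the homotopy category. -/
abbrev WK : MorphismProperty (HC A) := (Bac A).trW

/-- K-flat objects of the homotopy category. -/
abbrev kfl : ObjectProperty (HC A) := kflat (curriedTensor (ModuleCat.{u} A))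

/-- The inclusion of K-flat objects, as a localizer morphism. -/
noncomputable abbrev Φfl := (kfl A).triangulatedLocalizerMorphism (Bac A)

instance containsIdentities_W₁fl :
    (((Bac A).inverseImage (kfl A).ι).trW).ContainsIdentities := inferInstance

instance containsIdentities_WK : (WK A).ContainsIdentities := inferInstance

lemma good_Φfl : Good (Φfl A) := by
  have := KFlatRing.hasExactColimitsOfShape_nat (R := A)
  exact good_triangulated (hasLeftRes KFlatRing.tensorLike)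

instance isLocalization_Qh_WK :
    (DerivedCategory.Qh : HC A ⥤ Dual.D A).IsLocalization (WK A) := by
  have h : (DerivedCategory.Qh : HC A ⥤ Dual.D A).IsLocalization
      (HomotopyCategory.quasiIso (ModuleCat.{u} A) (ComplexShape.up ℤ)) := inferInstance
  rwa [HomotopyCategory.quasiIso_eq_trW_subcategoryAcyclic] at h

variable {A}

lemma quasiIso_of_WK {X Y : DRing.Cx A} (f : X ⟶ Y)
    (hf : (HomotopyCategory.subcategoryAcyclic (ModuleCat.{u} A)).trW ((qq A).map f)) :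
    QuasiIso f := by
  rwa [← HomotopyCategory.quasiIso_eq_trW_subcategoryAcyclic,
    HomotopyCategory.quotient_map_mem_quasiIso_iff, HomologicalComplex.mem_quasiIso_iff] at hf

/-- `f ⊗ g` is a quasi-isomorphism when `f` is a quasi-isomorphism, `g` is a quasi-isomorphism
between K-flat complexes. -/
lemma quasiIso_tensorHom {K K' P P' : DRing.Cx A} (f : K ⟶ K') (g : P ⟶ P') (hf : QuasiIso f)
    (hg : QuasiIso g) (hP : DRing.IsKFlat A P) (hP' : DRing.IsKFlat A P') : QuasiIso (f ⊗ₘ g) := by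
  have := KFlatRing.hasExactColimitsOfShape_nat (R := A)
  have h1 : QuasiIso (f ⊗ₘ 𝟙 P) := by
    apply quasiIso_mapBifunctorMap_left (curriedTensor (ModuleCat.{u} A)) f P
    exact (KFlatRing.isKFlat_iff P).1 hP _ ((quasiIso_iff_acyclic_mappingCone f).1 hf)
  have h2 : QuasiIso (𝟙 K' ⊗ₘ g) :=
    quasiIso_mapBifunctorMap_of_kflat (T := curriedTensor (ModuleCat.{u} A)) KFlatRing.tensorLike g
      ((KFlatRing.isKFlat_iff P).1 hP) ((KFlatRing.isKFlat_iff P').1 hP') K'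
  have h3 : f ⊗ₘ g = (f ⊗ₘ 𝟙 P) ≫ (𝟙 K' ⊗ₘ g) := by
    rw [MonoidalCategory.tensorHom_comp_tensorHom, Category.comp_id, Category.id_comp]
  rw [h3]
  infer_instance

end Setup

section Main

lemma tensorT_map {K K' L L' : DRing.Cx A} (f : K ⟶ K') (g : L ⟶ L') :
    (DTen.tensorT A).map (X := (K, L)) (Y := (K', L')) (Prod.mkHom f g) = f ⊗ₘ g := by
  dsimp [DTen.tensorT]
  exact (MonoidalCategory.tensorHom_def f g).symm

/-- Pairs of homotopy equivalences are inverted by `(K, L) ↦ Q(K ⊗ L)`. -/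
lemma inverts_tensor₂ : ((hEq A).prod (hEq A)).IsInvertedBy (DTen.tensor₂ A) := by
  rintro ⟨K, L⟩ ⟨K', L'⟩ ⟨f, g⟩ ⟨⟨e₁, h₁⟩, ⟨e₂, h₂⟩⟩
  dsimp only at f g h₁ h₂
  subst h₁ h₂
  change IsIso (DerivedCategory.Q.map ((DTen.tensorT A).map (X := (K, L)) (Y := (K', L'))
    (Prod.mkHom e₁.hom e₂.hom)))
  rw [tensorT_map]
  exact isIso_Q_map_tensorHom_of_homotopyEquiv e₁ e₂

variable [DTen.HasLTen A]

/-- The counit `QK ⊗^L QP ⟶ Q(K ⊗ P)` is an isomorphism when `P` is K-flat. -/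
theorem isIso_ε_right (K P : DRing.Cx A) (hP : DRing.IsKFlat A P) :
    IsIso ((DTen.ε A).app (K, P)) := by
  have hg : Good (prodLM (LocalizerMorphism.id (WK A)) (Φfl A)) :=
    (good_id (WK A)).prod (good_Φfl A)
  have := hg.isLeftDerivabilityStructure
  let F_K := Localization.lift (DTen.tensor₂ A) (inverts_tensor₂ A) ((qq A).prod (qq A))
  let e : (qq A).prod (qq A) ⋙ F_K ≅ DTen.tensor₂ A := Localization.fac _ _ _
  let i : (qq A).prod (qq A) ⋙ (DerivedCategory.Qh.prod DerivedCategory.Qh) ≅ DTen.QQ A :=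
    NatIso.prod (DerivedCategory.quotientCompQhIso _) (DerivedCategory.quotientCompQhIso _)
  refine KanTransfer.isIso_app_of_derivability ((qq A).prod (qq A)) ((hEq A).prod (hEq A))
    (DerivedCategory.Qh.prod DerivedCategory.Qh) (DTen.QQ A) i (DTen.tensor₂ A) F_K e
    (DTen.LTen₂ A) (DTen.ε A) (DTen.qis₂ A) ((WK A).prod (WK A))
    (prodLM (LocalizerMorphism.id (WK A)) (Φfl A)) ?_ (K, P)
    ((qq A).obj K, ⟨(qq A).obj P, (KFlatRing.isKFlat_iff P).1 hP⟩) (Iso.refl _)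
  rintro ⟨X₁, X₂⟩ ⟨Y₁, Y₂⟩ ⟨f₁, f₂⟩ ⟨h₁, h₂⟩
  dsimp only at f₁ f₂ h₁ h₂
  obtain ⟨f₁', rfl⟩ : ∃ f' : X₁.as ⟶ Y₁.as, (qq A).map f' = f₁ := (qq A).map_surjective f₁
  obtain ⟨f₂', hf₂'⟩ : ∃ f' : X₂.obj.as ⟶ Y₂.obj.as, (qq A).map f' = f₂.hom :=
    (qq A).map_surjective f₂.hom
  have hq₁ : QuasiIso f₁' := quasiIso_of_WK f₁' h₁
  have hq₂ : QuasiIso f₂' := by
    apply quasiIso_of_WK
    rw [hf₂']
    rw [ObjectProperty.trW_inverseImage_ι_iff] at h₂
    obtain ⟨Z, g, k, hT, hZ⟩ := h₂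
    exact ⟨Z, g, k, hT, hZ.2⟩
  have h3 : IsIso ((DTen.tensor₂ A).map (X := (X₁.as, X₂.obj.as)) (Y := (Y₁.as, Y₂.obj.as))
      (Prod.mkHom f₁' f₂')) := by
    change IsIso (DerivedCategory.Q.map ((DTen.tensorT A).map (X := (X₁.as, X₂.obj.as))
      (Y := (Y₁.as, Y₂.obj.as)) (Prod.mkHom f₁' f₂')))
    rw [tensorT_map]
    have := quasiIso_tensorHom f₁' f₂' hq₁ hq₂ ((KFlatRing.isKFlat_iff _).2 X₂.property)
      ((KFlatRing.isKFlat_iff _).2 Y₂.property)
    infer_instance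
  have h4 := (NatIso.isIso_map_iff e (X := (X₁.as, X₂.obj.as)) (Y := (Y₁.as, Y₂.obj.as))
    (Prod.mkHom f₁' f₂')).2 h3
  have h5 : ((prodLM (LocalizerMorphism.id (WK A)) (Φfl A)).functor ⋙ F_K).map
      (X := (X₁, X₂)) (Y := (Y₁, Y₂)) (Prod.mkHom ((qq A).map f₁') f₂) =
      ((qq A).prod (qq A) ⋙ F_K).map (X := (X₁.as, X₂.obj.as)) (Y := (Y₁.as, Y₂.obj.as))
        (Prod.mkHom f₁' f₂') := by
    change F_K.map (Prod.mkHom ((qq A).map f₁') f₂.hom) =
      F_K.map (Prod.mkHom ((qq A).map f₁') ((qq A).map f₂'))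
    rw [hf₂']
    rfl
  exact h5 ▸ h4

end Main

section Triple

variable {A} in
/-- The tensor product of two K-flat complexes is K-flat. -/
lemma isKFlat_tensor {P P' : DRing.Cx A} (hP : DRing.IsKFlat A P) (hP' : DRing.IsKFlat A P') :
    DRing.IsKFlat A (P ⊗ P') := by
  intro M hM i
  have h1 := hP M hM
  have h2 := hP' (M ⊗ P) h1 i
  exact h2.of_iso ((HomologicalComplex.homologyFunctor _ _ i).mapIso (α_ M P P').symm)

lemma tensorT₃_map {K K' L L' M M' : DRing.Cx A} (f : K ⟶ K') (g : L ⟶ L') (h : M ⟶ M') :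
    (DTen.tensorT₃ A).map (X := (K, (L, M))) (Y := (K', (L', M')))
      (Prod.mkHom f (Prod.mkHom g h)) = f ⊗ₘ (g ⊗ₘ h) := by
  change (DTen.tensorT A).map (X := (K, L ⊗ M)) (Y := (K', L' ⊗ M'))
    (Prod.mkHom f ((DTen.tensorT A).map (X := (L, M)) (Y := (L', M')) (Prod.mkHom g h))) = _
  rw [tensorT_map, tensorT_map]

/-- Triples of homotopy equivalences are inverted by `(K, (L, M)) ↦ Q(K ⊗ (L ⊗ M))`. -/
lemma inverts_tensor₃ :
    ((hEq A).prod ((hEq A).prod (hEq A))).IsInvertedBy (DTen.tensor₃ A) := by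
  rintro ⟨K, L, M⟩ ⟨K', L', M'⟩ ⟨f, g, h⟩ ⟨⟨e₁, h₁⟩, ⟨e₂, h₂⟩, ⟨e₃, h₃⟩⟩
  dsimp only at f g h h₁ h₂ h₃
  subst h₁ h₂ h₃
  change IsIso (DerivedCategory.Q.map ((DTen.tensorT₃ A).map (X := (K, (L, M)))
    (Y := (K', (L', M'))) (Prod.mkHom e₁.hom (Prod.mkHom e₂.hom e₃.hom))))
  rw [tensorT₃_map]
  exact isIso_Q_map_tensorHom_of_homotopyEquiv e₁ (tensorHomotopyEquiv e₂ e₃)

variable [DTen.HasLTen₃ A]

/-- The counit of the triple derived tensor product is an isomorphism when the last two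
complexes are K-flat. -/
theorem isIso_ε₃ (K P₂ P₃ : DRing.Cx A) (h₂ : DRing.IsKFlat A P₂) (h₃ : DRing.IsKFlat A P₃) :
    IsIso ((DTen.ε₃ A).app (K, (P₂, P₃))) := by
  have hg : Good (prodLM (LocalizerMorphism.id (WK A)) (prodLM (Φfl A) (Φfl A))) :=
    (good_id (WK A)).prod ((good_Φfl A).prod (good_Φfl A))
  have := hg.isLeftDerivabilityStructure
  let q₃ := (qq A).prod ((qq A).prod (qq A))
  let F_K := Localization.lift (DTen.tensor₃ A) (inverts_tensor₃ A) q₃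
  let e : q₃ ⋙ F_K ≅ DTen.tensor₃ A := Localization.fac _ _ _
  let i₂ : (qq A).prod (qq A) ⋙ (DerivedCategory.Qh.prod DerivedCategory.Qh) ≅ DTen.QQ A :=
    NatIso.prod (DerivedCategory.quotientCompQhIso _) (DerivedCategory.quotientCompQhIso _)
  let i : q₃ ⋙ (DerivedCategory.Qh.prod (DerivedCategory.Qh.prod DerivedCategory.Qh)) ≅
      DTen.QQQ A :=
    NatIso.prod (DerivedCategory.quotientCompQhIso (ModuleCat.{u} A)) i₂
  refine KanTransfer.isIso_app_of_derivability q₃ ((hEq A).prod ((hEq A).prod (hEq A)))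
    (DerivedCategory.Qh.prod (DerivedCategory.Qh.prod DerivedCategory.Qh)) (DTen.QQQ A) i
    (DTen.tensor₃ A) F_K e (DTen.LTen₃ A) (DTen.ε₃ A) (DTen.qis₃ A)
    ((WK A).prod ((WK A).prod (WK A)))
    (prodLM (LocalizerMorphism.id (WK A)) (prodLM (Φfl A) (Φfl A))) ?_ (K, (P₂, P₃))
    ((qq A).obj K, (⟨(qq A).obj P₂, (KFlatRing.isKFlat_iff P₂).1 h₂⟩,
      ⟨(qq A).obj P₃, (KFlatRing.isKFlat_iff P₃).1 h₃⟩)) (Iso.refl _)
  rintro ⟨X₁, X₂, X₃⟩ ⟨Y₁, Y₂, Y₃⟩ ⟨f₁, f₂, f₃⟩ ⟨h₁, h₂', h₃'⟩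
  dsimp only at f₁ f₂ f₃ h₁ h₂' h₃'
  obtain ⟨f₁', rfl⟩ : ∃ f' : X₁.as ⟶ Y₁.as, (qq A).map f' = f₁ := (qq A).map_surjective f₁
  obtain ⟨f₂', hf₂'⟩ : ∃ f' : X₂.obj.as ⟶ Y₂.obj.as, (qq A).map f' = f₂.hom :=
    (qq A).map_surjective f₂.hom
  obtain ⟨f₃', hf₃'⟩ : ∃ f' : X₃.obj.as ⟶ Y₃.obj.as, (qq A).map f' = f₃.hom :=
    (qq A).map_surjective f₃.hom
  have hq₁ : QuasiIso f₁' := quasiIso_of_WK f₁' h₁
  have hq₂ : QuasiIso f₂' := by
    apply quasiIso_of_WK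
    rw [hf₂']
    rw [ObjectProperty.trW_inverseImage_ι_iff] at h₂'
    obtain ⟨Z, g, k, hT, hZ⟩ := h₂'
    exact ⟨Z, g, k, hT, hZ.2⟩
  have hq₃ : QuasiIso f₃' := by
    apply quasiIso_of_WK
    rw [hf₃']
    rw [ObjectProperty.trW_inverseImage_ι_iff] at h₃'
    obtain ⟨Z, g, k, hT, hZ⟩ := h₃'
    exact ⟨Z, g, k, hT, hZ.2⟩
  have kX₂ := (KFlatRing.isKFlat_iff _).2 X₂.property
  have kY₂ := (KFlatRing.isKFlat_iff _).2 Y₂.property
  have kX₃ := (KFlatRing.isKFlat_iff _).2 X₃.property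
  have kY₃ := (KFlatRing.isKFlat_iff _).2 Y₃.property
  have h3 : IsIso ((DTen.tensor₃ A).map (X := (X₁.as, (X₂.obj.as, X₃.obj.as)))
      (Y := (Y₁.as, (Y₂.obj.as, Y₃.obj.as))) (Prod.mkHom f₁' (Prod.mkHom f₂' f₃'))) := by
    change IsIso (DerivedCategory.Q.map ((DTen.tensorT₃ A).map
      (X := (X₁.as, (X₂.obj.as, X₃.obj.as))) (Y := (Y₁.as, (Y₂.obj.as, Y₃.obj.as)))
      (Prod.mkHom f₁' (Prod.mkHom f₂' f₃'))))
    rw [tensorT₃_map]
    have h23 := quasiIso_tensorHom f₂' f₃' hq₂ hq₃ kX₃ kY₃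
    have := quasiIso_tensorHom f₁' (f₂' ⊗ₘ f₃') hq₁ h23 (isKFlat_tensor kX₂ kX₃)
      (isKFlat_tensor kY₂ kY₃)
    infer_instance
  have h4 := (NatIso.isIso_map_iff e (X := (X₁.as, (X₂.obj.as, X₃.obj.as)))
    (Y := (Y₁.as, (Y₂.obj.as, Y₃.obj.as))) (Prod.mkHom f₁' (Prod.mkHom f₂' f₃'))).2 h3
  have h5 : ((prodLM (LocalizerMorphism.id (WK A)) (prodLM (Φfl A) (Φfl A))).functor ⋙ F_K).map
      (X := (X₁, (X₂, X₃))) (Y := (Y₁, (Y₂, Y₃)))
      (Prod.mkHom ((qq A).map f₁') (Prod.mkHom f₂ f₃)) =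
      (q₃ ⋙ F_K).map (X := (X₁.as, (X₂.obj.as, X₃.obj.as)))
        (Y := (Y₁.as, (Y₂.obj.as, Y₃.obj.as))) (Prod.mkHom f₁' (Prod.mkHom f₂' f₃')) := by
    change F_K.map (Prod.mkHom ((qq A).map f₁') (Prod.mkHom f₂.hom f₃.hom)) =
      F_K.map (Prod.mkHom ((qq A).map f₁') (Prod.mkHom ((qq A).map f₂') ((qq A).map f₃')))
    rw [hf₂', hf₃']
    rfl
  exact h5 ▸ h4

end Triple

end Groth.Agent.H53.DTenComp
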