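import Groth.Prelude.Def_DRing4
import Groth.Prelude.Def_TotMap
import Groth.Agent.H53.CxDerive
import Groth.Agent.H53.DTenComp
import Mathlib.Algebra.Homology.BifunctorFlip
import Mathlib.CategoryTheory.Monoidal.Braided.Basic
import Mathlib.CategoryTheory.Functor.Derived.PointwiseLeftDerived

/-!
# `- ⊗^L E` over a ring is computed on K-flat complexes (helper53 library)

For a complex `E` of `A`-modules with `[DRing.HasLTensorCx A E]`, the counit
`ε E : Q ⋙ DRing.LTensorCx A E ⟶ DRing.tensorCxQ A E` of the total left derived functor is an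
isomorphism at every K-flat complex `P` (`isIso_ε_app`), so
`(DRing.LTensorCx A E).obj (DRing.toD P) ≅ DRing.toD (P ⊗ E)` (`objIso`, natural: `objIso_hom_naturality`).
If `E` itself is K-flat, `ε E` is an isomorphism everywhere (`isIso_ε_of_isKFlat`).
`DRing.LTensorCx A E` is an absolute derived functor (`isLeftDerivedFunctor_comp`) and
`hasLTensorCx` proves the binder.
-/

set_option autoImplicit false
universe u
open CategoryTheory CategoryTheory.Limits MonoidalCategory HomologicalComplex
attribute [local instance] HasDerivedCategory.standard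

namespace Groth.Agent.H53.LTensorCxObj

open Groth.Agent.H31 Groth.Agent.H31.KFlat Groth.Agent.H40.LTensorComp Groth.Agent.H40.LeftDer
  Groth.Agent.H53.ProdDer Groth.Agent.H53 Groth.Agent.H53.CxDerive

variable (A : Type u) [CommRing A]

/-- The tensor bifunctor. -/
noncomputable abbrev T : ModuleCat.{u} A ⥤ ModuleCat.{u} A ⥤ ModuleCat.{u} A :=
  curriedTensor (ModuleCat.{u} A)

/-- The flipped tensor bifunctor. -/
noncomputable abbrev Tf : ModuleCat.{u} A ⥤ ModuleCat.{u} A ⥤ ModuleCat.{u} A := (T A).flip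

instance additive_Tf : (Tf A).Additive := additive_flip (T A)

instance additive_Tf_obj (X : ModuleCat.{u} A) : ((Tf A).obj X).Additive :=
  additive_flip_obj (T A) X

instance preserves_Tf_flip_obj (X : ModuleCat.{u} A) :
    PreservesColimitsOfShape ℕ ((Tf A).flip.obj X) :=
  preservesColimitsOfShape_of_natIso (flipFlipObjIso (T A) X)

lemma tensorLike_Tf : TensorLike (Tf A) := tensorLike_flip KFlatRing.tensorLike

/-- Left K-flat objects of the homotopy category: `P ⊗ -` preserves acyclic complexes. -/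
abbrev lkfl : ObjectProperty (CxDerive.HC (ModuleCat.{u} A)) := kflat (Tf A)

lemma hasLeftRes_lkfl : HasLeftRes (lkfl A) (CxDerive.Bac (ModuleCat.{u} A)) := by
  have := KFlatRing.hasExactColimitsOfShape_nat (R := A)
  exact hasLeftRes (tensorLike_Tf A)

variable {A}

/-- A K-flat complex (`- ⊗ P` preserves acyclic complexes) is left K-flat. -/
lemma KF_Tf_of_isKFlat (P : DRing.Cx A) (hP : DRing.IsKFlat A P) : KF (Tf A) P := by
  intro L hL
  exact acyclic_of_iso
    (TotMap.mapBifunctorNatIso L P (ComplexShape.up ℤ)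
      (BraidedCategory.curriedBraidingNatIso (ModuleCat.{u} A)))
    ((KFlatRing.isKFlat_iff P).1 hP L hL)

/-- `f ▷ E` is a quasi-isomorphism when `f` is a quasi-isomorphism between left K-flat
complexes. -/
lemma quasiIso_whiskerRight {P P' : DRing.Cx A} (f : P ⟶ P') (hf : QuasiIso f)
    (hP : KF (Tf A) P) (hP' : KF (Tf A) P') (E : DRing.Cx A) : QuasiIso (f ▷ E) := by
  have := KFlatRing.hasExactColimitsOfShape_nat (R := A)
  have h1 : QuasiIso (mapBifunctorMap (𝟙 E) f (Tf A) (ComplexShape.up ℤ)) :=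
    quasiIso_mapBifunctorMap_of_kflat (T := Tf A) (tensorLike_Tf A) f hP hP' E
  have h2 := mapBifunctorFlipIso_hom_naturality f (𝟙 E) (T A) (ComplexShape.up ℤ)
  have h4 : mapBifunctorMap f (𝟙 E) (T A) (ComplexShape.up ℤ) =
      (mapBifunctorFlipIso P E (T A) (ComplexShape.up ℤ)).inv ≫
        mapBifunctorMap (𝟙 E) f (Tf A) (ComplexShape.up ℤ) ≫
          (mapBifunctorFlipIso P' E (T A) (ComplexShape.up ℤ)).hom := by
    rw [h2, Iso.inv_hom_id_assoc]
  have h3 : QuasiIso (mapBifunctorMap f (𝟙 E) (T A) (ComplexShape.up ℤ)) := by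
    rw [h4]
    infer_instance
  rw [← MonoidalCategory.tensorHom_id]
  exact h3

variable (E : DRing.Cx A)

/-- Left K-flat complexes are adapted to `- ⊗ E`. -/
lemma adapted : Adapted (lkfl A) (DRing.tensorCxQ A E) where
  res := hasLeftRes_lkfl A
  inv₁ := by
    rintro K K' f ⟨e, rfl⟩
    have := DTenComp.isIso_Q_map_tensorHom_of_homotopyEquiv e (HomotopyEquiv.refl E)
    change IsIso (DerivedCategory.Q.map (e.hom ▷ E))
    rw [← MonoidalCategory.tensorHom_id]
    exact this
  inv₂ f hP hP' hf := by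
    have := quasiIso_whiskerRight f hf hP hP' E
    change IsIso (DerivedCategory.Q.map (f ▷ E))
    rw [DerivedCategory.isIso_Q_map_iff_quasiIso]
    exact this

/-- The binder `DRing.HasLTensorCx A E` always holds. -/
theorem hasLTensorCx : DRing.HasLTensorCx A E := (adapted E).hasLeft

variable [DRing.HasLTensorCx A E]

/-- The counit of the total left derived functor `- ⊗^L E`. -/
noncomputable abbrev ε : DerivedCategory.Q ⋙ DRing.LTensorCx A E ⟶ DRing.tensorCxQ A E :=
  (DRing.tensorCxQ A E).totalLeftDerivedCounit DerivedCategory.Q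
    (HomologicalComplex.quasiIso (ModuleCat.{u} A) (ComplexShape.up ℤ))

/-- The counit is an isomorphism on left K-flat complexes. -/
theorem isIso_ε_app_of_KF (P : DRing.Cx A) (hP : KF (Tf A) P) : IsIso ((ε E).app P) :=
  (adapted E).isIso_app (DRing.LTensorCx A E) (ε E) P hP

/-- The counit is an isomorphism on K-flat complexes. -/
theorem isIso_ε_app (P : DRing.Cx A) (hP : DRing.IsKFlat A P) : IsIso ((ε E).app P) :=
  isIso_ε_app_of_KF E P (KF_Tf_of_isKFlat P hP)

/-- `QP ⊗^L E ≅ Q(P ⊗ E)` for `P` K-flat. -/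
noncomputable def objIso (P : DRing.Cx A) (hP : DRing.IsKFlat A P) :
    (DRing.LTensorCx A E).obj (DRing.toD P) ≅ DRing.toD (P ⊗ E) :=
  haveI := isIso_ε_app E P hP
  asIso ((ε E).app P)

@[simp]
lemma objIso_hom (P : DRing.Cx A) (hP : DRing.IsKFlat A P) :
    (objIso E P hP).hom = (ε E).app P := rfl

lemma objIso_hom_naturality {P P' : DRing.Cx A} (f : P ⟶ P') (hP : DRing.IsKFlat A P)
    (hP' : DRing.IsKFlat A P') :
    (DRing.LTensorCx A E).map (DerivedCategory.Q.map f) ≫ (objIso E P' hP').hom =
      (objIso E P hP).hom ≫ DerivedCategory.Q.map (f ▷ E) :=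
  (ε E).naturality f

/-- `- ⊗^L E` is an absolute left derived functor. -/
theorem isLeftDerivedFunctor_comp {E' : Type*} [Category E'] (H : Dual.D A ⥤ E') :
    (DRing.LTensorCx A E ⋙ H).IsLeftDerivedFunctor
      ((Functor.associator _ _ _).inv ≫ Functor.whiskerRight (ε E) H)
      (HomologicalComplex.quasiIso (ModuleCat.{u} A) (ComplexShape.up ℤ)) :=
  (adapted E).isLeftDerivedFunctor_comp (DRing.LTensorCx A E) (ε E) H

omit [DRing.HasLTensorCx A E] in
/-- If `E` is K-flat, `- ⊗ E` preserves quasi-isomorphisms. -/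
lemma inverts_of_isKFlat (hE : DRing.IsKFlat A E) :
    (HomologicalComplex.quasiIso (ModuleCat.{u} A) (ComplexShape.up ℤ)).IsInvertedBy
      (DRing.tensorCxQ A E) := by
  intro K K' f hf
  have hf' : QuasiIso f := (HomologicalComplex.mem_quasiIso_iff f).1 hf
  have h1 : QuasiIso (𝟙 E) := inferInstance
  have := DTenComp.quasiIso_tensorHom f (𝟙 E) hf' h1 hE hE
  change IsIso (DerivedCategory.Q.map (f ▷ E))
  rw [DerivedCategory.isIso_Q_map_iff_quasiIso, ← MonoidalCategory.tensorHom_id]
  exact this

/-- If `E` is K-flat, the counit is an isomorphism. -/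
theorem isIso_ε_of_isKFlat (hE : DRing.IsKFlat A E) : IsIso (ε E) :=
  Functor.isIso_of_isLeftDerivedFunctor_of_inverts (DRing.LTensorCx A E) (ε E)
    (inverts_of_isKFlat E hE)

end Groth.Agent.H53.LTensorCxObj
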