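import Groth.Prelude.Def_DTen4
import Groth.Agent.H53.DTenComp
import Groth.Agent.H53.KanTransfer2
import Groth.Agent.H53.LBaseChange
import Mathlib.CategoryTheory.Functor.Derived.Adjunction

/-!
# Derived base change is left adjoint to restriction (helper53 library)

For `φ : R →+* A`:

* `adjCx φ : extCx φ ⊣ resCx φ`, the termwise adjunction on cochain complexes (unit `DTen.unitCx φ`);
* `hasLeft φ`: the total left derived functor of `extCx φ ⋙ Q` along `Q` exists;
* for any left derived functor `(G', α)` of `extCx φ ⋙ Q` along `Q`: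
  `isIso_app_kflat` (`α` is an isomorphism on K-flat complexes),
  `isLeftDerivedFunctor_comp` (`G'` is an absolute derived functor),
  `derivedAdj : G' ⊣ DRing.restrictD φ` with `derivedAdj_unit_fac`.
-/

set_option autoImplicit false
universe u
open CategoryTheory CategoryTheory.Limits MonoidalCategory
attribute [local instance] HasDerivedCategory.standard

namespace Groth.Agent.H53.BaseAdj

open Groth.Agent.H31 Groth.Agent.H53.DTenComp Groth.Agent.H53.ProdDer Groth.Agent.H53 DTen

variable {R A : Type u} [CommRing R] [CommRing A] (φ : R →+* A)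

/-- The counit maps `(M|_R) ⊗_R A ⟶ M`, termwise on complexes. -/
noncomputable def counitCx : resCx φ ⋙ extCx φ ⟶ 𝟭 (DRing.Cx A) where
  app K :=
    { f := fun i => (ModuleCat.extendRestrictScalarsAdj.{u, u, u} φ).counit.app (K.X i)
      comm' := fun i j _ => by
        have h := (ModuleCat.extendRestrictScalarsAdj.{u, u, u} φ).counit.naturality (K.d i j)
        dsimp at h ⊢
        exact h.symm }
  naturality K K' f := HomologicalComplex.hom_ext _ _ (fun i => by
    have h := (ModuleCat.extendRestrictScalarsAdj.{u, u, u} φ).counit.naturality (f.f i)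
    dsimp at h ⊢
    exact h)

/-- The termwise adjunction between extension and restriction of scalars on complexes. -/
noncomputable def adjCx : extCx φ ⊣ resCx φ where
  unit := unitCx φ
  counit := counitCx φ
  left_triangle_components K := by
    refine HomologicalComplex.hom_ext _ _ (fun i => ?_)
    exact (ModuleCat.extendRestrictScalarsAdj.{u, u, u} φ).left_triangle_components (K.X i)
  right_triangle_components K := by
    refine HomologicalComplex.hom_ext _ _ (fun i => ?_)
    exact (ModuleCat.extendRestrictScalarsAdj.{u, u, u} φ).right_triangle_components (K.X i)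

/-- `extCx φ ⋙ Q` factors through the homotopy category as `DRing.baseChangeKh φ`. -/
noncomputable def eK : qq R ⋙ DRing.baseChangeKh φ ≅ extCx φ ⋙ DerivedCategory.Q :=
  (Functor.associator _ _ _).symm ≪≫
    Functor.isoWhiskerRight
      ((ModuleCat.extendScalars.{u, u, u} φ).mapHomotopyCategoryFactors (ComplexShape.up ℤ))
      DerivedCategory.Qh ≪≫
    Functor.associator _ _ _ ≪≫ Functor.isoWhiskerLeft _ (DerivedCategory.quotientCompQhIso _)

/-- Termwise base change inverts the quasi-isomorphisms between K-flat complexes. -/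
lemma derives :
    (((Bac R).inverseImage (kfl R).ι).trW).IsInvertedBy ((Φfl R).functor ⋙ DRing.baseChangeKh φ) := by
  intro X Y f hf
  obtain ⟨f', hf'⟩ : ∃ f' : X.obj.as ⟶ Y.obj.as, (qq R).map f' = f.hom :=
    (qq R).map_surjective f.hom
  have hq : QuasiIso f' := by
    apply quasiIso_of_WK
    rw [hf']
    rw [ObjectProperty.trW_inverseImage_ι_iff] at hf
    obtain ⟨Z, g, k, hT, hZ⟩ := hf
    exact ⟨Z, g, k, hT, hZ.2⟩
  have h1 : QuasiIso ((extCx φ).map f') :=
    LBaseChange.quasiIso_extCx_map φ f' hq ((KFlatRing.isKFlat_iff _).2 X.property)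
      ((KFlatRing.isKFlat_iff _).2 Y.property)
  change IsIso (DerivedCategory.Qh.map
    (((ModuleCat.extendScalars.{u, u, u} φ).mapHomotopyCategory (ComplexShape.up ℤ)).map f.hom))
  rw [← hf', DerivedCategory.isIso_Qh_map_iff]
  change HomotopyCategory.quasiIso _ _ ((HomotopyCategory.quotient _ _).map
    (((ModuleCat.extendScalars.{u, u, u} φ).mapHomologicalComplex _).map f'))
  rw [HomotopyCategory.quotient_map_mem_quasiIso_iff, HomologicalComplex.mem_quasiIso_iff]
  exact h1

/-- The total left derived functor of termwise base change along `Q` exists. -/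
theorem hasLeft : (extCx φ ⋙ DerivedCategory.Q).HasLeftDerivedFunctor (qis R) := by
  have := (good_Φfl R).isLeftDerivabilityStructure
  exact KanTransfer.hasLeftDerivedFunctor_of_derivability (qq R) (hEq R) DerivedCategory.Qh
    DerivedCategory.Q (DerivedCategory.quotientCompQhIso _) (extCx φ ⋙ DerivedCategory.Q)
    (DRing.baseChangeKh φ) (eK φ) (qis R) (WK R) (Φfl R) (derives φ)

section Derived

variable {E' : Type*} [Category E'] (H : Dual.D A ⥤ E')
variable (G' : Dual.D R ⥤ Dual.D A) (α : DerivedCategory.Q ⋙ G' ⟶ extCx φ ⋙ DerivedCategory.Q)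
  [G'.IsLeftDerivedFunctor α (qis R)]

/-- The counit of a left derived functor of termwise base change is an isomorphism on K-flat
complexes. -/
theorem isIso_app_kflat (K : DRing.Cx R) (hK : DRing.IsKFlat R K) : IsIso (α.app K) := by
  have := (good_Φfl R).isLeftDerivabilityStructure
  exact KanTransfer.isIso_app_of_derivability (qq R) (hEq R) DerivedCategory.Qh DerivedCategory.Q
    (DerivedCategory.quotientCompQhIso _) (extCx φ ⋙ DerivedCategory.Q) (DRing.baseChangeKh φ)
    (eK φ) G' α (qis R) (WK R) (Φfl R) (derives φ) K
    ⟨(qq R).obj K, (KFlatRing.isKFlat_iff K).1 hK⟩ (Iso.refl _)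

/-- A left derived functor of termwise base change is absolute. -/
theorem isLeftDerivedFunctor_comp :
    (G' ⋙ H).IsLeftDerivedFunctor
      ((Functor.associator _ _ _).inv ≫ Functor.whiskerRight α H) (qis R) := by
  have := (good_Φfl R).isLeftDerivabilityStructure
  refine KanTransfer.isLeftDerivedFunctor_of_isIso (qq R) (hEq R) DerivedCategory.Qh
    DerivedCategory.Q (DerivedCategory.quotientCompQhIso _)
    ((extCx φ ⋙ DerivedCategory.Q) ⋙ H) (DRing.baseChangeKh φ ⋙ H)
    ((Functor.associator _ _ _).symm ≪≫ Functor.isoWhiskerRight (eK φ) H)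
    (G' ⋙ H) _ (qis R) (WK R) (Φfl R)
    (MorphismProperty.IsInvertedBy.of_comp _ _ (derives φ) H) ?_
  intro X₁
  refine ⟨X₁.obj.as, Iso.refl _, ?_⟩
  have := isIso_app_kflat φ G' α X₁.obj.as ((KFlatRing.isKFlat_iff _).2 X₁.property)
  simp only [NatTrans.comp_app, Functor.associator_inv_app, Functor.whiskerRight_app,
    Category.id_comp]
  infer_instance

/-- A left derived functor of termwise base change is left adjoint to restriction of scalars. -/
noncomputable def derivedAdj : G' ⊣ DRing.restrictD φ := by
  haveI : (DRing.restrictD φ).IsRightDerivedFunctor (resFactors φ).inv (qis A) :=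
    Functor.isRightDerivedFunctor_of_inverts (qis A) _ (resFactors φ)
  haveI : (G' ⋙ DRing.restrictD φ).IsLeftDerivedFunctor
      ((Functor.associator _ _ _).inv ≫ Functor.whiskerRight α (DRing.restrictD φ)) (qis R) :=
    isLeftDerivedFunctor_comp φ (DRing.restrictD φ) G' α
  haveI : (DRing.restrictD φ ⋙ G').IsRightDerivedFunctor
      (Functor.whiskerRight (resFactors φ).inv G' ≫ (Functor.associator _ _ _).hom) (qis A) :=
    Functor.isRightDerivedFunctor_of_inverts (qis A) _
      ((Functor.associator _ _ _).symm ≪≫ Functor.isoWhiskerRight (resFactors φ) G')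
  exact (adjCx φ).derived (qis R) (qis A) α (resFactors φ).inv

lemma derivedAdj_unit_fac (K : DRing.Cx R) :
    (derivedAdj φ G' α).unit.app (DerivedCategory.Q.obj K) ≫
        (DRing.restrictD φ).map (α.app K) =
      DerivedCategory.Q.map ((unitCx φ).app K) ≫ (resFactors φ).inv.app ((extCx φ).obj K) := by
  have : (DRing.restrictD φ).IsRightDerivedFunctor (resFactors φ).inv (qis A) :=
    Functor.isRightDerivedFunctor_of_inverts (qis A) _ (resFactors φ)
  have : (G' ⋙ DRing.restrictD φ).IsLeftDerivedFunctor
      ((Functor.associator _ _ _).inv ≫ Functor.whiskerRight α (DRing.restrictD φ)) (qis R) :=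
    isLeftDerivedFunctor_comp φ (DRing.restrictD φ) G' α
  exact (adjCx φ).derivedη_fac_app (qis R) α (resFactors φ).inv K

end Derived

end Groth.Agent.H53.BaseAdj
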