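import Groth.Prelude.Def_ModSite

set_option autoImplicit false
universe u
open CategoryTheory CategoryTheory.Limits Opposite

namespace Groth.Agent.H53

open ModSite

variable {C : Type u} [SmallCategory C] {J : GrothendieckTopology C}
  (O : Sheaf J CommRingCat.{u}) (U : C)

/-- sections of the restriction of `M` to `C/U` are the sections of `M` over `U` -/
noncomputable def restrSectionsEquiv (M : Mod O) :
    SheafOfModules.sections ((restr O U).obj M) ≃ M.val.obj (op U) where
  toFun s := s.val (op (Over.mk (𝟙 U)))
  invFun m := PresheafOfModules.sectionsMk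
    (fun W => M.val.map W.unop.hom.op m)
    (by
      intro W W' g
      have h : g.unop.left ≫ W.unop.hom = W'.unop.hom := Over.w g.unop
      have := M.val.map_comp_apply W.unop.hom.op g.unop.left.op m
      rw [← op_comp, h] at this
      exact this.symm)
  left_inv s := by
    apply PresheafOfModules.sections_ext
    intro W
    exact PresheafOfModules.sections_property s
      (Over.homMk W.unop.hom : W.unop ⟶ Over.mk (𝟙 U)).op
  right_inv m := by
    change M.val.map (𝟙 U).op m = m
    rw [op_id, M.val.map_id]
    rfl

/-- `Hom(freeOn O U, M) ≃ M(U)` -/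
noncomputable def freeOnHomEquiv (M : Mod O) :
    (freeOn O U ⟶ M) ≃ M.val.obj (op U) :=
  ((extZeroAdj O U).homEquiv _ _).trans
    ((SheafOfModules.unitHomEquiv _).trans (restrSectionsEquiv O U M))

lemma freeOnHomEquiv_comp {M M' : Mod O} (a : freeOn O U ⟶ M) (g : M ⟶ M') :
    freeOnHomEquiv O U M' (a ≫ g) = g.val.app (op U) (freeOnHomEquiv O U M a) := by
  simp only [freeOnHomEquiv, Equiv.trans_apply]
  rw [Adjunction.homEquiv_naturality_right, SheafOfModules.unitHomEquiv_comp_apply]
  rfl

lemma freeOnHomEquiv_symm_comp {M M' : Mod O} (m : M.val.obj (op U)) (g : M ⟶ M') :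
    (freeOnHomEquiv O U M).symm m ≫ g = (freeOnHomEquiv O U M').symm (g.val.app (op U) m) := by
  apply (freeOnHomEquiv O U M').injective
  rw [freeOnHomEquiv_comp, Equiv.apply_symm_apply, Equiv.apply_symm_apply]

end Groth.Agent.H53
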