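import Groth.Prelude.Def_AlgSpInf

set_option autoImplicit false
universe u
open CategoryTheory CategoryTheory.Limits AlgebraicGeometry

namespace Groth.Agent.H53

variable {S : Scheme.{u}}

/-- Reuse the ring data of an infinitesimal lifting square for another morphism. -/
noncomputable def retarget {F G : AlgSp.Sp S} {f : F ⟶ G} (sq : AlgSp.InfSq f) {F' G' : AlgSp.Sp S}
    (f' : F' ⟶ G') (top : (AlgSp.yon S).obj sq.ptT ⟶ F') (bot : (AlgSp.yon S).obj sq.ptT' ⟶ G')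
    (comm : top ≫ f' = (AlgSp.yon S).map sq.j ≫ bot) : AlgSp.InfSq f' where
  A := sq.A
  I := sq.I
  sq_zero := sq.sq_zero
  str := sq.str
  top := top
  bot := bot
  comm := comm

theorem smooth_lift {F G : AlgSp.Sp S} {f : F ⟶ G} (sq : AlgSp.InfSq f) {F' G' : AlgSp.Sp S}
    {f' : F' ⟶ G'} (h : AlgSp.IsFormallySmoothMor f')
    (top : (AlgSp.yon S).obj sq.ptT ⟶ F') (bot : (AlgSp.yon S).obj sq.ptT' ⟶ G')
    (comm : top ≫ f' = (AlgSp.yon S).map sq.j ≫ bot) :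
    ∃ l : (AlgSp.yon S).obj sq.ptT' ⟶ F', (AlgSp.yon S).map sq.j ≫ l = top ∧ l ≫ f' = bot :=
  h (retarget sq f' top bot comm)

theorem unram_uniq {F G : AlgSp.Sp S} {f : F ⟶ G} (sq : AlgSp.InfSq f) {F' G' : AlgSp.Sp S}
    {f' : F' ⟶ G'} (h : AlgSp.IsFormallyUnramifiedMor f')
    (l l' : (AlgSp.yon S).obj sq.ptT' ⟶ F')
    (h1 : (AlgSp.yon S).map sq.j ≫ l = (AlgSp.yon S).map sq.j ≫ l') (h2 : l ≫ f' = l' ≫ f') :
    l = l' :=
  h (retarget sq f' ((AlgSp.yon S).map sq.j ≫ l) (l ≫ f') (Category.assoc _ _ _)) l l'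
    rfl rfl h1.symm h2.symm

theorem hasUniqLift_iff {F G : AlgSp.Sp S} {f : F ⟶ G} (sq : AlgSp.InfSq f) :
    sq.HasUniqLift ↔ sq.HasLift ∧ sq.HasUniq := by
  constructor
  · rintro ⟨l, ⟨h1, h2⟩, hu⟩
    refine ⟨⟨l, h1, h2⟩, fun l₁ l₂ a1 a2 b1 b2 => ?_⟩
    rw [hu l₁ ⟨a1, a2⟩, hu l₂ ⟨b1, b2⟩]
  · rintro ⟨⟨l, h1, h2⟩, hu⟩
    exact ⟨l, ⟨h1, h2⟩, fun l' h' => hu l' l h'.1 h'.2 h1 h2⟩

theorem isFormallyEtaleMor_iff {F G : AlgSp.Sp S} (f : F ⟶ G) :
    AlgSp.IsFormallyEtaleMor f ↔ AlgSp.IsFormallySmoothMor f ∧ AlgSp.IsFormallyUnramifiedMor f := by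
  constructor
  · intro h
    exact ⟨fun sq => ((hasUniqLift_iff sq).1 (h sq)).1, fun sq => ((hasUniqLift_iff sq).1 (h sq)).2⟩
  · rintro ⟨h1, h2⟩ sq
    exact (hasUniqLift_iff sq).2 ⟨h1 sq, h2 sq⟩

theorem formallySmooth_comp {F G H : AlgSp.Sp S} (a : F ⟶ G) (b : G ⟶ H)
    (ha : AlgSp.IsFormallySmoothMor a) (hb : AlgSp.IsFormallySmoothMor b) :
    AlgSp.IsFormallySmoothMor (a ≫ b) := by
  intro sq
  obtain ⟨l1, h1, h2⟩ := smooth_lift sq hb (sq.top ≫ a) sq.bot (by simpa using sq.comm)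
  obtain ⟨l, h3, h4⟩ := smooth_lift sq ha sq.top l1 h1.symm
  exact ⟨l, h3, by rw [← Category.assoc, h4]; exact h2⟩

theorem formallyUnramified_comp {F G H : AlgSp.Sp S} (a : F ⟶ G) (b : G ⟶ H)
    (ha : AlgSp.IsFormallyUnramifiedMor a) (hb : AlgSp.IsFormallyUnramifiedMor b) :
    AlgSp.IsFormallyUnramifiedMor (a ≫ b) := by
  intro sq l l' h1 h2 h3 h4
  have e : l ≫ a = l' ≫ a := by
    apply unram_uniq sq hb
    · rw [← Category.assoc, ← Category.assoc, h1, h3]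
    · rw [Category.assoc, Category.assoc, h2, h4]
  exact unram_uniq sq ha l l' (h1.trans h3.symm) e

theorem formallyEtale_comp {F G H : AlgSp.Sp S} (a : F ⟶ G) (b : G ⟶ H)
    (ha : AlgSp.IsFormallyEtaleMor a) (hb : AlgSp.IsFormallyEtaleMor b) :
    AlgSp.IsFormallyEtaleMor (a ≫ b) := by
  rw [isFormallyEtaleMor_iff] at ha hb ⊢
  exact ⟨formallySmooth_comp a b ha.1 hb.1, formallyUnramified_comp a b ha.2 hb.2⟩

/-- If `a ≫ b` is formally unramified then so is `a`. -/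
theorem formallyUnramified_of_comp {F G H : AlgSp.Sp S} (a : F ⟶ G) (b : G ⟶ H)
    (hab : AlgSp.IsFormallyUnramifiedMor (a ≫ b)) : AlgSp.IsFormallyUnramifiedMor a := by
  intro sq l l' h1 h2 h3 h4
  apply unram_uniq sq hab l l' (h1.trans h3.symm)
  rw [← Category.assoc, ← Category.assoc, h2, h4]

/-- If `b` is formally unramified and `a ≫ b` is formally smooth then so is `a`. -/
theorem formallySmooth_of_comp {F G H : AlgSp.Sp S} (a : F ⟶ G) (b : G ⟶ H)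
    (hb : AlgSp.IsFormallyUnramifiedMor b)
    (hab : AlgSp.IsFormallySmoothMor (a ≫ b)) : AlgSp.IsFormallySmoothMor a := by
  intro sq
  obtain ⟨l, h1, h2⟩ := smooth_lift sq hab sq.top (sq.bot ≫ b)
      (by rw [← Category.assoc, sq.comm, Category.assoc])
  refine ⟨l, h1, ?_⟩
  apply unram_uniq sq hb
  · rw [← Category.assoc, h1, sq.comm]
  · rw [Category.assoc, h2]

theorem formallyEtale_of_comp {F G H : AlgSp.Sp S} (a : F ⟶ G) (b : G ⟶ H)
    (hb : AlgSp.IsFormallyUnramifiedMor b)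
    (hab : AlgSp.IsFormallyEtaleMor (a ≫ b)) : AlgSp.IsFormallyEtaleMor a := by
  rw [isFormallyEtaleMor_iff] at hab ⊢
  exact ⟨formallySmooth_of_comp a b hb hab.1, formallyUnramified_of_comp a b hab.2⟩

section BaseChange

variable {F G H P : AlgSp.Sp S} (a : F ⟶ G) (b : H ⟶ G) (b' : P ⟶ F) (a' : P ⟶ H)

theorem formallySmooth_baseChange (hP : IsPullback b' a' a b)
    (ha : AlgSp.IsFormallySmoothMor a) : AlgSp.IsFormallySmoothMor a' := by
  intro sq
  obtain ⟨l, h1, h2⟩ := smooth_lift sq ha (sq.top ≫ b') (sq.bot ≫ b)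
    (by rw [Category.assoc, hP.w, ← Category.assoc, sq.comm, Category.assoc])
  refine ⟨hP.lift l sq.bot h2, ?_, hP.lift_snd _ _ _⟩
  apply hP.hom_ext
  · rw [Category.assoc, hP.lift_fst, h1]
  · rw [Category.assoc, hP.lift_snd, sq.comm]

theorem formallyUnramified_baseChange (hP : IsPullback b' a' a b)
    (ha : AlgSp.IsFormallyUnramifiedMor a) : AlgSp.IsFormallyUnramifiedMor a' := by
  intro sq l l' h1 h2 h3 h4
  apply hP.hom_ext
  · apply unram_uniq sq ha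
    · rw [← Category.assoc, ← Category.assoc, h1, h3]
    · rw [Category.assoc, Category.assoc, hP.w, ← Category.assoc, ← Category.assoc, h2, h4]
  · rw [h2, h4]

theorem formallyEtale_baseChange (hP : IsPullback b' a' a b)
    (ha : AlgSp.IsFormallyEtaleMor a) : AlgSp.IsFormallyEtaleMor a' := by
  rw [isFormallyEtaleMor_iff] at ha ⊢
  exact ⟨formallySmooth_baseChange a b b' a' hP ha.1, formallyUnramified_baseChange a b b' a' hP ha.2⟩

end BaseChange

end Groth.Agent.H53
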