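import Mathlib.Algebra.Homology.BifunctorAssociator

/-!
# Naturality of the associator of total complexes in the first variable (helper53 library)
-/

set_option autoImplicit false
set_option linter.unusedSectionVars false
open CategoryTheory CategoryTheory.Limits

namespace Groth.Agent.H53.AssocNat

open HomologicalComplex

variable {C₁ C₂ C₁₂ C₂₃ C₃ C₄ : Type*}
  [Category C₁] [Category C₂] [Category C₃] [Category C₄] [Category C₁₂] [Category C₂₃]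
  [HasZeroMorphisms C₁] [HasZeroMorphisms C₂] [HasZeroMorphisms C₃]
  [Preadditive C₁₂] [Preadditive C₂₃] [Preadditive C₄]
  {F₁₂ : C₁ ⥤ C₂ ⥤ C₁₂} {G : C₁₂ ⥤ C₃ ⥤ C₄}
  {F : C₁ ⥤ C₂₃ ⥤ C₄} {G₂₃ : C₂ ⥤ C₃ ⥤ C₂₃}
  [F₁₂.PreservesZeroMorphisms] [∀ (X₁ : C₁), (F₁₂.obj X₁).PreservesZeroMorphisms]
  [G.Additive] [∀ (X₁₂ : C₁₂), (G.obj X₁₂).PreservesZeroMorphisms]
  [G₂₃.PreservesZeroMorphisms] [∀ (X₂ : C₂), (G₂₃.obj X₂).PreservesZeroMorphisms]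
  [F.PreservesZeroMorphisms] [∀ (X₁ : C₁), (F.obj X₁).Additive]
  (associator : bifunctorComp₁₂ F₁₂ G ≅ bifunctorComp₂₃ F G₂₃)
  {ι₁ ι₂ ι₃ ι₁₂ ι₂₃ ι₄ : Type*} [DecidableEq ι₄]
  {c₁ : ComplexShape ι₁} {c₂ : ComplexShape ι₂} {c₃ : ComplexShape ι₃}
  {K₁ K₁' : HomologicalComplex C₁ c₁} (f : K₁ ⟶ K₁') (K₂ : HomologicalComplex C₂ c₂)
  (K₃ : HomologicalComplex C₃ c₃)
  (c₁₂ : ComplexShape ι₁₂) (c₂₃ : ComplexShape ι₂₃) (c₄ : ComplexShape ι₄)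
  [TotalComplexShape c₁ c₂ c₁₂] [TotalComplexShape c₁₂ c₃ c₄]
  [TotalComplexShape c₂ c₃ c₂₃] [TotalComplexShape c₁ c₂₃ c₄]
  [HasMapBifunctor K₁ K₂ F₁₂ c₁₂] [HasMapBifunctor K₁' K₂ F₁₂ c₁₂]
  [HasMapBifunctor K₂ K₃ G₂₃ c₂₃]
  [ComplexShape.Associative c₁ c₂ c₃ c₁₂ c₂₃ c₄]
  [DecidableEq ι₁₂] [DecidableEq ι₂₃]
  [HasMapBifunctor (mapBifunctor K₁ K₂ F₁₂ c₁₂) K₃ G c₄]
  [HasMapBifunctor (mapBifunctor K₁' K₂ F₁₂ c₁₂) K₃ G c₄]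
  [HasMapBifunctor K₁ (mapBifunctor K₂ K₃ G₂₃ c₂₃) F c₄]
  [HasMapBifunctor K₁' (mapBifunctor K₂ K₃ G₂₃ c₂₃) F c₄]
  [HasGoodTrifunctor₁₂Obj F₁₂ G K₁ K₂ K₃ c₁₂ c₄]
  [HasGoodTrifunctor₁₂Obj F₁₂ G K₁' K₂ K₃ c₁₂ c₄]
  [HasGoodTrifunctor₂₃Obj F G₂₃ K₁ K₂ K₃ c₁₂ c₂₃ c₄]
  [HasGoodTrifunctor₂₃Obj F G₂₃ K₁' K₂ K₃ c₁₂ c₂₃ c₄]

set_option backward.isDefEq.respectTransparency false in
lemma ι₁₂_map (i₁ : ι₁) (i₂ : ι₂) (i₃ : ι₃) (j : ι₄)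
    (h : ComplexShape.r c₁ c₂ c₃ c₁₂ c₄ (i₁, i₂, i₃) = j) :
    mapBifunctor₁₂.ι F₁₂ G K₁ K₂ K₃ c₁₂ c₄ i₁ i₂ i₃ j h ≫
      (mapBifunctorMap (mapBifunctorMap f (𝟙 K₂) F₁₂ c₁₂) (𝟙 K₃) G c₄).f j =
    (G.map ((F₁₂.map (f.f i₁)).app (K₂.X i₂))).app (K₃.X i₃) ≫
      mapBifunctor₁₂.ι F₁₂ G K₁' K₂ K₃ c₁₂ c₄ i₁ i₂ i₃ j h := by
  have h₁ : ComplexShape.π c₁₂ c₃ c₄ (ComplexShape.π c₁ c₂ c₁₂ (i₁, i₂), i₃) = j := h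
  rw [mapBifunctor₁₂.ι_eq F₁₂ G K₁ K₂ K₃ c₁₂ c₄ i₁ i₂ i₃ _ j rfl h₁,
    mapBifunctor₁₂.ι_eq F₁₂ G K₁' K₂ K₃ c₁₂ c₄ i₁ i₂ i₃ _ j rfl h₁, Category.assoc,
    ι_mapBifunctorMap, HomologicalComplex.id_f, CategoryTheory.Functor.map_id, Category.id_comp,
    ← NatTrans.comp_app_assoc, ← CategoryTheory.Functor.map_comp, ι_mapBifunctorMap,
    HomologicalComplex.id_f, CategoryTheory.Functor.map_id, Category.id_comp,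
    CategoryTheory.Functor.map_comp, NatTrans.comp_app, Category.assoc]

set_option backward.isDefEq.respectTransparency false in
lemma ι₂₃_map (i₁ : ι₁) (i₂ : ι₂) (i₃ : ι₃) (j : ι₄)
    (h : ComplexShape.r c₁ c₂ c₃ c₁₂ c₄ (i₁, i₂, i₃) = j) :
    mapBifunctor₂₃.ι F G₂₃ K₁ K₂ K₃ c₁₂ c₂₃ c₄ i₁ i₂ i₃ j h ≫
      (mapBifunctorMap f (𝟙 (mapBifunctor K₂ K₃ G₂₃ c₂₃)) F c₄).f j =
    (F.map (f.f i₁)).app ((G₂₃.obj (K₂.X i₂)).obj (K₃.X i₃)) ≫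
      mapBifunctor₂₃.ι F G₂₃ K₁' K₂ K₃ c₁₂ c₂₃ c₄ i₁ i₂ i₃ j h := by
  have h' : ComplexShape.π c₁ c₂₃ c₄ (i₁, ComplexShape.π c₂ c₃ c₂₃ (i₂, i₃)) = j := by
    rw [← h, ← ComplexShape.assoc c₁ c₂ c₃ c₁₂ c₂₃ c₄]
    rfl
  rw [mapBifunctor₂₃.ι_eq F G₂₃ K₁ K₂ K₃ c₁₂ c₂₃ c₄ i₁ i₂ i₃ _ j rfl h',
    mapBifunctor₂₃.ι_eq F G₂₃ K₁' K₂ K₃ c₁₂ c₂₃ c₄ i₁ i₂ i₃ _ j rfl h', Category.assoc,
    ι_mapBifunctorMap, HomologicalComplex.id_f, CategoryTheory.Functor.map_id, Category.id_comp,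
    NatTrans.naturality_assoc]

set_option backward.isDefEq.respectTransparency false in
/-- Naturality of `mapBifunctorAssociator` in the first complex. -/
lemma mapBifunctorAssociator_hom_naturality₁ :
    mapBifunctorMap (mapBifunctorMap f (𝟙 K₂) F₁₂ c₁₂) (𝟙 K₃) G c₄ ≫
      (mapBifunctorAssociator associator K₁' K₂ K₃ c₁₂ c₂₃ c₄).hom =
    (mapBifunctorAssociator associator K₁ K₂ K₃ c₁₂ c₂₃ c₄).hom ≫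
      mapBifunctorMap f (𝟙 (mapBifunctor K₂ K₃ G₂₃ c₂₃)) F c₄ := by
  refine HomologicalComplex.hom_ext _ _ (fun j => ?_)
  change (mapBifunctorMap (mapBifunctorMap f (𝟙 K₂) F₁₂ c₁₂) (𝟙 K₃) G c₄).f j ≫
      (mapBifunctorAssociatorX associator K₁' K₂ K₃ c₁₂ c₂₃ c₄ j).hom =
    (mapBifunctorAssociatorX associator K₁ K₂ K₃ c₁₂ c₂₃ c₄ j).hom ≫
      (mapBifunctorMap f (𝟙 (mapBifunctor K₂ K₃ G₂₃ c₂₃)) F c₄).f j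
  apply mapBifunctor₁₂.hom_ext
  intro i₁ i₂ i₃ h
  have hn : (G.map ((F₁₂.map (f.f i₁)).app (K₂.X i₂))).app (K₃.X i₃) ≫
      ((associator.hom.app (K₁'.X i₁)).app (K₂.X i₂)).app (K₃.X i₃) =
    ((associator.hom.app (K₁.X i₁)).app (K₂.X i₂)).app (K₃.X i₃) ≫
      (F.map (f.f i₁)).app ((G₂₃.obj (K₂.X i₂)).obj (K₃.X i₃)) :=
    NatTrans.naturality_app_app associator.hom (f.f i₁) (K₂.X i₂) (K₃.X i₃)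
  rw [reassoc_of% (ι₁₂_map f K₂ K₃ c₁₂ c₄ i₁ i₂ i₃ j h), ι_mapBifunctorAssociatorX_hom,
    ι_mapBifunctorAssociatorX_hom_assoc, ι₂₃_map f K₂ K₃ c₁₂ c₂₃ c₄ i₁ i₂ i₃ j h,
    reassoc_of% hn]

end Groth.Agent.H53.AssocNat
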