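import Groth.Agent.H53.SiteTensor
import Groth.Agent.H53.CxDerive
import Groth.Agent.H53.AssocNat
import Groth.Agent.H31.KFlatTensor
import Mathlib.CategoryTheory.Functor.Derived.PointwiseLeftDerived
import Mathlib.CategoryTheory.Adjunction.Unique

/-!
# `- ⊗^L K` on a ringed site: computation on K-flat complexes and associativity (helper53 library)

For complexes `K`, `L` of `O`-modules on a ringed site:
* `adapted K`: left K-flat complexes are adapted to `- ⊗ K` (so `ModSite.HasLTensorCx K` holds,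
  `hasLTensorCx`);
* `inverts_of_isKFlat`: if `L` is K-flat, `- ⊗ L` preserves quasi-isomorphisms, so the counit of any
  left derived functor of `- ⊗ L` is an isomorphism (`isIso_counit_of_isKFlat`);
* `Θ K L : (- ⊗ K) ⊗ L ≅ - ⊗ (K ⊗ L)` as functors on complexes;
* `compIso`: for `L` K-flat, `(- ⊗^L K) ⊗^L L ≅ - ⊗^L (K ⊗ L)` for any choice of left derived
  functors; `nonempty_rightAdj_iso`: the corresponding statement for right adjoints.
-/

set_option autoImplicit false
universe u
open CategoryTheory CategoryTheory.Limits HomologicalComplex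
attribute [local instance] HasDerivedCategory.standard

namespace Groth.Agent.H53.SiteTensor

open Groth.Agent.H31 Groth.Agent.H31.KFlat Groth.Agent.H40.LTensorComp Groth.Agent.H40.LeftDer
  Groth.Agent.H53.ProdDer Groth.Agent.H53

variable {C : Type u} [SmallCategory C] {J : GrothendieckTopology C} {O : Sheaf J CommRingCat.{u}}

/-- `- ⊗ K` on complexes. -/
noncomputable abbrev tK (K : CochainComplex (ModSite.Mod O) ℤ) :
    CochainComplex (ModSite.Mod O) ℤ ⥤ CochainComplex (ModSite.Mod O) ℤ :=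
  (ModSite.tensorCx O).flip.obj K

/-- `f ⊗ K` is a quasi-isomorphism when `f` is a quasi-isomorphism between left K-flat
complexes. -/
lemma quasiIso_tK_map (K : CochainComplex (ModSite.Mod O) ℤ)
    {P P' : CochainComplex (ModSite.Mod O) ℤ} (f : P ⟶ P') (hf : QuasiIso f)
    (hP : KF (Tf O) P) (hP' : KF (Tf O) P') : QuasiIso ((tK K).map f) := by
  have := hasExactColimitsOfShape_nat_Mod (O := O)
  have h1 : QuasiIso (mapBifunctorMap (𝟙 K) f (Tf O) (ComplexShape.up ℤ)) :=
    quasiIso_mapBifunctorMap_of_kflat (T := Tf O) (tensorLike_Tf O) f hP hP' K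
  have h2 := mapBifunctorFlipIso_hom_naturality f (𝟙 K) (Tb O) (ComplexShape.up ℤ)
  have h4 : mapBifunctorMap f (𝟙 K) (Tb O) (ComplexShape.up ℤ) =
      (mapBifunctorFlipIso P K (Tb O) (ComplexShape.up ℤ)).inv ≫
        mapBifunctorMap (𝟙 K) f (Tf O) (ComplexShape.up ℤ) ≫
          (mapBifunctorFlipIso P' K (Tb O) (ComplexShape.up ℤ)).hom := by
    rw [h2, Iso.inv_hom_id_assoc]
  change QuasiIso (mapBifunctorMap f (𝟙 K) (Tb O) (ComplexShape.up ℤ))
  rw [h4]
  infer_instance

/-- Left K-flat complexes are adapted to `- ⊗ K`. -/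
lemma adapted (K : CochainComplex (ModSite.Mod O) ℤ) :
    CxDerive.Adapted (lkfl O) (ModSite.tensorCxQ K) where
  res := by
    have := hasExactColimitsOfShape_nat_Mod (O := O)
    exact hasLeftRes (tensorLike_Tf O)
  inv₁ := CxDerive.inverts_hEq_of_homotopy _ (fun f g h =>
    HomologicalComplexUpToQuasiIso.Q_map_eq_of_homotopy
      (mapBifunctorMapHomotopy₁ h (𝟙 K) (Tb O) (ComplexShape.up ℤ)))
  inv₂ f hP hP' hf := by
    have := quasiIso_tK_map K f hf hP hP'
    change IsIso (DerivedCategory.Q.map ((tK K).map f))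
    rw [DerivedCategory.isIso_Q_map_iff_quasiIso]
    exact this

/-- The binder `ModSite.HasLTensorCx K` always holds. -/
theorem hasLTensorCx (K : CochainComplex (ModSite.Mod O) ℤ) : ModSite.HasLTensorCx K :=
  (adapted K).hasLeft

/-- If `L` is K-flat, `- ⊗ L` preserves quasi-isomorphisms. -/
lemma inverts_of_isKFlat (L : CochainComplex (ModSite.Mod O) ℤ) (hL : ModSite.IsKFlat L) :
    (qis O).IsInvertedBy (ModSite.tensorCxQ L) := by
  intro M M' f hf
  have hf' : QuasiIso f := (HomologicalComplex.mem_quasiIso_iff f).1 hf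
  have h1 : QuasiIso (mapBifunctorMap f (𝟙 L) (Tb O) (ComplexShape.up ℤ)) :=
    quasiIso_mapBifunctorMap_left (Tb O) f L
      ((isKFlat_iff L).1 hL _ ((quasiIso_iff_acyclic_mappingCone f).1 hf'))
  change IsIso (DerivedCategory.Q.map (mapBifunctorMap f (𝟙 L) (Tb O) (ComplexShape.up ℤ)))
  rw [DerivedCategory.isIso_Q_map_iff_quasiIso]
  exact h1

/-- Associativity of the tensor product of complexes, as an isomorphism of functors in the first
variable. -/
noncomputable def Θ (K L : CochainComplex (ModSite.Mod O) ℤ) :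
    tK K ⋙ tK L ≅ tK (((ModSite.tensorCx O).obj K).obj L) :=
  NatIso.ofComponents (fun M => tensorCxAssocIso M K L) (fun {M M'} f => by
    have : HasGoodTrifunctor₁₂Obj (ModSite.tensorBi O) (ModSite.tensorBi O) M K L
        (ComplexShape.up ℤ) (ComplexShape.up ℤ) := fun _ _ => inferInstance
    have : HasGoodTrifunctor₁₂Obj (ModSite.tensorBi O) (ModSite.tensorBi O) M' K L
        (ComplexShape.up ℤ) (ComplexShape.up ℤ) := fun _ _ => inferInstance
    have : HasGoodTrifunctor₂₃Obj (ModSite.tensorBi O) (ModSite.tensorBi O) M K L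
        (ComplexShape.up ℤ) (ComplexShape.up ℤ) (ComplexShape.up ℤ) := fun _ _ => inferInstance
    have : HasGoodTrifunctor₂₃Obj (ModSite.tensorBi O) (ModSite.tensorBi O) M' K L
        (ComplexShape.up ℤ) (ComplexShape.up ℤ) (ComplexShape.up ℤ) := fun _ _ => inferInstance
    exact AssocNat.mapBifunctorAssociator_hom_naturality₁ tensorBiAssociator f K L
      (ComplexShape.up ℤ) (ComplexShape.up ℤ) (ComplexShape.up ℤ))

section Assoc

variable (K L : CochainComplex (ModSite.Mod O) ℤ) (hL : ModSite.IsKFlat L)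
  (LK LL LKL : DerivedCategory (ModSite.Mod O) ⥤ DerivedCategory (ModSite.Mod O))
  (εK : DerivedCategory.Q ⋙ LK ⟶ ModSite.tensorCxQ K)
  (εL : DerivedCategory.Q ⋙ LL ⟶ ModSite.tensorCxQ L)
  (εKL : DerivedCategory.Q ⋙ LKL ⟶ ModSite.tensorCxQ (((ModSite.tensorCx O).obj K).obj L))
  (hK' : LK.IsLeftDerivedFunctor εK (qis O)) (hL' : LL.IsLeftDerivedFunctor εL (qis O))
  (hKL' : LKL.IsLeftDerivedFunctor εKL (qis O))

include hL hL' in
/-- For `L` K-flat, the counit of a left derived functor of `- ⊗ L` is an isomorphism. -/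
theorem isIso_counit_of_isKFlat : IsIso εL :=
  Functor.isIso_of_isLeftDerivedFunctor_of_inverts LL εL (inverts_of_isKFlat L hL)

/-- For `L` K-flat: `(- ⊗^L K) ⊗^L L ≅ - ⊗^L (K ⊗ L)`. -/
noncomputable def compIso : LK ⋙ LL ≅ LKL := by
  haveI := isIso_counit_of_isKFlat L hL LL εL hL'
  haveI : (LK ⋙ LL).IsLeftDerivedFunctor
      ((Functor.associator _ _ _).inv ≫ Functor.whiskerRight εK LL) (qis O) :=
    (adapted K).isLeftDerivedFunctor_comp LK εK LL
  let τ : ModSite.tensorCxQ K ⋙ LL ≅ ModSite.tensorCxQ (((ModSite.tensorCx O).obj K).obj L) :=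
    Functor.associator (tK K) DerivedCategory.Q LL ≪≫
      Functor.isoWhiskerLeft (tK K) (asIso εL) ≪≫
      (Functor.associator (tK K) (tK L) DerivedCategory.Q).symm ≪≫
      Functor.isoWhiskerRight (Θ K L) DerivedCategory.Q
  exact Functor.leftDerivedNatIso (LK ⋙ LL) LKL
    ((Functor.associator _ _ _).inv ≫ Functor.whiskerRight εK LL) εKL (qis O) τ

include hL hK' hL' hKL' in
/-- For `L` K-flat: `RHom(K ⊗ L, -) ≅ RHom(K, RHom(L, -))`, for any right adjoints of any left derived
functors. -/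
theorem nonempty_rightAdj_iso
    (RK RL RKL : DerivedCategory (ModSite.Mod O) ⥤ DerivedCategory (ModSite.Mod O))
    (adjK : LK ⊣ RK) (adjL : LL ⊣ RL) (adjKL : LKL ⊣ RKL) : Nonempty (RKL ≅ RL ⋙ RK) :=
  ⟨Adjunction.rightAdjointUniq adjKL
    ((adjK.comp adjL).ofNatIsoLeft (compIso K L hL LK LL LKL εK εL εKL hK' hL' hKL'))⟩

end Assoc

end Groth.Agent.H53.SiteTensor
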