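import Groth.Prelude.Def_DTen4
import Groth.Agent.H53.DTenComp
import Groth.Agent.H53.LBaseChange

/-!
# The mixed derived tensor product `DTen.LTenMix φ` is computed on K-flat complexes
(helper53 library)
-/

set_option autoImplicit false
universe u
open CategoryTheory CategoryTheory.Limits MonoidalCategory
attribute [local instance] HasDerivedCategory.standard

namespace Groth.Agent.H53.MixComp

open Groth.Agent.H31 Groth.Agent.H31.KFlat Groth.Agent.H40.LTensorComp Groth.Agent.H53.ProdDer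
  Groth.Agent.H53.DTenComp Groth.Agent.H53 HomologicalComplex DTen

variable {R A : Type u} [CommRing R] [CommRing A] (φ : R →+* A)

lemma mixT_map {K K' : DRing.Cx R} {L L' : DRing.Cx A} (f : K ⟶ K') (g : L ⟶ L') :
    (mixT φ).map (X := (K, L)) (Y := (K', L')) (Prod.mkHom f g) = (extCx φ).map f ⊗ₘ g := by
  change (DTen.tensorT A).map (X := ((extCx φ).obj K, L)) (Y := ((extCx φ).obj K', L'))
    (Prod.mkHom ((extCx φ).map f) g) = _
  rw [tensorT_map]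

/-- Pairs of homotopy equivalences are inverted by `(K, L) ↦ Q((K ⊗_R A) ⊗_A L)`. -/
lemma inverts_mix₂ : ((hEq R).prod (hEq A)).IsInvertedBy (mix₂ φ) := by
  rintro ⟨K, L⟩ ⟨K', L'⟩ ⟨f, g⟩ ⟨⟨e₁, h₁⟩, ⟨e₂, h₂⟩⟩
  dsimp only at f g h₁ h₂
  subst h₁ h₂
  change IsIso (DerivedCategory.Q.map ((mixT φ).map (X := (K, L)) (Y := (K', L'))
    (Prod.mkHom e₁.hom e₂.hom)))
  rw [mixT_map]
  exact isIso_Q_map_tensorHom_of_homotopyEquiv
    ((ModuleCat.extendScalars.{u, u, u} φ).mapHomotopyEquiv e₁) e₂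

variable [DTen.HasLTenMix φ]

/-- The counit `QK ⊗^L_R QP ⟶ Q((K ⊗_R A) ⊗_A P)` of the mixed derived tensor product is an
isomorphism when `K` and `P` are K-flat. -/
theorem isIso_εMix (K : DRing.Cx R) (P : DRing.Cx A) (hK : DRing.IsKFlat R K)
    (hP : DRing.IsKFlat A P) : IsIso ((εMix φ).app (K, P)) := by
  have hg : Good (prodLM (Φfl R) (Φfl A)) := (good_Φfl R).prod (good_Φfl A)
  have := hg.isLeftDerivabilityStructure
  let F_K := Localization.lift (mix₂ φ) (inverts_mix₂ φ) ((qq R).prod (qq A))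
  let e : (qq R).prod (qq A) ⋙ F_K ≅ mix₂ φ := Localization.fac _ _ _
  let i : (qq R).prod (qq A) ⋙ (DerivedCategory.Qh.prod DerivedCategory.Qh) ≅ QMix R A :=
    NatIso.prod (DerivedCategory.quotientCompQhIso _) (DerivedCategory.quotientCompQhIso _)
  refine KanTransfer.isIso_app_of_derivability ((qq R).prod (qq A)) ((hEq R).prod (hEq A))
    (DerivedCategory.Qh.prod DerivedCategory.Qh) (QMix R A) i (mix₂ φ) F_K e
    (LTenMix φ) (εMix φ) (qisMix R A) ((WK R).prod (WK A))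
    (prodLM (Φfl R) (Φfl A)) ?_ (K, P)
    (⟨(qq R).obj K, (KFlatRing.isKFlat_iff K).1 hK⟩,
      ⟨(qq A).obj P, (KFlatRing.isKFlat_iff P).1 hP⟩) (Iso.refl _)
  rintro ⟨X₁, X₂⟩ ⟨Y₁, Y₂⟩ ⟨f₁, f₂⟩ ⟨h₁, h₂⟩
  dsimp only at f₁ f₂ h₁ h₂
  obtain ⟨f₁', hf₁'⟩ : ∃ f' : X₁.obj.as ⟶ Y₁.obj.as, (qq R).map f' = f₁.hom :=
    (qq R).map_surjective f₁.hom
  obtain ⟨f₂', hf₂'⟩ : ∃ f' : X₂.obj.as ⟶ Y₂.obj.as, (qq A).map f' = f₂.hom :=
    (qq A).map_surjective f₂.hom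
  have hq₁ : QuasiIso f₁' := by
    apply quasiIso_of_WK
    rw [hf₁']
    rw [ObjectProperty.trW_inverseImage_ι_iff] at h₁
    obtain ⟨Z, g, k, hT, hZ⟩ := h₁
    exact ⟨Z, g, k, hT, hZ.2⟩
  have hq₂ : QuasiIso f₂' := by
    apply quasiIso_of_WK
    rw [hf₂']
    rw [ObjectProperty.trW_inverseImage_ι_iff] at h₂
    obtain ⟨Z, g, k, hT, hZ⟩ := h₂
    exact ⟨Z, g, k, hT, hZ.2⟩
  have hq₁' : QuasiIso ((extCx φ).map f₁') :=
    LBaseChange.quasiIso_extCx_map φ f₁' hq₁ ((KFlatRing.isKFlat_iff _).2 X₁.property)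
      ((KFlatRing.isKFlat_iff _).2 Y₁.property)
  have h3 : IsIso ((mix₂ φ).map (X := (X₁.obj.as, X₂.obj.as)) (Y := (Y₁.obj.as, Y₂.obj.as))
      (Prod.mkHom f₁' f₂')) := by
    change IsIso (DerivedCategory.Q.map ((mixT φ).map (X := (X₁.obj.as, X₂.obj.as))
      (Y := (Y₁.obj.as, Y₂.obj.as)) (Prod.mkHom f₁' f₂')))
    rw [mixT_map]
    have := quasiIso_tensorHom ((extCx φ).map f₁') f₂' hq₁' hq₂
      ((KFlatRing.isKFlat_iff _).2 X₂.property) ((KFlatRing.isKFlat_iff _).2 Y₂.property)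
    infer_instance
  have h4 := (NatIso.isIso_map_iff e (X := (X₁.obj.as, X₂.obj.as)) (Y := (Y₁.obj.as, Y₂.obj.as))
    (Prod.mkHom f₁' f₂')).2 h3
  have h5 : ((prodLM (Φfl R) (Φfl A)).functor ⋙ F_K).map
      (X := (X₁, X₂)) (Y := (Y₁, Y₂)) (Prod.mkHom f₁ f₂) =
      ((qq R).prod (qq A) ⋙ F_K).map (X := (X₁.obj.as, X₂.obj.as)) (Y := (Y₁.obj.as, Y₂.obj.as))
        (Prod.mkHom f₁' f₂') := by
    change F_K.map (Prod.mkHom f₁.hom f₂.hom) =
      F_K.map (Prod.mkHom ((qq R).map f₁') ((qq A).map f₂'))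
    rw [hf₁', hf₂']
    rfl
  exact h5 ▸ h4

end Groth.Agent.H53.MixComp
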