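import Groth.Agent.H53.CxDerive

/-!
# Adapted classes: comparison of left derived functors (helper53 library)

* `Adapted.exists_iso_Q_obj`: every object of `D(A)` is represented by a complex of the adapted class;
* `Adapted.isIso_leftDerivedNatTrans`: a natural transformation between two functors adapted to the
  same class which is an isomorphism on that class induces an isomorphism of left derived functors.
-/

set_option autoImplicit false
universe w v u
open CategoryTheory CategoryTheory.Limits HomologicalComplex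

namespace Groth.Agent.H53.CxDerive

open Groth.Agent.H53.ProdDer Groth.Agent.H53 Groth.Agent.H40.LeftDer

variable {A : Type u} [Category.{v} A] [Abelian A] [HasDerivedCategory.{w} A]
  {PP : ObjectProperty (HC A)} [PP.IsTriangulated] [PP.IsClosedUnderIsomorphisms]
  {D : Type*} [Category D]

omit [PP.IsTriangulated] [PP.IsClosedUnderIsomorphisms] in
/-- Every object of the derived category is represented by a complex in `PP`. -/
theorem Adapted.exists_iso_Q_obj {G : CochainComplex A ℤ ⥤ D} (h : Adapted PP G)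
    (X : DerivedCategory A) :
    ∃ P : CochainComplex A ℤ, PP ((qq A).obj P) ∧ Nonempty (X ≅ DerivedCategory.Q.obj P) := by
  obtain ⟨P, s, hP, hs⟩ := h.res (DerivedCategory.Qh.objPreimage X)
  have : IsIso (DerivedCategory.Qh.map s) :=
    Localization.inverts DerivedCategory.Qh (WK A) s hs
  exact ⟨P.as, hP, ⟨(DerivedCategory.Qh.objObjPreimageIso X).symm ≪≫
    (asIso (DerivedCategory.Qh.map s)).symm ≪≫ (DerivedCategory.quotientCompQhIso A).app P.as⟩⟩

/-- A natural transformation between two functors adapted to `PP` which is an isomorphism on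
complexes in `PP` induces an isomorphism between their left derived functors. -/
theorem Adapted.isIso_leftDerivedNatTrans {G₁ G₂ : CochainComplex A ℤ ⥤ D}
    (h₁ : Adapted PP G₁) (h₂ : Adapted PP G₂) (τ : G₁ ⟶ G₂)
    (hτ : ∀ P : CochainComplex A ℤ, PP ((qq A).obj P) → IsIso (τ.app P))
    (LF₁ LF₂ : DerivedCategory A ⥤ D) (α₁ : DerivedCategory.Q ⋙ LF₁ ⟶ G₁)
    (α₂ : DerivedCategory.Q ⋙ LF₂ ⟶ G₂)
    [LF₁.IsLeftDerivedFunctor α₁ (qis A)] [LF₂.IsLeftDerivedFunctor α₂ (qis A)] :
    IsIso (Functor.leftDerivedNatTrans LF₁ LF₂ α₁ α₂ (qis A) τ) := by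
  rw [NatTrans.isIso_iff_isIso_app]
  intro X
  obtain ⟨P, hP, ⟨e⟩⟩ := h₁.exists_iso_Q_obj X
  rw [NatTrans.isIso_app_iff_of_iso _ e]
  have := h₁.isIso_app LF₁ α₁ P hP
  have := h₂.isIso_app LF₂ α₂ P hP
  have := hτ P hP
  have h3 := Functor.leftDerivedNatTrans_app LF₁ LF₂ α₁ α₂ (qis A) τ P
  have h4 : IsIso ((Functor.leftDerivedNatTrans LF₁ LF₂ α₁ α₂ (qis A) τ).app
      (DerivedCategory.Q.obj P) ≫ α₂.app P) := by
    rw [h3]
    infer_instance
  exact IsIso.of_isIso_comp_right _ (α₂.app P)

end Groth.Agent.H53.CxDerive
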