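import Groth.Prelude.Def_DTen6
import Groth.Agent.H53.MixComp
import Groth.Agent.H35.KFlatBC

/-!
# The triple mixed derived tensor product `DTen.LTenMix₃ φ ψ` is computed on K-flat complexes
(helper53 library)
-/

set_option autoImplicit false
universe u
open CategoryTheory CategoryTheory.Limits MonoidalCategory
attribute [local instance] HasDerivedCategory.standard

namespace Groth.Agent.H53.Mix3Comp

open Groth.Agent.H31 Groth.Agent.H31.KFlat Groth.Agent.H40.LTensorComp Groth.Agent.H53.ProdDer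
  Groth.Agent.H53.DTenComp Groth.Agent.H53 HomologicalComplex DTen

variable {A B C : Type u} [CommRing A] [CommRing B] [CommRing C] (φ : A →+* B) (ψ : B →+* C)

/-- Extension of scalars preserves K-flat complexes (helper35), for `DTen.extCx`. -/
lemma isKFlat_extCx {M : DRing.Cx A} (hM : DRing.IsKFlat A M) :
    DRing.IsKFlat B ((extCx φ).obj M) :=
  Groth.Agent.H35.KFlatBC.isKFlat_extCx φ M hM

/-- `(M ⊗_A B) ⊗_B N` is K-flat over `B` for `M`, `N` K-flat. -/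
lemma isKFlat_mixT {M : DRing.Cx A} {N : DRing.Cx B} (hM : DRing.IsKFlat A M)
    (hN : DRing.IsKFlat B N) : DRing.IsKFlat B ((mixT φ).obj (M, N)) :=
  isKFlat_tensor (isKFlat_extCx φ hM) hN

lemma mixT₃_map {M M' : DRing.Cx A} {N N' : DRing.Cx B} {K K' : DRing.Cx C} (f : M ⟶ M')
    (g : N ⟶ N') (k : K ⟶ K') :
    (mixT₃ φ ψ).map (X := (M, (N, K))) (Y := (M', (N', K'))) (Prod.mkHom f (Prod.mkHom g k)) =
      (extCx ψ).map ((extCx φ).map f ⊗ₘ g) ⊗ₘ k := by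
  change (mixT ψ).map (X := ((mixT φ).obj (M, N), K)) (Y := ((mixT φ).obj (M', N'), K'))
    (Prod.mkHom ((mixT φ).map (X := (M, N)) (Y := (M', N')) (Prod.mkHom f g)) k) = _
  rw [MixComp.mixT_map, MixComp.mixT_map]

/-- Triples of homotopy equivalences are inverted by `mix₃`. -/
lemma inverts_mix₃ : ((hEq A).prod ((hEq B).prod (hEq C))).IsInvertedBy (mix₃ φ ψ) := by
  rintro ⟨M, N, K⟩ ⟨M', N', K'⟩ ⟨f, g, k⟩ ⟨⟨e₁, h₁⟩, ⟨e₂, h₂⟩, ⟨e₃, h₃⟩⟩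
  dsimp only at f g k h₁ h₂ h₃
  subst h₁ h₂ h₃
  change IsIso (DerivedCategory.Q.map ((mixT₃ φ ψ).map (X := (M, (N, K)))
    (Y := (M', (N', K'))) (Prod.mkHom e₁.hom (Prod.mkHom e₂.hom e₃.hom))))
  rw [mixT₃_map]
  exact isIso_Q_map_tensorHom_of_homotopyEquiv
    ((ModuleCat.extendScalars.{u, u, u} ψ).mapHomotopyEquiv
      (tensorHomotopyEquiv ((ModuleCat.extendScalars.{u, u, u} φ).mapHomotopyEquiv e₁) e₂)) e₃

variable [DTen.HasLTenMix₃ φ ψ]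

/-- The counit of the triple mixed derived tensor product is an isomorphism on triples of K-flat
complexes. -/
theorem isIso_εMix₃ (M : DRing.Cx A) (N : DRing.Cx B) (K : DRing.Cx C) (hM : DRing.IsKFlat A M)
    (hN : DRing.IsKFlat B N) (hK : DRing.IsKFlat C K) :
    IsIso ((εMix₃ φ ψ).app (M, (N, K))) := by
  have hg : Good (prodLM (Φfl A) (prodLM (Φfl B) (Φfl C))) :=
    (good_Φfl A).prod ((good_Φfl B).prod (good_Φfl C))
  have := hg.isLeftDerivabilityStructure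
  let q₃ := (qq A).prod ((qq B).prod (qq C))
  let F_K := Localization.lift (mix₃ φ ψ) (inverts_mix₃ φ ψ) q₃
  let e : q₃ ⋙ F_K ≅ mix₃ φ ψ := Localization.fac _ _ _
  let i₂ : (qq B).prod (qq C) ⋙ (DerivedCategory.Qh.prod DerivedCategory.Qh) ≅ QMix B C :=
    NatIso.prod (DerivedCategory.quotientCompQhIso _) (DerivedCategory.quotientCompQhIso _)
  let i : q₃ ⋙ (DerivedCategory.Qh.prod (DerivedCategory.Qh.prod DerivedCategory.Qh)) ≅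
      QMix₃ A B C :=
    NatIso.prod (DerivedCategory.quotientCompQhIso (ModuleCat.{u} A)) i₂
  refine KanTransfer.isIso_app_of_derivability q₃ ((hEq A).prod ((hEq B).prod (hEq C)))
    (DerivedCategory.Qh.prod (DerivedCategory.Qh.prod DerivedCategory.Qh)) (QMix₃ A B C) i
    (mix₃ φ ψ) F_K e (LTenMix₃ φ ψ) (εMix₃ φ ψ) (qisMix₃ A B C)
    ((WK A).prod ((WK B).prod (WK C)))
    (prodLM (Φfl A) (prodLM (Φfl B) (Φfl C))) ?_ (M, (N, K))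
    (⟨(qq A).obj M, (KFlatRing.isKFlat_iff M).1 hM⟩,
      (⟨(qq B).obj N, (KFlatRing.isKFlat_iff N).1 hN⟩,
      ⟨(qq C).obj K, (KFlatRing.isKFlat_iff K).1 hK⟩)) (Iso.refl _)
  rintro ⟨X₁, X₂, X₃⟩ ⟨Y₁, Y₂, Y₃⟩ ⟨f₁, f₂, f₃⟩ ⟨h₁, h₂', h₃'⟩
  dsimp only at f₁ f₂ f₃ h₁ h₂' h₃'
  obtain ⟨f₁', hf₁'⟩ : ∃ f' : X₁.obj.as ⟶ Y₁.obj.as, (qq A).map f' = f₁.hom :=
    (qq A).map_surjective f₁.hom
  obtain ⟨f₂', hf₂'⟩ : ∃ f' : X₂.obj.as ⟶ Y₂.obj.as, (qq B).map f' = f₂.hom :=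
    (qq B).map_surjective f₂.hom
  obtain ⟨f₃', hf₃'⟩ : ∃ f' : X₃.obj.as ⟶ Y₃.obj.as, (qq C).map f' = f₃.hom :=
    (qq C).map_surjective f₃.hom
  have hq₁ : QuasiIso f₁' := by
    apply quasiIso_of_WK
    rw [hf₁']
    rw [ObjectProperty.trW_inverseImage_ι_iff] at h₁
    obtain ⟨Z, g, k, hT, hZ⟩ := h₁
    exact ⟨Z, g, k, hT, hZ.2⟩
  have hq₂ : QuasiIso f₂' := by
    apply quasiIso_of_WK
    rw [hf₂']
    rw [ObjectProperty.trW_inverseImage_ι_iff] at h₂'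
    obtain ⟨Z, g, k, hT, hZ⟩ := h₂'
    exact ⟨Z, g, k, hT, hZ.2⟩
  have hq₃ : QuasiIso f₃' := by
    apply quasiIso_of_WK
    rw [hf₃']
    rw [ObjectProperty.trW_inverseImage_ι_iff] at h₃'
    obtain ⟨Z, g, k, hT, hZ⟩ := h₃'
    exact ⟨Z, g, k, hT, hZ.2⟩
  have kX₁ := (KFlatRing.isKFlat_iff _).2 X₁.property
  have kY₁ := (KFlatRing.isKFlat_iff _).2 Y₁.property
  have kX₂ := (KFlatRing.isKFlat_iff _).2 X₂.property
  have kY₂ := (KFlatRing.isKFlat_iff _).2 Y₂.property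
  have kX₃ := (KFlatRing.isKFlat_iff _).2 X₃.property
  have kY₃ := (KFlatRing.isKFlat_iff _).2 Y₃.property
  have hq₁' : QuasiIso ((extCx φ).map f₁') := LBaseChange.quasiIso_extCx_map φ f₁' hq₁ kX₁ kY₁
  have hu : QuasiIso ((extCx φ).map f₁' ⊗ₘ f₂') :=
    quasiIso_tensorHom ((extCx φ).map f₁') f₂' hq₁' hq₂ kX₂ kY₂
  have hu' : QuasiIso ((extCx ψ).map ((extCx φ).map f₁' ⊗ₘ f₂')) :=
    LBaseChange.quasiIso_extCx_map ψ _ hu (isKFlat_mixT φ kX₁ kX₂) (isKFlat_mixT φ kY₁ kY₂)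
  have h3 : IsIso ((mix₃ φ ψ).map (X := (X₁.obj.as, (X₂.obj.as, X₃.obj.as)))
      (Y := (Y₁.obj.as, (Y₂.obj.as, Y₃.obj.as))) (Prod.mkHom f₁' (Prod.mkHom f₂' f₃'))) := by
    change IsIso (DerivedCategory.Q.map ((mixT₃ φ ψ).map
      (X := (X₁.obj.as, (X₂.obj.as, X₃.obj.as))) (Y := (Y₁.obj.as, (Y₂.obj.as, Y₃.obj.as)))
      (Prod.mkHom f₁' (Prod.mkHom f₂' f₃'))))
    rw [mixT₃_map]
    have := quasiIso_tensorHom ((extCx ψ).map ((extCx φ).map f₁' ⊗ₘ f₂')) f₃' hu' hq₃ kX₃ kY₃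
    rw [DerivedCategory.isIso_Q_map_iff_quasiIso]
    exact this
  have h4 := (NatIso.isIso_map_iff e (X := (X₁.obj.as, (X₂.obj.as, X₃.obj.as)))
    (Y := (Y₁.obj.as, (Y₂.obj.as, Y₃.obj.as))) (Prod.mkHom f₁' (Prod.mkHom f₂' f₃'))).2 h3
  have h5 : ((prodLM (Φfl A) (prodLM (Φfl B) (Φfl C))).functor ⋙ F_K).map
      (X := (X₁, (X₂, X₃))) (Y := (Y₁, (Y₂, Y₃)))
      (Prod.mkHom f₁ (Prod.mkHom f₂ f₃)) =
      (q₃ ⋙ F_K).map (X := (X₁.obj.as, (X₂.obj.as, X₃.obj.as)))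
        (Y := (Y₁.obj.as, (Y₂.obj.as, Y₃.obj.as))) (Prod.mkHom f₁' (Prod.mkHom f₂' f₃')) := by
    change F_K.map (Prod.mkHom f₁.hom (Prod.mkHom f₂.hom f₃.hom)) =
      F_K.map (Prod.mkHom ((qq A).map f₁') (Prod.mkHom ((qq B).map f₂') ((qq C).map f₃')))
    rw [hf₁', hf₂', hf₃']
    rfl
  exact h5 ▸ h4

end Groth.Agent.H53.Mix3Comp
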