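import Groth.Prelude.Def_ModSite
import Groth.Agent.H30.ExtDer
import Groth.Agent.S0491
import Groth.Agent.S0485
import Groth.Agent.H92.ExtLocalGlobal
import Groth.Agent.H31.FlatSite
import Groth.Agent.H31.Invertible

/-!
# `Ext^p(M, N) ≃ H^p(ℋom(M, N))` when `ℋom(M, -)` is exact (helper53)
-/

set_option autoImplicit false
universe u
open CategoryTheory CategoryTheory.Limits AlgebraicGeometry Opposite

namespace Groth.Agent.H53.ExtSheafHom

open Groth.Agent.H92.ExtLocalGlobal Groth.Agent.H31

section Site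

variable {C : Type u} [SmallCategory C] {J : GrothendieckTopology C} (O : Sheaf J CommRingCat.{u})

/-- `Ext^p(M, N) ≃ H^p(ℋom(M, N))` when `ℋom(M, -)` is exact. -/
theorem ext_addEquiv_H (M N : ModSite.Mod O) [ModSite.HasSheafHom M]
    [HasExt.{u} (ModSite.Mod O)]
    (hex : PreservesFiniteColimits (ModSite.sheafHom M)) (p : ℕ) :
    Nonempty (Abelian.Ext M N p ≃+ Sheaf.H.{u} (ModSite.toAb ((ModSite.sheafHom M).obj N)) p) := by
  have : EnoughInjectives (ModSite.Mod O) := Groth.Agent.S0485.result J (ModSite.ringSh O)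
  have : ((ModSite.tensorBi O).flip.obj M).Additive :=
    inferInstance
  have : (ModSite.sheafHom M).Additive := (ModSite.sheafHomAdj M).right_adjoint_additive
  have : PreservesFiniteLimits (ModSite.sheafHom M) := by
    have := (ModSite.sheafHomAdj M).rightAdjoint_preservesLimits
    infer_instance
  let F₀ : ModSite.Mod O ⥤ AddCommGrpCat.{u} := preadditiveCoyoneda.obj (op M)
  obtain ⟨i₁⟩ := Groth.Agent.H30.ExtDer.main (𝟭 (ModSite.Mod O)) M F₀
    (fun N => AddEquiv.refl (M ⟶ N)) (fun g x => rfl)
    (fun I hI q e => by have := hI; exact Abelian.Ext.eq_zero_of_injective e) p N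
  obtain ⟨i₂⟩ := Groth.Agent.H30.ExtDer.main (ModSite.sheafHom M) (ModSite.unit O) F₀
    (fun N => (homEqv O M N).symm) (fun {N N'} g x => by
      apply (homEqv O M N').injective
      exact ((homEqv O M N').apply_symm_apply _).trans (Eq.symm ((homEqv_comp O M g _).trans
        (congrArg (· ≫ g) ((homEqv O M N).apply_symm_apply x)))))
    (fun I hI q e => by
      have := hI
      obtain ⟨c⟩ := Groth.Agent.S0491.result J (ModSite.ringSh O) ((ModSite.sheafHom M).obj I) (q + 1)
      have := sheafH_subsingleton_of_totallyAcyclic _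
        (Groth.Agent.H92.SheafHomAcyc.isTotallyAcyclic_sheafHom O M I) q
      exact c.injective (Subsingleton.elim _ _)) p N
  obtain ⟨c⟩ := Groth.Agent.S0491.result J (ModSite.ringSh O) ((ModSite.sheafHom M).obj N) p
  exact ⟨(i₁ ≪≫ i₂.symm).addCommGroupIsoToAddEquiv.trans c⟩

end Site

end Groth.Agent.H53.ExtSheafHom
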