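import Groth.Agent.H53.ModEpi
import Groth.Agent.H92.RestrExact
import Groth.Agent.H90.SPerfLift
import Groth.Prelude.Def_ModSite
import Groth.Prelude.Def_AlgSpPerf

/-!
# Local lifting on slices of a ringed site (helper53)

Slice form of the local null-homotopy lemma for strictly perfect complexes on a ringed site,
using Mathlib's `SheafOfModules.overMap` and `overFunctorMap`.
-/

set_option autoImplicit false
universe u
open CategoryTheory CategoryTheory.Limits Opposite

namespace Groth.Agent.H53.SliceLift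

variable {C : Type u} [SmallCategory C] {J : GrothendieckTopology C} (R : Sheaf J RingCat.{u})

/-- modules on the slice over `V` -/
abbrev MV (V : C) := SheafOfModules.{u} (R.over V)

/-- restriction between slices -/
noncomputable abbrev ρ {W V : C} (g : W ⟶ V) : MV R V ⥤ MV R W := SheafOfModules.overMap.{u} R g

set_option backward.isDefEq.respectTransparency.types false in
instance isRightAdjoint_ρ {W V : C} (g : W ⟶ V) : (ρ R g).IsRightAdjoint :=
  inferInstanceAs (SheafOfModules.pushforward.{u} (F := Over.map g)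
    (Sheaf.pushforwardOverMapIso R g).inv).IsRightAdjoint

instance preservesFiniteLimits_ρ {W V : C} (g : W ⟶ V) : PreservesFiniteLimits (ρ R g) := by
  have := (Adjunction.ofIsRightAdjoint (ρ R g)).rightAdjoint_preservesLimits
  infer_instance

instance additive_ρ {W V : C} (g : W ⟶ V) : (ρ R g).Additive :=
  Functor.additive_of_preserves_binary_products _

/-- `ρ` commutes with the underlying abelian sheaf. -/
noncomputable def cmpIso {W V : C} (g : W ⟶ V) :
    ρ R g ⋙ SheafOfModules.toSheaf (R.over W) ≅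
      SheafOfModules.toSheaf (R.over V) ⋙
        (Over.map g).sheafPushforwardContinuous AddCommGrpCat.{u} (J.over W) (J.over V) :=
  NatIso.ofComponents (fun M => Iso.refl _) (by intro M N f; rfl)

instance preservesFiniteColimits_ρ {W V : C} (g : W ⟶ V) : PreservesFiniteColimits (ρ R g) := by
  have h0 : PreservesFiniteColimits
      ((Over.map g).sheafPushforwardContinuous AddCommGrpCat.{u} (J.over W) (J.over V)) := by
    have := ((Over.map g).sheafAdjunctionCocontinuous AddCommGrpCat.{u}
      (J.over W) (J.over V)).leftAdjoint_preservesColimits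
    infer_instance
  have h1 : PreservesFiniteColimits
      (SheafOfModules.toSheaf (R.over V) ⋙
        (Over.map g).sheafPushforwardContinuous AddCommGrpCat.{u} (J.over W) (J.over V)) := by
    have := Groth.Agent.H45.toSheaf_preservesFiniteColimits (R.over V)
    infer_instance
  have h2 : PreservesFiniteColimits (ρ R g ⋙ SheafOfModules.toSheaf (R.over W)) :=
    preservesFiniteColimits_of_natIso (cmpIso R g).symm
  have h3 : (SheafOfModules.toSheaf (R.over W)).ReflectsIsomorphisms := inferInstance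
  have h4 := Groth.Agent.H45.toSheaf_preservesFiniteColimits (R.over W)
  constructor
  intro K _ _
  have : ReflectsColimitsOfShape K (SheafOfModules.toSheaf (R.over W)) :=
    reflectsColimitsOfShape_of_reflectsIsomorphisms
  exact ⟨fun {F} => preservesColimit_of_reflects_of_preserves (ρ R g)
    (SheafOfModules.toSheaf (R.over W))⟩

section Free

variable {C₁ : Type u} [SmallCategory C₁] {J₁ : GrothendieckTopology C₁} {R₁ : Sheaf J₁ RingCat.{u}}
  {C₂ : Type u} [SmallCategory C₂] {J₂ : GrothendieckTopology C₂} {R₂ : Sheaf J₂ RingCat.{u}}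
  (Φ : SheafOfModules.{u} R₁ ⥤ SheafOfModules.{u} R₂) [Φ.Additive]
  (e : Φ.obj (SheafOfModules.unit R₁) ≅ SheafOfModules.unit R₂)

/-- an additive functor preserving the unit preserves finite free modules -/
noncomputable def mapFreeIso (I : Type u) [Finite I] :
    Φ.obj (SheafOfModules.free (R := R₁) I) ≅ SheafOfModules.free (R := R₂) I :=
  PreservesCoproduct.iso Φ (fun _ : I => SheafOfModules.unit R₁) ≪≫ Sigma.mapIso (fun _ => e)

include e in
lemma isFinFreeSummand_map {M : SheafOfModules.{u} R₁} (hM : DCoh.IsFinFreeSummandMod R₁ M) :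
    DCoh.IsFinFreeSummandMod R₂ (Φ.obj M) := by
  obtain ⟨n, i, p, hip⟩ := hM
  refine ⟨n, Φ.map i ≫ (mapFreeIso Φ e _).hom, (mapFreeIso Φ e _).inv ≫ Φ.map p, ?_⟩
  rw [Category.assoc, Iso.hom_inv_id_assoc, ← Φ.map_comp, hip, Φ.map_id]

end Free

section LocLift

/-- the local lifting property of an object `M` of the slice over `V` -/
def LocLift {V : C} (M : MV R V) : Prop :=
  ∀ ⦃A B : MV R V⦄ (p : A ⟶ B) [Epi p] (φ : M ⟶ B),
    ∃ S ∈ J V, ∀ ⦃W : C⦄ (g : W ⟶ V), S g →
      ∃ ψ : (ρ R g).obj M ⟶ (ρ R g).obj A, ψ ≫ (ρ R g).map p = (ρ R g).map φ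

variable {R}

lemma locLift_of_retract {V : C} {M N : MV R V} (i : M ⟶ N) (r : N ⟶ M) (hir : i ≫ r = 𝟙 M)
    (hN : LocLift R N) : LocLift R M := by
  intro A B p _ φ
  obtain ⟨S, hS, h⟩ := hN p (r ≫ φ)
  refine ⟨S, hS, fun W g hg => ?_⟩
  obtain ⟨ψ, hψ⟩ := h g hg
  refine ⟨(ρ R g).map i ≫ ψ, ?_⟩
  rw [Category.assoc, hψ, ← Functor.map_comp, ← Category.assoc, hir, Category.id_comp]

lemma finite_inf_mem {X : C} {I : Type u} [Fintype I] (S : I → Sieve X) (hS : ∀ i, S i ∈ J X) :
    Finset.univ.inf S ∈ J X := by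
  classical
  refine Finset.induction_on (Finset.univ : Finset I) ?_ ?_
  · rw [Finset.inf_empty]
    exact J.top_mem X
  · intro a s _ ih
    rw [Finset.inf_insert]
    exact J.intersection_covering (hS a) ih

lemma locLift_sigma {V : C} {I : Type u} [Finite I] (M : I → MV R V)
    (h : ∀ i, LocLift R (M i)) : LocLift R (∐ M) := by
  classical
  cases nonempty_fintype I
  intro A B p _ φ
  choose S hS hψ using fun i => h i p (Sigma.ι M i ≫ φ)
  refine ⟨Finset.univ.inf S, finite_inf_mem S hS, fun W g hg => ?_⟩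
  have hg' : ∀ i, S i g := fun i =>
    (Finset.inf_le (Finset.mem_univ i) : Finset.univ.inf S ≤ S i) _ hg
  choose ψ hψ' using fun i => hψ i g (hg' i)
  have hc := isColimitOfPreserves (ρ R g) (coproductIsCoproduct M)
  let c : Cocone (Discrete.functor M ⋙ ρ R g) :=
    { pt := (ρ R g).obj A
      ι := Discrete.natTrans (fun ⟨i⟩ => ψ i) }
  refine ⟨hc.desc c, hc.hom_ext (fun ⟨i⟩ => ?_)⟩
  rw [← Category.assoc, hc.fac]
  show ψ i ≫ _ = _
  have h1 : ((ρ R g).mapCocone (Cofan.mk (∐ M) (Sigma.ι M))).ι.app ⟨i⟩ =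
      (ρ R g).map (Sigma.ι M i) := rfl
  rw [h1, ← Functor.map_comp]
  exact hψ' i

/-- the arrow `(U → W → V) ⟶ (W → V)` of the slice over `V` -/
abbrev τ {W V : C} (g : W ⟶ V) (U : Over W) : (Over.map g).obj U ⟶ Over.mk (g ≫ 𝟙 V) :=
  Over.homMk U.hom (by simp)

lemma τ_comp {W V : C} (g : W ⟶ V) {U U' : Over W} (f : U' ⟶ U) :
    (Over.map g).map f ≫ τ g U = τ g U' := by
  ext
  simp

lemma locLift_unit (V : C) : LocLift R (SheafOfModules.unit (R.over V)) := by
  intro A B p _ φ
  let s : B.sections := B.unitHomEquiv φ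
  let T : Over V := Over.mk (𝟙 V)
  have hepi : Epi ((SheafOfModules.toSheaf (R.over V)).map p) := toSheaf_map_epi (R.over V) p
  have hls : Sheaf.IsLocallySurjective ((SheafOfModules.toSheaf (R.over V)).map p) := by
    rw [Sheaf.isLocallySurjective_iff_epi']
    exact hepi
  have hS := Presheaf.imageSieve_mem (J.over V) ((SheafOfModules.toSheaf (R.over V)).map p).hom
    (s.val (op T))
  rw [GrothendieckTopology.mem_over_iff] at hS
  refine ⟨_, hS, fun W g hg => ?_⟩
  rw [Sieve.overEquiv_iff] at hg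
  obtain ⟨a, ha⟩ := hg
  let a' : A.val.presheaf.obj (op (Over.mk (g ≫ 𝟙 V))) := a
  have ha' : p.val.app (op (Over.mk (g ≫ 𝟙 V))) a' =
      B.val.presheaf.map (Over.homMk g rfl : Over.mk (g ≫ 𝟙 V) ⟶ T).op (s.val (op T)) := ha
  let σ : ((ρ R g).obj A).sections :=
    PresheafOfModules.sectionsMk (M := ((ρ R g).obj A).val)
      (fun U => A.val.presheaf.map (τ g U.unop).op a')
      (by
        intro U U' f
        show A.val.presheaf.map ((Over.map g).map f.unop).op
          (A.val.presheaf.map (τ g U.unop).op a') = A.val.presheaf.map (τ g U'.unop).op a'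
        rw [← τ_comp g f.unop, op_comp, Functor.map_comp]
        rfl)
  refine ⟨(SheafOfModules.overMapUnitIso g).hom ≫ ((ρ R g).obj A).unitHomEquiv.symm σ, ?_⟩
  rw [Category.assoc, SheafOfModules.unitHomEquiv_symm_comp,
    ← cancel_epi (SheafOfModules.overMapUnitIso (R := R) g).inv, Iso.inv_hom_id_assoc,
    Equiv.symm_apply_eq]
  ext U
  have hs : s.val (op ((Over.map g).obj U.unop)) =
      B.val.presheaf.map (τ g U.unop ≫ (Over.homMk g rfl : Over.mk (g ≫ 𝟙 V) ⟶ T)).op (s.val (op T)) :=
    (PresheafOfModules.sections_property s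
      (τ g U.unop ≫ (Over.homMk g rfl : Over.mk (g ≫ 𝟙 V) ⟶ T)).op).symm
  have hnat : p.val.app (op ((Over.map g).obj U.unop)) (A.val.presheaf.map (τ g U.unop).op a') =
      B.val.presheaf.map (τ g U.unop).op (p.val.app (op (Over.mk (g ≫ 𝟙 V))) a') :=
    congrArg (fun m => (ConcreteCategory.hom m) a')
      (((SheafOfModules.toSheaf (R.over V)).map p).hom.naturality (τ g U.unop).op)
  show p.val.app (op ((Over.map g).obj U.unop)) (A.val.presheaf.map (τ g U.unop).op a') =
    φ.val.app (op ((Over.map g).obj U.unop)) (1 : (R.over V).obj.obj (op ((Over.map g).obj U.unop)))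
  rw [hnat, ha']
  show _ = s.val (op ((Over.map g).obj U.unop))
  rw [hs, op_comp, Functor.map_comp]
  rfl

lemma locLift_of_isFinFreeSummand {V : C} {M : MV R V}
    (hM : DCoh.IsFinFreeSummandMod (R.over V) M) : LocLift R M := by
  obtain ⟨n, i, p, hip⟩ := hM
  exact locLift_of_retract i p hip
    (locLift_sigma (fun _ : ULift.{u} (Fin n) => SheafOfModules.unit (R.over V))
      (fun _ => locLift_unit V))

end LocLift

section Null

open Groth.Agent.H90.SPerf

variable {R}

/-- Inductive (slice) form of the local null-homotopy lemma. -/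
theorem exists_nullhomotopy_aux (n : ℕ) :
    ∀ (V : C) (E F : CochainComplex (MV R V) ℤ) (α : E ⟶ F) (a : ℤ)
      (_ : ∀ i, DCoh.IsFinFreeSummandMod (R.over V) (E.X i)) (_ : ∀ i, i < a → IsZero (E.X i))
      (_ : ∀ i, a ≤ i → (F.sc' (i - 1) i (i + 1)).Exact)
      (_ : ∀ i, a + (n : ℤ) ≤ i → α.f i = 0),
      ∃ S ∈ J V, ∀ ⦃W : C⦄ (g : W ⟶ V), S g →
        ∃ (Φ : MV R V ⥤ MV R W) (_ : Φ.Additive),
          Nonempty (SheafOfModules.overFunctor R V ⋙ Φ ≅ SheafOfModules.overFunctor R W) ∧
          Nonempty (Homotopy ((Φ.mapHomologicalComplex (ComplexShape.up ℤ)).map α) 0) := by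
  induction n with
  | zero =>
    intro V E F α a hE hEa hF hα
    have hα0 : α = 0 := by
      refine HomologicalComplex.hom_ext _ _ (fun i => ?_)
      by_cases hi : i < a
      · exact (hEa i hi).eq_of_src _ _
      · rw [HomologicalComplex.zero_f_apply]
        exact hα i (by push_cast; omega)
    refine ⟨⊤, J.top_mem V, fun W g _ => ⟨ρ R g, inferInstance,
      ⟨SheafOfModules.overFunctorMap R g⟩, ⟨Homotopy.ofEq ?_⟩⟩⟩
    rw [hα0, Functor.map_zero]
  | succ n ih =>
    intro V E F α a hE hEa hF hα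
    have hc : a ≤ a + (n : ℤ) := by omega
    generalize hcdef : a + (n : ℤ) = c at hc
    have hαk : ∀ k, c < k → α.f k = 0 := fun k hk => hα k (by push_cast; omega)
    have z : α.f c ≫ F.d c (c + 1) = 0 := by
      rw [α.comm c (c + 1), hαk (c + 1) (by omega), comp_zero]
    have hex := hF c hc
    have : Epi (kernel.lift (F.d c (c + 1)) (F.d (c - 1) c) (F.d_comp_d _ _ _)) :=
      hex.epi_kernelLift
    obtain ⟨S₁, hS₁, h₁⟩ := locLift_of_isFinFreeSummand (hE c)
      (kernel.lift (F.d c (c + 1)) (F.d (c - 1) c) (F.d_comp_d _ _ _))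
      (kernel.lift (F.d c (c + 1)) (α.f c) z)
    have key : ∀ (W : C) (g : W ⟶ V), S₁ g → ∃ S ∈ J W, ∀ ⦃W' : C⦄ (g' : W' ⟶ W), S g' →
        ∃ (Φ : MV R V ⥤ MV R W') (_ : Φ.Additive),
          Nonempty (SheafOfModules.overFunctor R V ⋙ Φ ≅ SheafOfModules.overFunctor R W') ∧
          Nonempty (Homotopy ((Φ.mapHomologicalComplex (ComplexShape.up ℤ)).map α) 0) := by
      intro W g hg
      obtain ⟨ψ, hψ⟩ := h₁ g hg
      have hψ' : ψ ≫ (ρ R g).map (F.d (c - 1) c) = (ρ R g).map (α.f c) := by
        have := congrArg (· ≫ (ρ R g).map (kernel.ι (F.d c (c + 1)))) hψ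
        simpa only [Category.assoc, ← Functor.map_comp, kernel.lift_ι] using this
      let RW := (ρ R g).mapHomologicalComplex (ComplexShape.up ℤ)
      let ψ' : (RW.obj E).X c ⟶ (RW.obj F).X (c - 1) := ψ
      have hα'' : ∀ k, a + (n : ℤ) ≤ k → (RW.map α - singleMap c ψ').f k = 0 := by
        intro k hk
        rw [HomologicalComplex.sub_f_apply]
        rcases (show k = c ∨ c < k by omega) with rfl | hk'
        · rw [singleMap_f_self, sub_eq_zero]
          exact hψ'.symm
        · rw [singleMap_f_of_gt c ψ' k hk', sub_zero]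
          show (ρ R g).map (α.f k) = 0
          rw [hαk k hk', Functor.map_zero]
      obtain ⟨S, hS, h⟩ := ih W (RW.obj E) (RW.obj F) (RW.map α - singleMap c ψ') a
        (fun i => isFinFreeSummand_map (ρ R g) (SheafOfModules.overMapUnitIso g) (hE i))
        (fun i hi => Functor.map_isZero (ρ R g) (hEa i hi))
        (fun i hi => (hF i hi).map (ρ R g)) hα''
      refine ⟨S, hS, fun W' g' hg' => ?_⟩
      obtain ⟨Φ', hadd, ⟨e'⟩, ⟨h'⟩⟩ := h g' hg'
      haveI := hadd
      have h1 : Homotopy ((Φ'.mapHomologicalComplex (ComplexShape.up ℤ)).map (singleMap c ψ')) 0 :=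
        (Φ'.mapHomotopy (singleHomotopy c ψ')).trans (Homotopy.ofEq (Functor.map_zero _ _ _))
      have h2 : Homotopy ((Φ'.mapHomologicalComplex (ComplexShape.up ℤ)).map (RW.map α)) 0 :=
        (Homotopy.ofEq (by rw [← Functor.map_add, sub_add_cancel])).trans
          ((h'.add h1).trans (Homotopy.ofEq (add_zero 0)))
      refine ⟨ρ R g ⋙ Φ', inferInstance,
        ⟨(Functor.associator _ _ _).symm ≪≫
          Functor.isoWhiskerRight (SheafOfModules.overFunctorMap R g) Φ' ≪≫ e'⟩, ⟨?_⟩⟩
      exact h2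
    choose S₂ hS₂ h₂ using key
    refine ⟨Sieve.bind S₁ (fun W g hg => S₂ W g hg),
      J.bind_covering hS₁ (fun W g hg => hS₂ W g hg), ?_⟩
    rintro W' k ⟨W, g', g, hg, hg', rfl⟩
    exact h₂ W g hg g' hg'

end Null

section Top

open Groth.Agent.H90.SPerf

variable {O : Sheaf J CommRingCat.{u}}

/-- restriction to a slice preserves the unit module -/
noncomputable def restrUnitIso (V : C) :
    (ModSite.restr O V).obj (SheafOfModules.unit (ModSite.ringSh O)) ≅
      SheafOfModules.unit ((ModSite.ringSh O).over V) := Iso.refl _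

/-- Local null-homotopy on a ringed site: a chain map from a strictly perfect complex vanishing in
degrees `< a` to a complex with vanishing cohomology in degrees `≥ a` is locally null-homotopic. -/
theorem exists_nullhomotopy {E F : CochainComplex (ModSite.Mod O) ℤ} (α : E ⟶ F)
    (hE : DCoh.IsStrictlyPerfectMod (ModSite.ringSh O) E) (a : ℤ)
    (hEa : ∀ i : ℤ, i < a → IsZero (E.X i))
    (hF : ∀ i : ℤ, a ≤ i → IsZero (F.homology i)) (V : C) :
    ∃ S ∈ J V, ∀ ⦃W : C⦄ (g : W ⟶ V), S g →
      Nonempty (Homotopy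
        (((ModSite.restr O W).mapHomologicalComplex (ComplexShape.up ℤ)).map α) 0) := by
  obtain ⟨⟨a', b, hab⟩, hfl⟩ := hE
  have hle := Int.self_le_toNat (b + 1 - a)
  let RV := (ModSite.restr O V).mapHomologicalComplex (ComplexShape.up ℤ)
  obtain ⟨S, hS, h⟩ := exists_nullhomotopy_aux (R := ModSite.ringSh O) (b + 1 - a).toNat V
    (RV.obj E) (RV.obj F) (RV.map α) a
    (fun i => isFinFreeSummand_map (ModSite.restr O V) (restrUnitIso V) (hfl i))
    (fun i hi => Functor.map_isZero (ModSite.restr O V) (hEa i hi))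
    (fun i hi => ((F.exactAt_iff' (i - 1) i (i + 1) (by simp) (by simp)).1
      ((F.exactAt_iff_isZero_homology i).2 (hF i hi))).map (ModSite.restr O V))
    (fun i hi => (Functor.map_isZero (ModSite.restr O V)
      (hab i (Or.inr (by omega)))).eq_of_src _ _)
  refine ⟨S, hS, fun W g hg => ?_⟩
  obtain ⟨Φ, hadd, ⟨e⟩, ⟨h'⟩⟩ := h g hg
  haveI := hadd
  haveI : (SheafOfModules.overFunctor (ModSite.ringSh O) V).Additive :=
    Groth.Agent.H92.RestrExact.restr_additive O V
  haveI : (SheafOfModules.overFunctor (ModSite.ringSh O) W).Additive :=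
    Groth.Agent.H92.RestrExact.restr_additive O W
  exact nullhomotopy_of_comp_iso (SheafOfModules.overFunctor (ModSite.ringSh O) V) Φ
    (SheafOfModules.overFunctor (ModSite.ringSh O) W) e.symm α h'

/-- Local lifting up to homotopy from a strictly perfect complex on a ringed site. -/
theorem exists_lift_homotopy {E F G : CochainComplex (ModSite.Mod O) ℤ}
    (α : E ⟶ F) (f : G ⟶ F) (hE : DCoh.IsStrictlyPerfectMod (ModSite.ringSh O) E) (a : ℤ)
    (hEa : ∀ j : ℤ, j < a → IsZero (E.X j))
    (hf : ∀ j : ℤ, a < j → IsIso (HomologicalComplex.homologyMap f j))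
    (hfa : Epi (HomologicalComplex.homologyMap f a)) (V : C) :
    ∃ S ∈ J V, ∀ ⦃W : C⦄ (g : W ⟶ V), S g →
      ∃ β : ((ModSite.restr O W).mapHomologicalComplex (ComplexShape.up ℤ)).obj E ⟶
          ((ModSite.restr O W).mapHomologicalComplex (ComplexShape.up ℤ)).obj G,
        Nonempty (Homotopy
          (β ≫ ((ModSite.restr O W).mapHomologicalComplex (ComplexShape.up ℤ)).map f)
          (((ModSite.restr O W).mapHomologicalComplex (ComplexShape.up ℤ)).map α)) := by
  letI := HasDerivedCategory.standard (ModSite.Mod O)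
  have hC : ∀ j, a ≤ j → IsZero ((CochainComplex.mappingCone f).homology j) := by
    intro j hj
    apply isZero_homology_mappingCone_of
    · rcases hj.eq_or_lt with rfl | hj'
      · exact hfa
      · have := hf j hj'
        infer_instance
    · have := hf (j + 1) (by omega)
      infer_instance
  obtain ⟨S, hS, h⟩ :=
    exists_nullhomotopy (α ≫ CochainComplex.mappingCone.inr f) hE a hEa hC V
  refine ⟨S, hS, fun W g hg => ?_⟩
  obtain ⟨h0⟩ := h g hg
  have h' : Homotopy (((ModSite.restr O W).mapHomologicalComplex (ComplexShape.up ℤ)).map α ≫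
      CochainComplex.mappingCone.inr
        (((ModSite.restr O W).mapHomologicalComplex (ComplexShape.up ℤ)).map f)) 0 :=
    (Homotopy.ofEq (by
      rw [Functor.map_comp, Category.assoc, CochainComplex.mappingCone.map_inr])).trans
      ((h0.compRight (CochainComplex.mappingCone.mapHomologicalComplexIso f
        (ModSite.restr O W)).hom).trans (Homotopy.ofEq zero_comp))
  exact exists_lift_of_comp_inr_nullhomotopic _ _ h'

end Top

end Groth.Agent.H53.SliceLift

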