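import Groth.Agent.H53.SheafHomExact
import Groth.Agent.H53.SliceLift
import Groth.Prelude.Def_FlatMod2
import Mathlib.AlgebraicGeometry.Modules.Sheaf

/-!
# Finite locally free modules on a scheme are locally finite free on the site of opens (helper53)
-/

set_option autoImplicit false
universe u
open CategoryTheory CategoryTheory.Limits Opposite AlgebraicGeometry

namespace Groth.Agent.H53.FinLocFreeSlice

open Groth.Agent.H53.SliceLift Groth.Agent.H53.SheafHomExact

section Site

variable {C : Type u} [SmallCategory C] {J : GrothendieckTopology C} (O : Sheaf J CommRingCat.{u})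

/-- freeness of the restriction is inherited by smaller objects -/
lemma restr_free_of_hom {W U : C} (g : W ⟶ U) (M : ModSite.Mod O) (I : Type u) [Finite I]
    (e : (ModSite.restr O U).obj M ≅ SheafOfModules.free (R := ModSite.ringSh (O.over U)) I) :
    Nonempty ((ModSite.restr O W).obj M ≅
      SheafOfModules.free (R := ModSite.ringSh (O.over W)) I) :=
  ⟨((SheafOfModules.overFunctorMap (ModSite.ringSh O) g).app M).symm ≪≫
    (ρ (ModSite.ringSh O) g).mapIso e ≪≫
    mapFreeIso (ρ (ModSite.ringSh O) g) (SheafOfModules.overMapUnitIso g) I⟩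

end Site

section Scheme

variable {X : Scheme.{u}}

/-- `(overEquiv U).functor` sends the unit of the slice to the structure module of `U` -/
noncomputable def overEquivUnitIso (U : X.Opens) :
    (Scheme.Modules.overEquiv U).functor.obj (SheafOfModules.unit (X.ringCatSheaf.over U)) ≅
      SheafOfModules.unit (U : Scheme.{u}).ringCatSheaf :=
  (Scheme.Modules.overFunctorEquiv U).app (SheafOfModules.unit X.ringCatSheaf) ≪≫
    Scheme.Modules.restrictUnitIso U.ι

lemma restr_iso_free (A : X.Modules) (U : X.Opens) (n : ℕ)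
    (e : A.restrict U.ι ≅ FlatMod.freeMod (↑U) n) :
    Nonempty ((ModSite.restr X.sheaf U).obj A ≅
      SheafOfModules.free (R := ModSite.ringSh (X.sheaf.over U)) (ULift.{u} (Fin n))) := by
  let E := Scheme.Modules.overEquiv U
  let F : SheafOfModules.{u} (X.ringCatSheaf.over U) ⥤
      SheafOfModules.{u} (U : Scheme.{u}).ringCatSheaf := E.functor
  haveI : F.IsEquivalence := inferInstanceAs E.functor.IsEquivalence
  haveI : PreservesFiniteLimits F := by
    have := (Adjunction.ofIsRightAdjoint F).rightAdjoint_preservesLimits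
    infer_instance
  haveI : F.Additive := Functor.additive_of_preserves_binary_products _
  let i₁ : F.obj ((ModSite.restr X.sheaf U).obj A) ≅ A.restrict U.ι :=
    (Scheme.Modules.overFunctorEquiv U).app A
  let i₂ : F.obj (SheafOfModules.free (R := X.ringCatSheaf.over U) (ULift.{u} (Fin n))) ≅
      SheafOfModules.free (R := (U : Scheme.{u}).ringCatSheaf) (ULift.{u} (Fin n)) :=
    mapFreeIso F (overEquivUnitIso U) _
  let i₃ : SheafOfModules.free (R := (U : Scheme.{u}).ringCatSheaf) (ULift.{u} (Fin n)) ≅
      FlatMod.freeMod (↑U) n :=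
    Limits.Sigma.whiskerEquiv
      (f := fun _ : ULift.{u} (Fin n) => SheafOfModules.unit (U : Scheme.{u}).ringCatSheaf)
      (g := fun _ : Fin n => Coh.structureModule (↑U : Scheme.{u}))
      (Equiv.ulift) (fun _ => Iso.refl _)
  exact ⟨F.preimageIso (i₁ ≪≫ e ≪≫ i₃.symm ≪≫ i₂.symm)⟩

/-- A finite locally free module on a scheme is locally finite free on the site of opens. -/
theorem locFinFree_of_isFinLocFree (A : X.Modules) (hA : FlatMod.IsFinLocFree A) :
    LocFinFree X.sheaf A := by
  intro V
  let S : Sieve V :=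
    { arrows := fun W _ => ∃ (I : Type u) (_ : Finite I),
        Nonempty ((ModSite.restr X.sheaf W).obj A ≅
          SheafOfModules.free (R := ModSite.ringSh (X.sheaf.over W)) I)
      downward_closed := by
        rintro W W' k ⟨I, hI, ⟨e⟩⟩ g
        exact ⟨I, hI, restr_free_of_hom X.sheaf g A I e⟩ }
  refine ⟨S, ?_, fun W k hk => hk⟩
  intro x hx
  obtain ⟨U, n, hxU, ⟨e⟩⟩ := hA x
  obtain ⟨e'⟩ := restr_iso_free A U n e
  refine ⟨U ⊓ V, homOfLE inf_le_right, ?_, ⟨hxU, hx⟩⟩
  exact ⟨ULift.{u} (Fin n), inferInstance,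
    restr_free_of_hom X.sheaf (homOfLE inf_le_left : U ⊓ V ⟶ U) A _ e'⟩

end Scheme

end Groth.Agent.H53.FinLocFreeSlice
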