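import Mathlib.AlgebraicTopology.AlternatingFaceMapComplex
import Mathlib.Algebra.Homology.Homotopy
import Mathlib.Algebra.Homology.Single

set_option autoImplicit false
open CategoryTheory CategoryTheory.Limits Simplicial

namespace Groth.Agent.H53

variable {A : Type*} [Category A] [Preadditive A]

lemma altCoface_d (Y : CosimplicialObject A) (n : ℕ) :
    (AlgebraicTopology.AlternatingCofaceMapComplex.obj Y).d n (n + 1) =
      ∑ i : Fin (n + 2), (-1 : ℤ) ^ (i : ℕ) • Y.δ i := by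
  simp [AlgebraicTopology.AlternatingCofaceMapComplex.obj, CochainComplex.of_d]

/-- auxiliary homotopy -/
noncomputable def cosimpHomAux (Y : CosimplicialObject A)
    (t : ∀ n : ℕ, Y.obj ⦋n + 1⦌ ⟶ Y.obj ⦋n⦌) :
    ∀ i j : ℕ, (AlgebraicTopology.AlternatingCofaceMapComplex.obj Y).X i ⟶
      (AlgebraicTopology.AlternatingCofaceMapComplex.obj Y).X j
  | 0, _ => 0
  | (i + 1), j => Pi.single (M := fun j => (Y.obj ⦋i + 1⦌ ⟶ Y.obj ⦋j⦌)) i (-t i) j

lemma cosimpHomAux_succ (Y : CosimplicialObject A)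
    (t : ∀ n : ℕ, Y.obj ⦋n + 1⦌ ⟶ Y.obj ⦋n⦌) (i : ℕ) :
    cosimpHomAux Y t (i + 1) i = -t i := by
  simp [cosimpHomAux]

lemma cosimp_aux0 (Y : CosimplicialObject A) (Y₀ : A) (ε : Y₀ ⟶ Y.obj ⦋0⦌)
    (t' : Y.obj ⦋0⦌ ⟶ Y₀) (t0 : Y.obj ⦋0 + 1⦌ ⟶ Y.obj ⦋0⦌)
    (h2 : Y.δ (1 : Fin 2) ≫ t0 = t' ≫ ε)
    (h3 : Y.δ (0 : Fin 2) ≫ t0 = 𝟙 _) :
    t' ≫ ε = (∑ i : Fin (0 + 2), (-1 : ℤ) ^ (i : ℕ) • Y.δ i) ≫ (-t0) + 0 + 𝟙 _ := by
  rw [Fin.sum_univ_two]
  simp only [Fin.val_zero, pow_zero, one_smul, Fin.val_one, pow_one, neg_smul,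
    Preadditive.add_comp, Preadditive.comp_neg, Preadditive.neg_comp, neg_neg, add_zero]
  rw [h2, h3]
  abel

lemma cosimp_auxS (Y : CosimplicialObject A) (i : ℕ)
    (t : ∀ n : ℕ, Y.obj ⦋n + 1⦌ ⟶ Y.obj ⦋n⦌)
    (h3 : ∀ n, Y.δ (0 : Fin (n + 2)) ≫ t n = 𝟙 _)
    (h4 : ∀ (n : ℕ) (i : Fin (n + 2)), Y.δ i.succ ≫ t (n + 1) = t n ≫ Y.δ i) :
    (0 : Y.obj ⦋i + 1⦌ ⟶ Y.obj ⦋i + 1⦌) =
      (∑ j : Fin (i + 1 + 2), (-1 : ℤ) ^ (j : ℕ) • Y.δ j) ≫ (-t (i + 1)) +
        (-t i) ≫ (∑ j : Fin (i + 2), (-1 : ℤ) ^ (j : ℕ) • Y.δ j) + 𝟙 _ := by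
  rw [Fin.sum_univ_succ (n := i + 2)]
  simp [Preadditive.sum_comp, Preadditive.comp_sum, h3, h4, pow_succ]

variable [HasZeroObject A]

/-- A coaugmented cosimplicial object with an extra codegeneracy has an alternating coface map
complex which is homotopy equivalent to the coaugmentation object placed in degree zero. -/
noncomputable def cosimpHomotopyEquiv
    (Y : CosimplicialObject A) (Y₀ : A) (ε : Y₀ ⟶ Y.obj ⦋0⦌)
    (hε : ε ≫ Y.δ (0 : Fin 2) = ε ≫ Y.δ (1 : Fin 2))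
    (t' : Y.obj ⦋0⦌ ⟶ Y₀) (t : ∀ n : ℕ, Y.obj ⦋n + 1⦌ ⟶ Y.obj ⦋n⦌)
    (h1 : ε ≫ t' = 𝟙 _) (h2 : Y.δ (1 : Fin 2) ≫ t 0 = t' ≫ ε)
    (h3 : ∀ n, Y.δ (0 : Fin (n + 2)) ≫ t n = 𝟙 _)
    (h4 : ∀ (n : ℕ) (i : Fin (n + 2)), Y.δ i.succ ≫ t (n + 1) = t n ≫ Y.δ i) :
    HomotopyEquiv ((CochainComplex.single₀ A).obj Y₀)
      (AlgebraicTopology.AlternatingCofaceMapComplex.obj Y) where
  hom := (CochainComplex.fromSingle₀Equiv _ _).symm ⟨ε, by
    rw [altCoface_d, Fin.sum_univ_two]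
    simp only [Fin.val_zero, pow_zero, one_smul, Fin.val_one, pow_one, neg_smul]
    erw [Preadditive.comp_add, Preadditive.comp_neg, hε, add_neg_cancel]⟩
  inv := (CochainComplex.toSingle₀Equiv _ _).symm t'
  homotopyHomInvId := Homotopy.ofEq (by
    ext
    simp
    exact h1)
  homotopyInvHomId :=
    { hom := cosimpHomAux Y t
      zero := fun i j hij => by
        match i with
        | 0 => rfl
        | (i + 1) =>
          refine Pi.single_eq_of_ne ?_ _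
          rintro rfl
          exact hij rfl
      comm := fun i => by
        match i with
        | 0 =>
          rw [Homotopy.prevD_zero_cochainComplex, Homotopy.dNext_cochainComplex,
            cosimpHomAux_succ, HomologicalComplex.comp_f,
            CochainComplex.toSingle₀Equiv_symm_apply_f_zero,
            CochainComplex.fromSingle₀Equiv_symm_apply_f_zero, HomologicalComplex.id_f]
          erw [altCoface_d]
          exact cosimp_aux0 Y Y₀ ε t' (t 0) h2 (h3 0)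
        | (i + 1) =>
          rw [Homotopy.prevD_succ_cochainComplex, Homotopy.dNext_cochainComplex,
            cosimpHomAux_succ, cosimpHomAux_succ, HomologicalComplex.comp_f,
            CochainComplex.toSingle₀Equiv_symm_apply_f_succ, zero_comp, HomologicalComplex.id_f]
          erw [altCoface_d, altCoface_d]
          exact cosimp_auxS Y i t h3 h4 }

end Groth.Agent.H53
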