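import Mathlib.CategoryTheory.Sites.SheafCohomology.Cech
import Groth.Agent.H53.CosimpExtra

set_option autoImplicit false
open CategoryTheory CategoryTheory.Limits Opposite Simplicial

namespace Groth.Agent.H53

universe w v v' u u'

section

variable {C : Type u} [Category.{v} C] [HasFiniteProducts C] [Quiver.IsThin C]

omit [HasFiniteProducts C] in
lemma fc_hom_ext {X Y : FormalCoproduct.{w} C} {f g : X ⟶ Y} (h : ∀ x, f.f x = g.f x) : f = g :=
  FormalCoproduct.hom_ext (funext h) (fun _ => Subsingleton.elim _ _)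

variable {ι : Type w} (U : ι → C) (V : C) (a : ∀ j, U j ⟶ V) (i : ι) (b : V ⟶ U i)

/-- the Cech object in degree `n` -/
noncomputable abbrev cechE (n : ℕ) : FormalCoproduct.{w} C :=
  (FormalCoproduct.mk ι U).cech.obj (op ⦋n⦌)

/-- augmentation of the Cech object towards `V` -/
noncomputable def cechAug : cechE U 0 ⟶ (FormalCoproduct.incl C).obj V where
  f _ := PUnit.unit
  φ x := Pi.π (U ∘ x) (0 : Fin 1) ≫ a (x (0 : Fin 1))

/-- section of the augmentation -/
noncomputable def cechS' : (FormalCoproduct.incl C).obj V ⟶ cechE U 0 :=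
  FormalCoproduct.Hom.fromIncl (fun _ => i) (Pi.lift fun _ => b)

/-- extra degeneracy -/
noncomputable def cechS (n : ℕ) : cechE U n ⟶ cechE U (n + 1) where
  f x := (Fin.cons i x : Fin (n + 2) → ι)
  φ x := Pi.lift (Fin.cases (motive := fun k => (∏ᶜ (U ∘ x) ⟶ U ((Fin.cons i x : Fin (n + 2) → ι) k)))
    (Pi.π (U ∘ x) (0 : Fin (n + 1)) ≫ a (x (0 : Fin (n + 1))) ≫ b) (fun k => Pi.π (U ∘ x) k))


lemma cechS'_aug : cechS' U V i b ≫ cechAug U V a = 𝟙 _ :=
  fc_hom_ext (fun _ => rfl)

lemma cech_δ_aug :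
    (FormalCoproduct.mk ι U).cech.δ (0 : Fin 2) ≫ cechAug U V a =
      (FormalCoproduct.mk ι U).cech.δ (1 : Fin 2) ≫ cechAug U V a :=
  fc_hom_ext (fun _ => rfl)

lemma cech_aug_S' :
    cechAug U V a ≫ cechS' U V i b =
      cechS U V a i b 0 ≫ (FormalCoproduct.mk ι U).cech.δ (1 : Fin 2) :=
  fc_hom_ext (fun x => by
    funext k
    have hk : k = (0 : Fin 1) := Subsingleton.elim (α := Fin 1) _ _
    subst hk
    rfl)

lemma cechS_δ₀ (n : ℕ) :
    cechS U V a i b n ≫ (FormalCoproduct.mk ι U).cech.δ (0 : Fin (n + 2)) = 𝟙 _ :=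
  fc_hom_ext (fun x => by
    funext k
    rfl)

lemma cechS_δ_succ (n : ℕ) (j : Fin (n + 2)) :
    cechS U V a i b (n + 1) ≫ (FormalCoproduct.mk ι U).cech.δ j.succ =
      (FormalCoproduct.mk ι U).cech.δ j ≫ cechS U V a i b n :=
  fc_hom_ext (fun x => by
    funext k
    change (Fin.cons i x : Fin (n + 3) → ι) (j.succ.succAbove k) =
      (Fin.cons i (x ∘ j.succAbove) : Fin (n + 2) → ι) k
    induction k using Fin.cases with
    | zero => simp
    | succ k => simp)


variable {A : Type u'} [Category.{v'} A] [HasProducts.{w} A] [Preadditive A] [HasZeroObject A]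

/-- If all `U j` map to `V` and `V` maps to some `U i` (in a thin category), the Cech complex of
a presheaf `F` is homotopy equivalent to `F(V)` in degree zero. -/
noncomputable def cechHomotopyEquiv (F : Cᵒᵖ ⥤ A) :
    HomotopyEquiv ((CochainComplex.single₀ A).obj (F.obj (op V)))
      ((cechComplexFunctor U).obj F) := by
  let G := (FormalCoproduct.evalOp.{w} C A).obj F
  let iso : G.obj (op ((FormalCoproduct.incl C).obj V)) ≅ F.obj (op V) :=
    ((FormalCoproduct.evalOpCompInlIsoId C A).app F).app (op V)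
  let E := (FormalCoproduct.mk ι U).cech
  let Y : CosimplicialObject A := (FormalCoproduct.cosimplicialObjectFunctor E).obj F
  have key : ∀ {P Q R : FormalCoproduct.{w} C} (f : P ⟶ Q) (g : Q ⟶ R),
      G.map g.op ≫ G.map f.op = G.map (f ≫ g).op := fun f g => by
    rw [← G.map_comp, ← op_comp]
  let ε : F.obj (op V) ⟶ G.obj (op (cechE U 0)) := iso.inv ≫ G.map (cechAug U V a).op
  let t' : G.obj (op (cechE U 0)) ⟶ F.obj (op V) := G.map (cechS' U V i b).op ≫ iso.hom
  let t : ∀ n : ℕ, G.obj (op (cechE U (n + 1))) ⟶ G.obj (op (cechE U n)) :=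
    fun n => G.map (cechS U V a i b n).op
  have e0 : ε ≫ G.map (E.δ (0 : Fin 2)).op = ε ≫ G.map (E.δ (1 : Fin 2)).op := by
    simp only [ε, Category.assoc]
    rw [key, key, cech_δ_aug]
  have e1 : ε ≫ t' = 𝟙 _ := by
    simp only [ε, t', Category.assoc]
    rw [reassoc_of% (key (cechS' U V i b) (cechAug U V a)), cechS'_aug]
    simp
  have e2 : G.map (E.δ (1 : Fin 2)).op ≫ t 0 = t' ≫ ε := by
    simp only [ε, t', t, Category.assoc, Iso.hom_inv_id_assoc]
    rw [key, key, cech_aug_S']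
  have e3 : ∀ n, G.map (E.δ (0 : Fin (n + 2))).op ≫ t n = 𝟙 _ := fun n => by
    simp only [t]
    rw [key, cechS_δ₀]
    exact G.map_id _
  have e4 : ∀ (n : ℕ) (j : Fin (n + 2)),
      G.map (E.δ j.succ).op ≫ t (n + 1) = t n ≫ G.map (E.δ j).op := fun n j => by
    simp only [t]
    rw [key, key, cechS_δ_succ]
  exact cosimpHomotopyEquiv Y (F.obj (op V)) ε e0 t' t e1 e2 e3 e4

end

end Groth.Agent.H53
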