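import Mathlib.CategoryTheory.Abelian.GrothendieckAxioms.Basic
import Mathlib.CategoryTheory.Limits.Preserves.Limits
import Mathlib.CategoryTheory.Limits.Preserves.Shapes.Kernels
import Mathlib.CategoryTheory.Limits.FunctorCategory.Basic
import Mathlib.Algebra.Homology.ShortComplex.ExactFunctor

/-!
# The kernel of a natural transformation between colimit-preserving functors (helper53 library)

If `0 ⟶ H ⟶ A ⟶ B` is a pointwise left exact sequence of functors `𝒜 ⥤ ℬ`, colimits of shape `Λ`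
are exact in `ℬ`, and `A`, `B` preserve the colimit of `D : Λ ⥤ 𝒜`, then so does `H`.
-/

set_option autoImplicit false
universe v₁ v₂ v₃ u₁ u₂ u₃
open CategoryTheory CategoryTheory.Limits

namespace Groth.Agent.H53.ColimKernel

variable {𝒜 : Type u₁} [Category.{v₁} 𝒜] {ℬ : Type u₂} [Category.{v₂} ℬ] [Abelian ℬ]
  {Λ : Type u₃} [Category.{v₃} Λ] [HasColimitsOfShape Λ ℬ] [HasExactColimitsOfShape Λ ℬ]

theorem preservesColimit_of_pointwise_kernel (D : Λ ⥤ 𝒜) [HasColimit D]
    {H A B : 𝒜 ⥤ ℬ} (ι : H ⟶ A) (φ : A ⟶ B) (w : ι ≫ φ = 0)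
    (hk : ∀ X : 𝒜, IsLimit (KernelFork.ofι (ι.app X)
      (show ι.app X ≫ φ.app X = 0 by rw [← NatTrans.comp_app, w]; rfl)))
    [PreservesColimit D A] [PreservesColimit D B] : PreservesColimit D H := by
  have w' : Functor.whiskerLeft D ι ≫ Functor.whiskerLeft D φ = 0 := by
    ext k
    simp only [NatTrans.comp_app, Functor.whiskerLeft_app]
    rw [← NatTrans.comp_app, w]; rfl
  -- the kernel in the functor category
  have hkD : IsLimit (KernelFork.ofι (Functor.whiskerLeft D ι) w') :=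
    evaluationJointlyReflectsLimits _ (fun k =>
      (KernelFork.isLimitMapConeEquiv _ _).symm (hk (D.obj k)))
  -- `colim` preserves it
  have hkc := KernelFork.mapIsLimit _ hkD (colim (J := Λ) (C := ℬ))
  let i1 : colimit (D ⋙ H) ⟶ colimit (D ⋙ A) := colimMap (Functor.whiskerLeft D ι)
  let p1 : colimit (D ⋙ A) ⟶ colimit (D ⋙ B) := colimMap (Functor.whiskerLeft D φ)
  have hi1 : Mono i1 := mono_of_isLimit_fork hkc
  let a := colimit.post D A
  let b := colimit.post D B
  let h := colimit.post D H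
  let i2 := ι.app (colimit D)
  have hi2 : Mono i2 := mono_of_isLimit_fork (hk (colimit D))
  have sq1 : h ≫ i2 = i1 ≫ a := by
    apply colimit.hom_ext; intro k
    simp [h, i2, i1, a]
  have sq2 : p1 ≫ b = a ≫ φ.app (colimit D) := by
    apply colimit.hom_ext; intro k
    simp [p1, b, a]
  have hz : (i2 ≫ inv a) ≫ p1 = 0 := by
    have : inv a ≫ p1 = φ.app (colimit D) ≫ inv b := by
      rw [IsIso.inv_comp_eq, ← Category.assoc, ← sq2, Category.assoc, IsIso.hom_inv_id,
        Category.comp_id]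
    rw [Category.assoc, this, ← Category.assoc]
    have : i2 ≫ φ.app (colimit D) = 0 := by rw [← NatTrans.comp_app, w]; rfl
    rw [this, zero_comp]
  obtain ⟨g₀, hg⟩ := KernelFork.IsLimit.lift' hkc (i2 ≫ inv a) hz
  let g : H.obj (colimit D) ⟶ colimit (D ⋙ H) := g₀
  have hg' : g ≫ i1 = i2 ≫ inv a := hg
  have h1 : h ≫ g = 𝟙 _ := by
    apply (cancel_mono i1).1
    calc (h ≫ g) ≫ i1 = h ≫ (g ≫ i1) := Category.assoc _ _ _
      _ = (h ≫ i2) ≫ inv a := by rw [hg', Category.assoc]
      _ = i1 ≫ (a ≫ inv a) := by rw [sq1, Category.assoc]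
      _ = 𝟙 _ ≫ i1 := by rw [IsIso.hom_inv_id, Category.comp_id, Category.id_comp]
  have h2 : g ≫ h = 𝟙 _ := by
    apply (cancel_mono i2).1
    calc (g ≫ h) ≫ i2 = g ≫ (h ≫ i2) := Category.assoc _ _ _
      _ = (g ≫ i1) ≫ a := by rw [sq1, Category.assoc]
      _ = i2 ≫ (inv a ≫ a) := by rw [hg', Category.assoc]
      _ = 𝟙 _ ≫ i2 := by rw [IsIso.inv_hom_id, Category.comp_id, Category.id_comp]
  haveI : IsIso (colimit.post D H) := ⟨⟨g, h1, h2⟩⟩
  exact preservesColimit_of_isIso_post H D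

end Groth.Agent.H53.ColimKernel
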