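import Groth.Agent.H53.SheafHomComm
import Groth.Agent.H53.FinLocFreeSlice

/-!
# The dual of a locally finite free module: the adjunction `(- ⊗ A^∨) ⊣ (- ⊗ A)` and local
freeness of `A^∨` (helper53)
-/

set_option autoImplicit false
set_option linter.style.haveILetI false
universe u
open CategoryTheory CategoryTheory.Limits MonoidalCategory Opposite AlgebraicGeometry

namespace Groth.Agent.H53.DualAdj

open Groth.Agent.H31 Groth.Agent.H31.ExtZero Groth.Agent.H53.MonoidalDual
  Groth.Agent.H53.SheafDual Groth.Agent.H53.SheafHomExact Groth.Agent.H53.SliceLift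

section Site

variable {C : Type u} [SmallCategory C] {J : GrothendieckTopology C} {O : Sheaf J CommRingCat.{u}}

/-- The dual sheaf `A^∨ = ℋom(A, O)`. -/
noncomputable abbrev dual (A : ModSite.Mod O) : ModSite.Mod O :=
  (Hsh ((toPM O).obj A)).obj (ModSite.unit O)

/-- For `A` locally finite free, `(- ⊗ A^∨) ⊣ (- ⊗ A)`. -/
noncomputable def adj (A : ModSite.Mod O) (hA : LocFinFree O A) :
    (ModSite.tensorBi O).flip.obj (dual A) ⊣ (ModSite.tensorBi O).flip.obj A :=
  (Groth.Agent.H31.sheafHomAdj (dual A)).ofNatIsoRight (SheafHomComm.dualNatIsoHsh A hA).symm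

/-- The dual of a locally finite free module is locally finite free. -/
theorem locFinFree_dual (A : ModSite.Mod O) (hA : LocFinFree O A) : LocFinFree O (dual A) := by
  intro V
  obtain ⟨S, hS, hk⟩ := hA V
  refine ⟨S, hS, fun W k hkS => ?_⟩
  obtain ⟨I, hI, ⟨e⟩⟩ := hk k hkS
  refine ⟨I, hI, ?_⟩
  obtain ⟨_⟩ := nonempty_fintype I
  have : HasFiniteBiproducts (PM (O.over W)) := HasFiniteBiproducts.of_hasFiniteProducts
  have : HasFiniteBiproducts (ModSite.Mod (O.over W)) := HasFiniteBiproducts.of_hasFiniteProducts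
  have : (toPM (O.over W)).Additive :=
    inferInstanceAs (SheafOfModules.forget (ModSite.ringSh (O.over W))).Additive
  let f : I → ModSite.Mod (O.over W) := fun _ => ModSite.unit (O.over W)
  have : PreservesBiproduct f (toPM (O.over W)) :=
    { preserves := fun {b} hb => ⟨isBilimitOfTotal _ (by
        show ∑ j : I, (toPM (O.over W)).map (b.π j) ≫ (toPM (O.over W)).map (b.ι j) =
          𝟙 ((toPM (O.over W)).obj b.pt)
        simp_rw [← Functor.map_comp]
        rw [← Functor.map_sum, IsBilimit.total hb, CategoryTheory.Functor.map_id])⟩ }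
  have e1 : SheafOfModules.free (R := ModSite.ringSh (O.over W)) I ≅ ⨁ f :=
    (biproduct.isoCoproduct f).symm
  let i0 : (toPM (O.over W)).obj (SheafOfModules.free (R := ModSite.ringSh (O.over W)) I) ≅
      BiprodDual.F (𝒞 := PM (O.over W)) I :=
    (toPM (O.over W)).mapIso e1 ≪≫ (toPM (O.over W)).mapBiproduct f
  let i : (res O W).obj ((toPM O).obj A) ≅ BiprodDual.F (𝒞 := PM (O.over W)) I :=
    (toPM (O.over W)).mapIso e ≪≫ i0
  letI P : ExactPairing ((res O W).obj ((toPM O).obj A)) (BiprodDual.F (𝒞 := PM (O.over W)) I) :=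
    @exactPairingCongrLeft _ _ _ _ _ _ (BiprodDual.exactPairing (PM (O.over W)) I) i
  have hkap : IsIso (kapUnit (res O W) (tensorAdj ((toPM O).obj A))
      (tensorAdj ((res O W).obj ((toPM O).obj A)))) := by
    unfold kapUnit; infer_instance
  let k1 : (res O W).obj ((H ((toPM O).obj A)).obj (𝟙_ (PM O))) ≅
      (H ((res O W).obj ((toPM O).obj A))).obj (𝟙_ (PM (O.over W))) :=
    @asIso _ _ _ _ (kapUnit (res O W) (tensorAdj ((toPM O).obj A))
      (tensorAdj ((res O W).obj ((toPM O).obj A)))) hkap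
  let k2 := dualIso (tensorAdj ((res O W).obj ((toPM O).obj A)))
    (BiprodDual.F (𝒞 := PM (O.over W)) I)
  let k3 : (toPM (O.over W)).obj ((ModSite.restr O W).obj (dual A)) ≅
      (toPM (O.over W)).obj (SheafOfModules.free (R := ModSite.ringSh (O.over W)) I) :=
    k1 ≪≫ k2 ≪≫ i0.symm
  exact ⟨(SheafOfModules.fullyFaithfulForget _).preimageIso k3⟩

end Site

section Scheme

variable {X : Scheme.{u}}

/-- A module on a scheme which is locally finite free on the site of opens is finite locally
free. -/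
theorem isFinLocFree_of_locFinFree (D : X.Modules) (hD : LocFinFree X.sheaf D) :
    FlatMod.IsFinLocFree D := by
  intro x
  obtain ⟨S, hS, hk⟩ := hD ⊤
  obtain ⟨W₀, k, hkS, hxW⟩ := hS x trivial
  obtain ⟨W, rfl⟩ : ∃ W : X.Opens, W = W₀ := ⟨W₀, rfl⟩
  obtain ⟨I, hI, ⟨e⟩⟩ := hk k hkS
  obtain ⟨n, ⟨eq⟩⟩ := Finite.exists_equiv_fin I
  refine ⟨W, n, hxW, ?_⟩
  let E := Scheme.Modules.overEquiv W
  let F : SheafOfModules.{u} (X.ringCatSheaf.over W) ⥤
      SheafOfModules.{u} (W : Scheme.{u}).ringCatSheaf := E.functor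
  haveI : F.IsEquivalence := inferInstanceAs E.functor.IsEquivalence
  haveI : PreservesFiniteLimits F := by
    have := (Adjunction.ofIsRightAdjoint F).rightAdjoint_preservesLimits
    infer_instance
  haveI : F.Additive := Functor.additive_of_preserves_binary_products _
  let i₁ : F.obj ((ModSite.restr X.sheaf W).obj D) ≅ D.restrict W.ι :=
    (Scheme.Modules.overFunctorEquiv W).app D
  let i₂ : F.obj (SheafOfModules.free (R := X.ringCatSheaf.over W) I) ≅
      SheafOfModules.free (R := (W : Scheme.{u}).ringCatSheaf) I :=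
    mapFreeIso F (FinLocFreeSlice.overEquivUnitIso W) _
  let i₃ : SheafOfModules.free (R := (W : Scheme.{u}).ringCatSheaf) I ≅
      FlatMod.freeMod (↑W) n :=
    Limits.Sigma.whiskerEquiv
      (f := fun _ : I => SheafOfModules.unit (W : Scheme.{u}).ringCatSheaf)
      (g := fun _ : Fin n => Coh.structureModule (↑W : Scheme.{u}))
      eq (fun _ => Iso.refl _)
  exact ⟨i₁.symm ≪≫ F.mapIso e ≪≫ i₂ ≪≫ i₃⟩

end Scheme

end Groth.Agent.H53.DualAdj
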