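import Groth.Agent.H53.SheafHomExact
import Groth.Agent.H90.QCohHom
import Groth.Agent.H82.HHFinite

/-!
# `ℋom(O^n, G)` is coherent for coherent `G` (helper53)
-/

set_option autoImplicit false
universe u
open CategoryTheory CategoryTheory.Limits AlgebraicGeometry


namespace Groth.Agent.H53.SheafHomFreeCoh

set_option backward.isDefEq.respectTransparency false
set_option linter.style.haveILetI false

open Groth.Agent.H53.SheafHomExact

/-- (H) `ℋom(O^n, G)` is coherent for coherent `G`. -/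
theorem isCoh_sheafHom_freeMod (X : Scheme.{u}) (n : ℕ) (G : X.Modules) (hG : Coh.IsCoh G)
    [ModSite.HasSheafHom (O := X.sheaf) (FlatMod.freeMod X n)] :
    Coh.IsCoh ((ModSite.sheafHom (O := X.sheaf) (FlatMod.freeMod X n)).obj G) := by
  let I := ULift.{u} (Fin n)
  let e1 : SheafOfModules.free (R := ModSite.ringSh X.sheaf) I ≅ FlatMod.freeMod X n :=
    Limits.Sigma.whiskerEquiv (f := fun _ : I => SheafOfModules.unit X.ringCatSheaf)
      (g := fun _ : Fin n => Coh.structureModule X) Equiv.ulift (fun _ => Iso.refl _)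
  have e2 := (sheafHomIsoOfIso X.sheaf e1).app G
  have e3 := (sheafHomFreeIso X.sheaf I).app G
  haveI : HasFiniteBiproducts X.Modules := HasFiniteBiproducts.of_hasFiniteProducts
  let e4 : (∏ᶜ fun _ : I => G) ≅ ∏ᶜ fun _ : Fin n => G :=
    Limits.Pi.whiskerEquiv (f := fun _ : I => G) (g := fun _ : Fin n => G)
      Equiv.ulift (fun _ => Iso.refl _)
  let e5 : (∏ᶜ fun _ : Fin n => G) ≅ ∐ fun _ : Fin n => G :=
    (biproduct.isoProduct _).symm ≪≫ biproduct.isoCoproduct _
  exact Groth.Agent.H90.QH.isCoh_of_iso (e5.symm ≪≫ e4.symm ≪≫ e3.symm ≪≫ e2)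
    (Groth.Agent.H82.HHFinite.isCoh_sigma _ (fun _ => hG))

end Groth.Agent.H53.SheafHomFreeCoh
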