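import Groth.Agent.H53.ExtRestr
import Groth.Agent.H66.ResBuild
import Groth.Agent.H31.CohLocal
import Groth.Agent.H31.AffineGG
import Groth.Agent.H53.ExtShResolution
import Groth.Agent.H53.FinLocFreeSlice
import Groth.Agent.H53.SheafHomFreeCoh
import Groth.Agent.H28.PerfLocal
import Groth.Agent.H22.RelTwistGG
import Groth.Agent.S0485

/-!
# Ext sheaves of coherent modules on locally Noetherian schemes are coherent (helper53)

Pieces: helper66 (abstract resolutions), helper31 (locality of coherence, global generation on affines),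
helper45 (S16281.restrSheafHomIso).
-/

set_option autoImplicit false
universe u
open CategoryTheory CategoryTheory.Limits AlgebraicGeometry
open Coherent

namespace Groth.Agent.H53.ExtCoh

open Groth.Agent.H53.ExtRestr

set_option backward.isDefEq.respectTransparency false
set_option linter.style.haveILetI false

open Groth.Agent.H31 Groth.Agent.H31.Stalk

/-- (A) the affine case. -/
theorem isCoh_extSh_affine (X : Scheme.{u}) [IsAffine X] [IsLocallyNoetherian X]
    (F G : X.Modules) (hF : Coh.IsCoh F) (hG : Coh.IsCoh G)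
    [ModSite.HasSheafHom (O := X.sheaf) F] [HasInjectiveResolutions (ModSite.Mod X.sheaf)]
    (i : ℕ) :
    Coh.IsCoh ((ModSite.extSh (O := X.sheaf) F i).obj G) := by
  obtain ⟨E, π, hπ, hepi, hex0, hex, hQ⟩ := Groth.Agent.H66.ResBuild.exists_resolution_of_enough (C := X.Modules)
    (fun A => Coh.IsCoh A) (fun A => ∃ n : ℕ, Nonempty (A ≅ FlatMod.freeMod X n))
    (fun A ⟨n, ⟨e⟩⟩ => Groth.Agent.H90.QH.isCoh_of_isFinLocFree
      (Groth.Agent.H28.LpullLoc.isFinLocFree_of_iso_freeMod e))
    (fun f hA hB => Groth.Agent.H8.isCoh_kernel hA hB f)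
    (fun Z hZ => by
      obtain ⟨n, π, hπ⟩ := Groth.Agent.H31.AffineGG.exists_epi_freeMod_of_isAffine X Z hZ
      exact ⟨FlatMod.freeMod X n, π, ⟨n, ⟨Iso.refl _⟩⟩, hπ⟩) F hF
  haveI := hepi
  have hE : ∀ j, PreservesFiniteColimits (ModSite.sheafHom (O := X.sheaf) (E.X j)) := fun j => by
    obtain ⟨n, ⟨e⟩⟩ := hQ j
    exact Groth.Agent.H53.SheafHomExact.preservesFiniteColimits_sheafHom (E.X j)
      (Groth.Agent.H53.FinLocFreeSlice.locFinFree_of_isFinLocFree _
        (Groth.Agent.H28.LpullLoc.isFinLocFree_of_iso_freeMod e))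
  obtain ⟨e⟩ := Groth.Agent.H53.ExtShResolution.main (O := X.sheaf) (E := E) (F := F)
    π hπ hex0 hex hE G i
  refine Groth.Agent.H90.QH.isCoh_of_iso e (isCoh_homology_nat _ i (fun j => ?_))
  obtain ⟨n, ⟨e'⟩⟩ := hQ j
  exact Groth.Agent.H90.QH.isCoh_of_iso
    ((Groth.Agent.H53.SheafHomExact.sheafHomIsoOfIso X.sheaf e'.symm).app G)
    (Groth.Agent.H53.SheafHomFreeCoh.isCoh_sheafHom_freeMod X n G hG)

/-- `ℰxt^i(F, G)` is coherent for coherent `F`, `G` on a locally Noetherian scheme. -/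
theorem isCoh_extSh (X : Scheme.{u}) [IsLocallyNoetherian X] (F G : X.Modules)
    (hF : Coh.IsCoh F) (hG : Coh.IsCoh G)
    [ModSite.HasSheafHom (O := X.sheaf) F] [HasInjectiveResolutions (ModSite.Mod X.sheaf)] (i : ℕ) :
    Coh.IsCoh ((ModSite.extSh (O := X.sheaf) F i).obj G) := by
  apply Groth.Agent.H31.CohLocal.isCoh_of_forall_affine_restrict
  intro U hU
  haveI : IsAffine (↑U : Scheme.{u}) := hU
  haveI : EnoughInjectives (ModSite.Mod (↑U : Scheme.{u}).sheaf) :=
    Groth.Agent.S0485.result _ _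
  haveI : HasInjectiveResolutions (ModSite.Mod (↑U : Scheme.{u}).sheaf) := inferInstance
  obtain ⟨e⟩ := Groth.Agent.H53.ExtRestr.nonempty_extSh_restrict_iso X U F G i
  exact Groth.Agent.H90.QH.isCoh_of_iso e.symm
    (isCoh_extSh_affine (↑U : Scheme.{u}) (F.restrict U.ι) (G.restrict U.ι)
      (Groth.Agent.H22.RelTwistGG.isCoh_restrict U.ι hF)
      (Groth.Agent.H22.RelTwistGG.isCoh_restrict U.ι hG) i)

/-- `ℋom(F, G)` is coherent for coherent `F`, `G` on a locally Noetherian scheme. -/
theorem isCoh_sheafHom (X : Scheme.{u}) [IsLocallyNoetherian X] (F G : X.Modules)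
    (hF : Coh.IsCoh F) (hG : Coh.IsCoh G) [ModSite.HasSheafHom (O := X.sheaf) F] :
    Coh.IsCoh ((ModSite.sheafHom (O := X.sheaf) F).obj G) := by
  haveI : EnoughInjectives (ModSite.Mod X.sheaf) := Groth.Agent.S0485.result _ _
  haveI : HasInjectiveResolutions (ModSite.Mod X.sheaf) := inferInstance
  haveI : (ModSite.sheafHom (O := X.sheaf) F).Additive :=
    (ModSite.sheafHomAdj F).right_adjoint_additive
  haveI : PreservesFiniteLimits (ModSite.sheafHom (O := X.sheaf) F) := by
    have := (ModSite.sheafHomAdj F).rightAdjoint_preservesLimits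
    infer_instance
  exact Groth.Agent.H90.QH.isCoh_of_iso
    ((ModSite.sheafHom (O := X.sheaf) F).rightDerivedZeroIsoSelf.app G)
    (isCoh_extSh X F G hF hG 0)

end Groth.Agent.H53.ExtCoh
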