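import Groth.Agent.S16281
import Groth.Agent.H90.QCohHom
import Groth.Agent.H8.CohKerCoker

/-!
# Ext sheaves commute with restriction to opens; homology of ℕ-indexed complexes of coherent modules (helper53)
-/

set_option autoImplicit false
universe u
open CategoryTheory CategoryTheory.Limits AlgebraicGeometry
open Coherent

namespace Groth.Agent.H53.ExtRestr

set_option backward.isDefEq.respectTransparency false
set_option linter.style.haveILetI false

open Groth.Agent.H31 Groth.Agent.H31.Stalk

/-- (N) homology of an `ℕ`-indexed cochain complex with coherent terms is coherent. -/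
theorem isCoh_homology_nat {X : Scheme.{u}} [IsLocallyNoetherian X]
    (K : CochainComplex X.Modules ℕ) (i : ℕ)
    (h : ∀ j, Coh.IsCoh (K.X j)) : Coh.IsCoh (K.homology i) := by
  have h1 : Coh.IsCoh ((K.sc i).X₁) := h _
  have h2 : Coh.IsCoh ((K.sc i).X₂) := h _
  have h3 : Coh.IsCoh ((K.sc i).X₃) := h _
  have hk : Coh.IsCoh (kernel (K.sc i).g) := Groth.Agent.H8.isCoh_kernel h2 h3 _
  have hc : Coh.IsCoh (cokernel (kernel.lift (K.sc i).g (K.sc i).f (K.sc i).zero)) :=
    Groth.Agent.H8.isCoh_cokernel h1 hk _
  exact Groth.Agent.H90.QH.isCoh_of_iso ((K.sc i).homologyIsoCokernelLift).symm hc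

/-- (Re) Ext sheaves commute with restriction to opens. -/
theorem nonempty_extSh_restrict_iso (X : Scheme.{u}) (U : X.Opens) (F G : X.Modules)
    [ModSite.HasSheafHom (O := X.sheaf) F] [HasInjectiveResolutions (ModSite.Mod X.sheaf)]
    [ModSite.HasSheafHom (O := (↑U : Scheme.{u}).sheaf) (F.restrict U.ι)]
    [HasInjectiveResolutions (ModSite.Mod (↑U : Scheme.{u}).sheaf)] (i : ℕ) :
    Nonempty ((Scheme.Modules.restrictFunctor U.ι).obj
        ((ModSite.extSh (O := X.sheaf) F i).obj G) ≅
      (ModSite.extSh (O := (↑U : Scheme.{u}).sheaf) (F.restrict U.ι) i).obj (G.restrict U.ι)) := by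
  have hE : ∀ J : ModSite.Mod X.sheaf, Injective J →
      Injective ((Scheme.Modules.restrictFunctor U.ι).obj J) := fun J hJ => by
    haveI := hJ
    exact Groth.Agent.H30.ExtZeroSch.injective_restrict U J
  haveI : PreservesFiniteLimits (Scheme.Modules.restrictFunctor U.ι) :=
    ⟨fun _ _ _ => (CxOX.extZeroAdj U.ι).rightAdjoint_preservesLimits.preservesLimitsOfShape⟩
  haveI : PreservesFiniteColimits (Scheme.Modules.restrictFunctor U.ι) :=
    ⟨fun _ _ _ => (Scheme.Modules.restrictAdjunction U.ι).leftAdjoint_preservesColimits.preservesColimitsOfShape⟩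
  haveI : (Scheme.Modules.restrictFunctor U.ι).Additive :=
    (CxOX.extZeroAdj U.ι).right_adjoint_additive
  haveI : (ModSite.sheafHom (O := X.sheaf) F).Additive :=
    (ModSite.sheafHomAdj F).right_adjoint_additive
  haveI : (ModSite.sheafHom (O := (↑U : Scheme.{u}).sheaf) (F.restrict U.ι)).Additive :=
    (ModSite.sheafHomAdj _).right_adjoint_additive
  exact Groth.Agent.H45.RDerivedExact.nonempty_rightDerived_iso _ _
    (Scheme.Modules.restrictFunctor U.ι) (Scheme.Modules.restrictFunctor U.ι) hE
    (Groth.Agent.S16281.restrSheafHomIso U F) G i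

end Groth.Agent.H53.ExtRestr
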