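import Groth.Prelude.Def_ModSite
import Mathlib.Topology.Sheaves.SheafCondition.UniqueGluing
import Mathlib.CategoryTheory.Sites.LocallyBijective
import Mathlib.CategoryTheory.Sites.Limits
import Mathlib.CategoryTheory.Limits.ConcreteCategory.Basic
import Mathlib.Algebra.Category.Grp.FilteredColimits
import Mathlib.Order.Directed
import Mathlib.Data.Fintype.Order
import Mathlib.Topology.Compactness.Compact
import Groth.Agent.H45.ToSheafColim

/-!
# Global sections commute with directed colimits on "finitely refinable" spaces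

* `loc_surj`, `loc_inj`: a colimit cocone of abelian sheaves over a filtered category is, locally,
  the presheaf colimit.
* `vanish_of_finite_cover`, `vanish_of_compact`, `vanish_global`, `surj_global`: on a space all of
  whose open coverings are refined by finite coverings with quasi-compact pairwise intersections,
  global sections of a directed colimit of abelian sheaves are the colimit of global sections.
-/

set_option autoImplicit false
universe u
open CategoryTheory CategoryTheory.Limits TopologicalSpace Opposite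

namespace Groth.Agent.H53.GammaColim

section Local

variable {C : Type u} [SmallCategory C] {J : GrothendieckTopology C}

theorem comp_hom_app_apply {F G H : Sheaf J AddCommGrpCat.{u}} (φ : F ⟶ G) (ψ : G ⟶ H)
    (W : Cᵒᵖ) (x : ToType (F.obj.obj W)) :
    (φ ≫ ψ).hom.app W x = ψ.hom.app W (φ.hom.app W x) := rfl

theorem nat_apply {F G : Sheaf J AddCommGrpCat.{u}} (φ : F ⟶ G) {W W' : Cᵒᵖ} (f : W ⟶ W')
    (x : ToType (F.obj.obj W)) :
    φ.hom.app W' (F.obj.map f x) = G.obj.map f (φ.hom.app W x) :=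
  NatTrans.naturality_apply φ.hom f x

theorem res_comp_apply (F : Sheaf J AddCommGrpCat.{u}) {W W' W'' : Cᵒᵖ} (f : W ⟶ W')
    (g : W' ⟶ W'') (x : ToType (F.obj.obj W)) :
    F.obj.map (f ≫ g) x = F.obj.map g (F.obj.map f x) := by
  rw [F.obj.map_comp]; rfl

theorem iso_inv_hom_apply {F G : Sheaf J AddCommGrpCat.{u}} (e : F ≅ G) (W : Cᵒᵖ)
    (x : ToType (F.obj.obj W)) : e.inv.hom.app W (e.hom.hom.app W x) = x := by
  have h : (e.hom ≫ e.inv).hom.app W x = x := by rw [e.hom_inv_id]; rfl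
  exact h

variable {I : Type u} [SmallCategory I]
  (E : I ⥤ Sheaf J AddCommGrpCat.{u})

theorem cocone_w_apply (c : Cocone E) {i k : I} (g : i ⟶ k) (W : Cᵒᵖ)
    (x : ToType ((E.obj i).obj.obj W)) :
    (c.ι.app k).hom.app W ((E.map g).hom.app W x) = (c.ι.app i).hom.app W x := by
  rw [← comp_hom_app_apply, c.w]

theorem cocone_nat_apply (c : Cocone E) (i : I) {W W' : Cᵒᵖ} (f : W ⟶ W')
    (x : ToType ((E.obj i).obj.obj W)) :
    (c.ι.app i).hom.app W' ((E.obj i).obj.map f x) =
      c.pt.obj.map f ((c.ι.app i).hom.app W x) :=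
  nat_apply (c.ι.app i) f x

theorem map_comp_apply {i k l : I} (g : i ⟶ k) (g' : k ⟶ l) (W : Cᵒᵖ)
    (x : ToType ((E.obj i).obj.obj W)) :
    (E.map (g ≫ g')).hom.app W x = (E.map g').hom.app W ((E.map g).hom.app W x) := by
  rw [E.map_comp]; rfl

variable [IsFiltered I]

/-- evaluated presheaf colimit cocone is a colimit of abelian groups -/
noncomputable def hPcU (U : C) :
    IsColimit (((evaluation Cᵒᵖ AddCommGrpCat.{u}).obj (op U)).mapCocone
      (colimit.cocone (E ⋙ sheafToPresheaf J AddCommGrpCat.{u}))) :=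
  isColimitOfPreserves _ (colimit.isColimit _)

omit [IsFiltered I] in
theorem sc_ι_apply (i : I) (V : C) (s : ToType ((E.obj i).obj.obj (op V))) :
    ((Sheaf.sheafifyCocone (colimit.cocone (E ⋙ sheafToPresheaf J AddCommGrpCat.{u}))).ι.app
        i).hom.app (op V) s =
      (toSheafify J (colimit.cocone (E ⋙ sheafToPresheaf J AddCommGrpCat.{u})).pt).app (op V)
        (((colimit.cocone (E ⋙ sheafToPresheaf J AddCommGrpCat.{u})).ι.app i).app (op V) s) := by
  rw [Sheaf.sheafifyCocone_ι_app_val]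
  rfl

/-- A section of a filtered colimit of abelian sheaves comes, locally, from a stage. -/
theorem loc_surj {c : Cocone E} (hc : IsColimit c) (U : C)
    (t : ToType (c.pt.obj.obj (op U))) :
    ∃ S ∈ J U, ∀ ⦃V : C⦄ (f : V ⟶ U), S.arrows f →
      ∃ (i : I) (s : ToType ((E.obj i).obj.obj (op V))),
        (c.ι.app i).hom.app (op V) s = c.pt.obj.map f.op t := by
  let Pc := colimit.cocone (E ⋙ sheafToPresheaf J AddCommGrpCat.{u})
  have hsc : IsColimit (Sheaf.sheafifyCocone Pc) :=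
    Sheaf.isColimitSheafifyCocone Pc (colimit.isColimit _)
  let e := hc.coconePointUniqueUpToIso hsc
  have he : ∀ i, (Sheaf.sheafifyCocone Pc).ι.app i ≫ e.inv = c.ι.app i :=
    fun i => hc.comp_coconePointUniqueUpToIso_inv hsc i
  let t' : ToType ((Sheaf.sheafifyCocone Pc).pt.obj.obj (op U)) := e.hom.hom.app (op U) t
  have hS := Presheaf.imageSieve_mem J (toSheafify J Pc.pt) (U := op U) t'
  refine ⟨Presheaf.imageSieve (toSheafify J Pc.pt) t', hS, ?_⟩
  intro V f hf
  obtain ⟨p, hp⟩ := hf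
  obtain ⟨i, s, hs⟩ := Concrete.isColimit_exists_rep _ (hPcU E V) p
  refine ⟨i, s, ?_⟩
  have h1 : ((Sheaf.sheafifyCocone Pc).ι.app i).hom.app (op V) s =
      (Sheaf.sheafifyCocone Pc).pt.obj.map f.op t' := by
    rw [sc_ι_apply]
    exact (congrArg _ hs).trans hp
  have h2 := congrArg (e.inv.hom.app (op V)) h1
  rw [← comp_hom_app_apply, he, nat_apply, iso_inv_hom_apply] at h2
  exact h2

/-- A section of a stage dying in the filtered colimit of abelian sheaves dies, locally, at a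
later stage. -/
theorem loc_inj {c : Cocone E} (hc : IsColimit c) (U : C) (i : I)
    (s : ToType ((E.obj i).obj.obj (op U))) (h : (c.ι.app i).hom.app (op U) s = 0) :
    ∃ S ∈ J U, ∀ ⦃V : C⦄ (f : V ⟶ U), S.arrows f →
      ∃ (k : I) (g : i ⟶ k), (E.map g).hom.app (op V) ((E.obj i).obj.map f.op s) = 0 := by
  let Pc := colimit.cocone (E ⋙ sheafToPresheaf J AddCommGrpCat.{u})
  have hsc : IsColimit (Sheaf.sheafifyCocone Pc) :=
    Sheaf.isColimitSheafifyCocone Pc (colimit.isColimit _)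
  let e := hc.coconePointUniqueUpToIso hsc
  have he : ∀ i, c.ι.app i ≫ e.hom = (Sheaf.sheafifyCocone Pc).ι.app i :=
    fun i => hc.comp_coconePointUniqueUpToIso_hom hsc i
  have h1 : ((Sheaf.sheafifyCocone Pc).ι.app i).hom.app (op U) s = 0 := by
    rw [← he, comp_hom_app_apply, h, map_zero]
  rw [sc_ι_apply] at h1
  have h2 : (toSheafify J Pc.pt).app (op U) ((Pc.ι.app i).app (op U) s) =
      (toSheafify J Pc.pt).app (op U) 0 := h1.trans (map_zero _).symm
  have hS := Presheaf.equalizerSieve_mem J (toSheafify J Pc.pt) (X := op U) _ _ h2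
  refine ⟨_, hS, ?_⟩
  intro V f hf
  have h3 : Pc.pt.map f.op ((Pc.ι.app i).app (op U) s) = Pc.pt.map f.op 0 := hf
  rw [map_zero] at h3
  have h4 : (Pc.ι.app i).app (op V) ((E.obj i).obj.map f.op s) = 0 := by
    rw [← h3]
    exact NatTrans.naturality_apply (Pc.ι.app i) f.op s
  have h5 : (((evaluation Cᵒᵖ AddCommGrpCat.{u}).obj (op V)).mapCocone Pc).ι.app i
      ((E.obj i).obj.map f.op s) =
      (((evaluation Cᵒᵖ AddCommGrpCat.{u}).obj (op V)).mapCocone Pc).ι.app i 0 := by
    rw [map_zero]; exact h4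
  obtain ⟨k, g, g', hk⟩ := Concrete.isColimit_exists_of_rep_eq _ (hPcU E V) _ _ h5
  refine ⟨k, g, ?_⟩
  rw [map_zero] at hk
  exact hk

end Local

section Space

variable {X : TopCat.{u}}

theorem res_res (F : Sheaf (Opens.grothendieckTopology X) AddCommGrpCat.{u}) {A B D : Opens X}
    (g : A ⟶ B) (h : B ⟶ D) (h' : A ⟶ D) (x : ToType (F.obj.obj (op D))) :
    F.obj.map g.op (F.obj.map h.op x) = F.obj.map h'.op x := by
  rw [← res_comp_apply, ← op_comp, Subsingleton.elim (g ≫ h) h']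

variable {I : Type u} [Preorder I] [Nonempty I] [IsDirected I (· ≤ ·)]
  (E : I ⥤ Sheaf (Opens.grothendieckTopology X) AddCommGrpCat.{u})

/-- If a section dies at a later stage on each member of a finite covering, it dies at a later
stage. -/
theorem vanish_of_finite_cover (U : Opens X) {K : Type u} [Finite K] (W : K → Opens X)
    (hW : ∀ j, W j ⟶ U) (hcov : U ≤ iSup W) (i : I) (s : ToType ((E.obj i).obj.obj (op U)))
    (h : ∀ j, ∃ (k : I) (g : i ⟶ k),
      (E.map g).hom.app (op (W j)) ((E.obj i).obj.map (hW j).op s) = 0) :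
    ∃ (k : I) (g : i ⟶ k), (E.map g).hom.app (op U) s = 0 := by
  choose k g hg using h
  obtain ⟨M, hM⟩ := Finite.exists_le k
  obtain ⟨M', hiM', hMM'⟩ := exists_ge_ge i M
  refine ⟨M', homOfLE hiM', ?_⟩
  apply TopCat.Sheaf.eq_of_locally_eq' (E.obj M') W U hW hcov
  intro j
  rw [map_zero, ← nat_apply]
  have e1 : homOfLE hiM' = g j ≫ homOfLE ((hM j).trans hMM') := Subsingleton.elim _ _
  rw [e1, map_comp_apply, hg j, map_zero]

/-- On a quasi-compact open, a section dying in the colimit dies at a later stage. -/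
theorem vanish_of_compact {c : Cocone E} (hc : IsColimit c) (U : Opens X)
    (hU : IsCompact (U : Set X)) (i : I) (s : ToType ((E.obj i).obj.obj (op U)))
    (h : (c.ι.app i).hom.app (op U) s = 0) :
    ∃ (k : I) (g : i ⟶ k), (E.map g).hom.app (op U) s = 0 := by
  obtain ⟨S, hS, hS'⟩ := loc_inj E hc U i s h
  have hS2 : ∀ x : U, ∃ (V : Opens X) (f : V ⟶ U), S.arrows f ∧ (x : X) ∈ V :=
    fun x => hS x.1 x.2
  choose V f hf hxV using hS2
  obtain ⟨t, ht⟩ := hU.elim_finite_subcover (fun x : U => (V x : Set X))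
    (fun x => (V x).isOpen) (fun y hy => Set.mem_iUnion.mpr ⟨⟨y, hy⟩, hxV ⟨y, hy⟩⟩)
  refine vanish_of_finite_cover E U (K := {x // x ∈ t}) (fun x => V x.1) (fun x => f x.1) ?_ i s
    (fun x => hS' (f x.1) (hf x.1))
  intro y hy
  obtain ⟨x, hx⟩ := Set.mem_iUnion.mp (ht hy)
  obtain ⟨hxt, hyV⟩ := Set.mem_iUnion.mp hx
  exact Opens.mem_iSup.mpr ⟨⟨x, hxt⟩, hyV⟩

variable (hX : ∀ (ι : Type u) (V : ι → Opens X), iSup V = ⊤ →
      ∃ (K : Type u) (_ : Finite K) (U : K → Opens X), iSup U = ⊤ ∧ (∀ j, ∃ i, U j ≤ V i) ∧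
        ∀ j j', IsCompact ((U j ⊓ U j' : Opens X) : Set X))
include hX

/-- A global section dying in the colimit dies at a later stage. -/
theorem vanish_global {c : Cocone E} (hc : IsColimit c) (i : I)
    (s : ToType ((E.obj i).obj.obj (op (⊤ : Opens X))))
    (h : (c.ι.app i).hom.app (op (⊤ : Opens X)) s = 0) :
    ∃ (k : I) (g : i ⟶ k), (E.map g).hom.app (op (⊤ : Opens X)) s = 0 := by
  obtain ⟨S, hS, hS'⟩ := loc_inj E hc ⊤ i s h
  have hS2 : ∀ x : X, ∃ (V : Opens X) (f : V ⟶ ⊤), S.arrows f ∧ x ∈ V :=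
    fun x => hS x (Opens.mem_top x)
  choose V f hf hxV using hS2
  have hV : iSup V = ⊤ := by
    rw [eq_top_iff]; intro x _; exact Opens.mem_iSup.mpr ⟨x, hxV x⟩
  obtain ⟨K, hK, W, hWtop, href, -⟩ := hX X V hV
  have := hK
  choose r hr using href
  refine vanish_of_finite_cover E ⊤ W (fun j => homOfLE le_top) (by rw [hWtop]) i s ?_
  intro j
  obtain ⟨k, g, hk⟩ := hS' (f (r j)) (hf (r j))
  refine ⟨k, g, ?_⟩
  rw [← res_res (E.obj i) (homOfLE (hr j)) (f (r j)) (homOfLE le_top) s, nat_apply, hk, map_zero]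

/-- Every global section of the colimit comes from a stage. -/
theorem surj_global {c : Cocone E} (hc : IsColimit c)
    (t : ToType (c.pt.obj.obj (op (⊤ : Opens X)))) :
    ∃ (i : I) (s : ToType ((E.obj i).obj.obj (op (⊤ : Opens X)))),
      (c.ι.app i).hom.app (op (⊤ : Opens X)) s = t := by
  obtain ⟨S, hS, hS'⟩ := loc_surj E hc ⊤ t
  have hS2 : ∀ x : X, ∃ (V : Opens X) (f : V ⟶ ⊤), S.arrows f ∧ x ∈ V :=
    fun x => hS x (Opens.mem_top x)
  choose V f hf hxV using hS2
  have hV : iSup V = ⊤ := by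
    rw [eq_top_iff]; intro x _; exact Opens.mem_iSup.mpr ⟨x, hxV x⟩
  obtain ⟨K, hK, W, hWtop, href, hqc⟩ := hX X V hV
  have := hK
  choose r hr using href
  have h1 : ∀ j, ∃ (i : I) (s : ToType ((E.obj i).obj.obj (op (V (r j))))),
      (c.ι.app i).hom.app (op (V (r j))) s = c.pt.obj.map (f (r j)).op t :=
    fun j => hS' (f (r j)) (hf (r j))
  choose i0 s0 hs0 using h1
  obtain ⟨M, hM⟩ := Finite.exists_le i0
  obtain ⟨s1, hs1⟩ : ∃ s1 : ∀ j, ToType ((E.obj M).obj.obj (op (W j))),
      ∀ j, (c.ι.app M).hom.app (op (W j)) (s1 j) =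
        c.pt.obj.map (homOfLE (le_top : W j ≤ ⊤)).op t := by
    refine ⟨fun j => (E.obj M).obj.map (homOfLE (hr j)).op
      ((E.map (homOfLE (hM j))).hom.app (op (V (r j))) (s0 j)), fun j => ?_⟩
    rw [cocone_nat_apply, cocone_w_apply, hs0, res_res c.pt _ _ (homOfLE le_top)]
  have h2 : ∀ j j', ∃ (k : I) (g : M ⟶ k), (E.map g).hom.app (op (W j ⊓ W j'))
      ((E.obj M).obj.map (Opens.infLELeft (W j) (W j')).op (s1 j) -
        (E.obj M).obj.map (Opens.infLERight (W j) (W j')).op (s1 j')) = 0 := by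
    intro j j'
    apply vanish_of_compact E hc _ (hqc j j')
    rw [map_sub, cocone_nat_apply, cocone_nat_apply, hs1, hs1,
      res_res c.pt _ _ (homOfLE le_top), res_res c.pt _ _ (homOfLE le_top), sub_self]
  choose k2 g2 hg2 using h2
  obtain ⟨M2, hM2⟩ := Finite.exists_le (fun p : K × K => k2 p.1 p.2)
  obtain ⟨N, hMN, hM2N⟩ := exists_ge_ge M M2
  obtain ⟨s2, hcompat, hs2⟩ : ∃ s2 : ∀ j, ToType ((E.obj N).obj.obj (op (W j))),
      TopCat.Presheaf.IsCompatible (E.obj N).obj W s2 ∧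
      ∀ j, (c.ι.app N).hom.app (op (W j)) (s2 j) =
        c.pt.obj.map (homOfLE (le_top : W j ≤ ⊤)).op t := by
    refine ⟨fun j => (E.map (homOfLE hMN)).hom.app (op (W j)) (s1 j), ?_, fun j => ?_⟩
    · intro j j'
      show (E.obj N).obj.map (Opens.infLELeft (W j) (W j')).op
          ((E.map (homOfLE hMN)).hom.app (op (W j)) (s1 j)) =
        (E.obj N).obj.map (Opens.infLERight (W j) (W j')).op
          ((E.map (homOfLE hMN)).hom.app (op (W j')) (s1 j'))
      rw [← nat_apply, ← nat_apply, ← sub_eq_zero, ← map_sub]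
      have e1 : homOfLE hMN = g2 j j' ≫ homOfLE ((hM2 (j, j')).trans hM2N) :=
        Subsingleton.elim _ _
      rw [e1, map_comp_apply, hg2 j j', map_zero]
    · rw [cocone_w_apply, hs1]
  obtain ⟨s, hs, -⟩ := TopCat.Sheaf.existsUnique_gluing' (E.obj N) W ⊤
    (fun j => homOfLE le_top) (by rw [hWtop]) s2 hcompat
  refine ⟨N, s, ?_⟩
  apply TopCat.Sheaf.eq_of_locally_eq' c.pt W ⊤ (fun j => homOfLE le_top) (by rw [hWtop])
  intro j
  have hsj : (E.obj N).obj.map (homOfLE (le_top : W j ≤ ⊤)).op s = s2 j := hs j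
  have h3 := cocone_nat_apply E c N (homOfLE (le_top : W j ≤ ⊤)).op s
  rw [hsj, hs2] at h3
  exact h3.symm

end Space

section Modules

theorem sections_eval_bijective {K : Type*} [Category K] (F : K ⥤ Type u) (X₀ : K)
    (hX₀ : IsInitial X₀) : Function.Bijective (fun s : F.sections => s.1 X₀) := by
  constructor
  · intro s s' h
    apply Subtype.ext
    funext Y
    have h1 := s.2 (hX₀.to Y)
    have h2 := s'.2 (hX₀.to Y)
    rw [← h1, ← h2]
    exact congrArg _ h
  · intro a
    refine ⟨⟨fun Y => F.map (hX₀.to Y) a, ?_⟩, ?_⟩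
    · intro Y Y' f
      show F.map f (F.map (hX₀.to Y) a) = F.map (hX₀.to Y') a
      rw [← FunctorToTypes.map_comp_apply, hX₀.hom_ext (hX₀.to Y ≫ f) (hX₀.to Y')]
    · show F.map (hX₀.to X₀) a = a
      rw [hX₀.hom_ext (hX₀.to X₀) (𝟙 X₀), FunctorToTypes.map_id_apply]

variable {X : TopCat.{u}} (O : TopCat.Sheaf CommRingCat.{u} X)

/-- `op ⊤` is initial in `(Opens X)ᵒᵖ`. -/
def isInitialOpTop : IsInitial (op (⊤ : Opens X)) :=
  IsInitial.ofUniqueHom (fun U => (homOfLE (le_top : U.unop ≤ ⊤)).op)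
    (fun U m => Quiver.Hom.unop_inj (Subsingleton.elim _ _))

/-- The global section associated to a morphism `O ⟶ M`. -/
noncomputable def γ (M : ModSite.Mod O) (φ : ModSite.unit O ⟶ M) :
    ToType (((SheafOfModules.toSheaf (ModSite.ringSh O)).obj M).obj.obj (op (⊤ : Opens X))) :=
  (M.unitHomEquiv φ).val (op ⊤)

theorem γ_bijective (M : ModSite.Mod O) : Function.Bijective (γ O M) :=
  (sections_eval_bijective _ _ isInitialOpTop).comp M.unitHomEquiv.bijective

theorem γ_comp {M N : ModSite.Mod O} (φ : ModSite.unit O ⟶ M) (p : M ⟶ N) :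
    γ O N (φ ≫ p) =
      ((SheafOfModules.toSheaf (ModSite.ringSh O)).map p).hom.app (op (⊤ : Opens X)) (γ O M φ) :=
  rfl

variable (hX : ∀ (ι : Type u) (V : ι → Opens X), iSup V = ⊤ →
      ∃ (K : Type u) (_ : Finite K) (U : K → Opens X), iSup U = ⊤ ∧ (∀ j, ∃ i, U j ≤ V i) ∧
        ∀ j j', IsCompact ((U j ⊓ U j' : Opens X) : Set X))
include hX

/-- `Hom(O, -)` (global sections) commutes with directed colimits. -/
theorem preservesColimit_coyoneda_unit {I : Type u} [Preorder I] [Nonempty I]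
    [IsDirected I (· ≤ ·)] (D : I ⥤ ModSite.Mod O) :
    PreservesColimit D (coyoneda.obj (op (ModSite.unit O))) := by
  haveI := Groth.Agent.H45.toSheaf_preservesColimitsOfShape (ModSite.ringSh O) I
  have hc : IsColimit (colimit.cocone D) := colimit.isColimit D
  apply preservesColimit_of_preserves_colimit_cocone hc
  have hc' : IsColimit ((SheafOfModules.toSheaf (ModSite.ringSh O)).mapCocone (colimit.cocone D)) :=
    isColimitOfPreserves _ hc
  apply Types.FilteredColimit.isColimitOf'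
  · intro φ
    obtain ⟨i, s, hs⟩ := surj_global (D ⋙ SheafOfModules.toSheaf (ModSite.ringSh O)) hX hc'
      (γ O (colimit.cocone D).pt φ)
    obtain ⟨ψ, hψ⟩ := (γ_bijective O (D.obj i)).2 s
    refine ⟨i, ψ, ?_⟩
    apply (γ_bijective O (colimit.cocone D).pt).1
    show γ O (colimit.cocone D).pt φ = γ O (colimit.cocone D).pt (ψ ≫ (colimit.cocone D).ι.app i)
    rw [γ_comp, hψ]
    exact hs.symm
  · intro i ψ ψ' h
    have h' : ψ ≫ (colimit.cocone D).ι.app i = ψ' ≫ (colimit.cocone D).ι.app i := h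
    have h0 : (((SheafOfModules.toSheaf (ModSite.ringSh O)).mapCocone
        (colimit.cocone D)).ι.app i).hom.app (op (⊤ : Opens X))
        (γ O (D.obj i) ψ - γ O (D.obj i) ψ') = 0 := by
      rw [map_sub, sub_eq_zero]
      have := congrArg (γ O (colimit.cocone D).pt) h'
      rw [γ_comp, γ_comp] at this
      exact this
    obtain ⟨k, g, hk⟩ := vanish_global (D ⋙ SheafOfModules.toSheaf (ModSite.ringSh O)) hX hc' i _ h0
    refine ⟨k, g, ?_⟩
    show ψ ≫ D.map g = ψ' ≫ D.map g
    apply (γ_bijective O (D.obj k)).1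
    rw [γ_comp, γ_comp]
    rw [map_sub, sub_eq_zero] at hk
    exact hk

end Modules

end Groth.Agent.H53.GammaColim
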