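import Groth.Agent.H53.SheafDual2
import Groth.Agent.H31.FlatSite

/-!
# Duality for locally finite free modules on a ringed site, part 3 (helper53 library)

* `nonempty_tensorDual_natIso_Hsh` : `- ⊗ L^∨ ≅ ℋom(L, -)` naturally, `L` locally finite free;
* `preservesMonomorphisms_tensor_dual`, `injective_tensor_locFinFree`.
-/

set_option autoImplicit false
universe u
open CategoryTheory CategoryTheory.Limits MonoidalCategory Opposite

namespace Groth.Agent.H53.SheafDual

open Groth.Agent.H31 Groth.Agent.H31.ExtZero Groth.Agent.H53.MonoidalDual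

variable {C : Type u} [SmallCategory C] {J : GrothendieckTopology C} {O : Sheaf J CommRingCat.{u}}

section Natural

variable (L : ModSite.Mod O)

/-- The canonical maps `c₀ L N` assemble to a natural transformation. -/
noncomputable def cNat :
    toPM O ⋙ tensorRight ((H ((toPM O).obj L)).obj (𝟙_ (PM O))) ⟶ toPM O ⋙ H ((toPM O).obj L) where
  app N := c₀ L N
  naturality _ _ f := cm_naturality (tensorAdj ((toPM O).obj L))
    ((tensorAdj ((toPM O).obj L)).counit.app (𝟙_ (PM O))) ((toPM O).map f)

lemma incl_unit : (incl O).obj (ModSite.unit O) = 𝟙_ (PM O) := rfl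

lemma toPM_Hsh_unit (L₀ : PM O) :
    (toPM O).obj ((Hsh L₀).obj (ModSite.unit O)) = (H L₀).obj (𝟙_ (PM O)) :=
  congrArg (H L₀).obj incl_unit

/-- For `L` locally finite free, `- ⊗ L^∨` preserves monomorphisms, `Hsh` model. -/
theorem preservesMonomorphisms_tensor_dual_Hsh (hL : SheafHomExact.LocFinFree O L) :
    ((ModSite.tensorBi O).flip.obj
      ((Hsh ((toPM O).obj L)).obj (ModSite.unit O))).PreservesMonomorphisms := by
  let τ : toPM O ⋙ tensorRight ((H ((toPM O).obj L)).obj (𝟙_ (PM O))) ⋙ shf O ⟶
      toPM O ⋙ H ((toPM O).obj L) ⋙ shf O :=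
    Functor.whiskerRight (cNat L) (shf O)
  haveI : ∀ N, IsIso (τ.app N) := fun N => isIso_shf_map_c₀ L N hL
  haveI : IsIso τ := NatIso.isIso_of_isIso_app τ
  haveI : (H ((toPM O).obj L)).IsRightAdjoint := (tensorAdj ((toPM O).obj L)).isRightAdjoint
  haveI : (H ((toPM O).obj L)).PreservesMonomorphisms := inferInstance
  haveI : (toPM O).PreservesMonomorphisms := inferInstance
  haveI : (shf O).PreservesMonomorphisms := inferInstance
  haveI : (toPM O ⋙ H ((toPM O).obj L) ⋙ shf O).PreservesMonomorphisms := inferInstance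
  have h : (toPM O ⋙ tensorRight ((H ((toPM O).obj L)).obj (𝟙_ (PM O))) ⋙
      shf O).PreservesMonomorphisms :=
    Functor.PreservesMonomorphisms.of_iso (asIso τ).symm
  rw [tensorBi_flip_obj_eq, toPM_Hsh_unit]
  exact h

/-- For `L` locally finite free, `- ⊗ L^∨` preserves monomorphisms (being isomorphic to the
exact functor `ℋom(L, -)`). -/
theorem preservesMonomorphisms_tensor_dual [ModSite.HasSheafHom L]
    (hL : SheafHomExact.LocFinFree O L) :
    ((ModSite.tensorBi O).flip.obj
      ((ModSite.sheafHom L).obj (ModSite.unit O))).PreservesMonomorphisms := by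
  let u : ModSite.sheafHom L ≅ Hsh ((toPM O).obj L) :=
    (ModSite.sheafHomAdj L).rightAdjointUniq (Groth.Agent.H31.sheafHomAdj L)
  haveI := preservesMonomorphisms_tensor_dual_Hsh L hL
  exact Functor.PreservesMonomorphisms.of_iso
    ((ModSite.tensorBi O).flip.mapIso (u.app (ModSite.unit O))).symm

end Natural

/-- For `E` locally finite free and `I` injective, `I ⊗ E` is injective. -/
theorem injective_tensor_locFinFree (E I : ModSite.Mod O) [Injective I]
    (hE : SheafHomExact.LocFinFree O E) :
    Injective (((ModSite.tensorBi O).obj I).obj E) := by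
  haveI : ModSite.HasSheafHom E := hasSheafHom _
  haveI : ModSite.HasSheafHom ((ModSite.sheafHom E).obj (ModSite.unit O)) := hasSheafHom _
  obtain ⟨e⟩ := nonempty_tensor_iso_sheafHom_dual E I hE
  haveI := preservesMonomorphisms_tensor_dual E hE
  haveI : Injective ((ModSite.sheafHom ((ModSite.sheafHom E).obj (ModSite.unit O))).obj I) :=
    Adjunction.map_injective
      (ModSite.sheafHomAdj ((ModSite.sheafHom E).obj (ModSite.unit O))) I inferInstance
  exact Injective.of_iso e.symm inferInstance

end Groth.Agent.H53.SheafDual
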