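import Groth.Agent.H31.FlatSite
import Groth.Agent.H31.Invertible
import Groth.Agent.H31.ExtZeroFlat
import Groth.Agent.H92.RestrExact
import Groth.Agent.H53.ModEpi

/-!
# Exactness of the internal hom out of a locally finite free module on a ringed site (helper53)

* `sheafHomIsoOfIso` : `ℋom(M, -) ≅ ℋom(M', -)` for `M ≅ M'`;
* `sigmaPiAdj` : `(P ↦ ∐_I P) ⊣ (G ↦ ∏_I G)`;
* `tensorFreeIso` : `(P ↦ ∐_I P) ≅ (- ⊗ O^I)`;
* `epi_sheafHom_free_map` : `ℋom(O^I, -)` preserves epimorphisms for finite `I`;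
* `epi_of_locally_epi` : a morphism which is an epimorphism after restriction to the members of
  covering sieves is an epimorphism;
* `LocFinFree`, `preservesFiniteColimits_sheafHom` : `ℋom(M, -)` is right exact for `M` locally
  finite free.
-/

set_option autoImplicit false
universe u
open CategoryTheory CategoryTheory.Limits Opposite

namespace Groth.Agent.H53.SheafHomExact

open Groth.Agent.H31

section SigmaPi

variable {𝒜 : Type*} [Category 𝒜] (I : Type*) [HasCoproductsOfShape I 𝒜]
  [HasProductsOfShape I 𝒜]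

/-- `P ↦ ∐_I P` -/
noncomputable def sigmaConst : 𝒜 ⥤ 𝒜 where
  obj P := ∐ fun _ : I => P
  map f := Limits.Sigma.map fun _ => f

/-- `G ↦ ∏_I G` -/
noncomputable def piConst : 𝒜 ⥤ 𝒜 where
  obj G := ∏ᶜ fun _ : I => G
  map g := Limits.Pi.map fun _ => g

/-- `(P ↦ ∐_I P) ⊣ (G ↦ ∏_I G)` -/
noncomputable def sigmaPiAdj : sigmaConst (𝒜 := 𝒜) I ⊣ piConst I :=
  Adjunction.mkOfHomEquiv
    { homEquiv := fun P G =>
        { toFun := fun f => (Limits.Pi.lift fun i => Limits.Sigma.ι (fun _ : I => P) i ≫ f :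
            P ⟶ ∏ᶜ fun _ : I => G)
          invFun := fun h => (Limits.Sigma.desc fun i => h ≫ Limits.Pi.π (fun _ : I => G) i :
            (∐ fun _ : I => P) ⟶ G)
          left_inv := fun f => by
            apply Limits.Sigma.hom_ext
            intro i
            dsimp only [sigmaConst, piConst]
            simp
          right_inv := fun h => by
            apply Limits.Pi.hom_ext
            intro i
            dsimp only [sigmaConst, piConst]
            simp }
      homEquiv_naturality_left_symm := fun {P' P G} π h => by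
        apply Limits.Sigma.hom_ext
        intro i
        change Limits.Sigma.ι (fun _ : I => P') i ≫
            (Limits.Sigma.desc fun i => (π ≫ h) ≫ Limits.Pi.π (fun _ : I => G) i) =
          Limits.Sigma.ι (fun _ : I => P') i ≫ (Limits.Sigma.map fun _ : I => π) ≫
            (Limits.Sigma.desc fun i => h ≫ Limits.Pi.π (fun _ : I => G) i)
        simp
      homEquiv_naturality_right := fun {P G G'} f g => by
        apply Limits.Pi.hom_ext
        intro i
        change (Limits.Pi.lift fun i => Limits.Sigma.ι (fun _ : I => P) i ≫ f ≫ g) ≫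
            Limits.Pi.π (fun _ : I => G') i =
          ((Limits.Pi.lift fun i => Limits.Sigma.ι (fun _ : I => P) i ≫ f) ≫
            (Limits.Pi.map fun _ : I => g)) ≫ Limits.Pi.π (fun _ : I => G') i
        simp }

section Bifunctor

variable (T : 𝒜 ⥤ 𝒜 ⥤ 𝒜) (U : 𝒜) (ρ : T.flip.obj U ≅ 𝟭 𝒜)

/-- the comparison `∐_I P ⟶ T(P, ∐_I U)` -/
noncomputable def sigmaConstHom (P : 𝒜) :
    (∐ fun _ : I => P) ⟶ (T.obj P).obj (∐ fun _ : I => U) :=
  Limits.Sigma.desc fun i => ρ.inv.app P ≫ (T.obj P).map (Limits.Sigma.ι (fun _ : I => U) i)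

omit [HasProductsOfShape I 𝒜] in
lemma sigmaConstHom_eq (P : 𝒜) :
    sigmaConstHom I T U ρ P =
      Limits.Sigma.map (f := fun _ : I => P) (g := fun _ : I => (T.obj P).obj U)
        (fun _ : I => ρ.inv.app P) ≫
      sigmaComparison (T.obj P) (fun _ : I => U) := by
  apply Limits.Sigma.hom_ext
  intro i
  rw [Limits.Sigma.ι_map_assoc, ι_comp_sigmaComparison]
  simp [sigmaConstHom]

omit [HasProductsOfShape I 𝒜] in
lemma isIso_sigmaConstHom (P : 𝒜) [PreservesColimit (Discrete.functor fun _ : I => U) (T.obj P)] :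
    IsIso (sigmaConstHom I T U ρ P) := by
  rw [sigmaConstHom_eq]
  have h2 : ∀ _ : I, IsIso (ρ.inv.app P : P ⟶ (T.obj P).obj U) := fun _ => inferInstance
  have h3 : IsIso (Limits.Sigma.map (f := fun _ : I => P) (g := fun _ : I => (T.obj P).obj U)
      (fun _ : I => ρ.inv.app P)) := inferInstance
  exact IsIso.comp_isIso

/-- `(P ↦ ∐_I P) ≅ T(-, ∐_I U)` when `T(-, U) ≅ 𝟭` and each `T(P, -)` preserves the coproduct -/
noncomputable def sigmaConstIso
    [∀ P, PreservesColimit (Discrete.functor fun _ : I => U) (T.obj P)] :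
    sigmaConst (𝒜 := 𝒜) I ≅ T.flip.obj (∐ fun _ : I => U) :=
  NatIso.ofComponents (fun P => @asIso _ _ _ _ (sigmaConstHom I T U ρ P)
      (isIso_sigmaConstHom I T U ρ P)) (by
    intro P' P π
    apply Limits.Sigma.hom_ext
    intro i
    have h1 := (T.map π).naturality (Limits.Sigma.ι (fun _ : I => U) i)
    have h2 : π ≫ ρ.inv.app P = ρ.inv.app P' ≫ (T.map π).app U := ρ.inv.naturality π
    change Limits.Sigma.ι (fun _ : I => P') i ≫ (Limits.Sigma.map fun _ : I => π) ≫
        sigmaConstHom I T U ρ P = Limits.Sigma.ι (fun _ : I => P') i ≫ sigmaConstHom I T U ρ P' ≫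
        (T.map π).app (∐ fun _ : I => U)
    rw [Limits.Sigma.ι_map_assoc]
    unfold sigmaConstHom
    rw [Limits.Sigma.ι_desc, Limits.Sigma.ι_desc_assoc, ← Category.assoc, h2, Category.assoc,
      Category.assoc]
    congr 1
    exact h1.symm)

end Bifunctor

end SigmaPi

variable {C : Type u} [SmallCategory C] {J : GrothendieckTopology C} (O : Sheaf J CommRingCat.{u})

/-- `ℋom(M, -) ≅ ℋom(M', -)` for `M ≅ M'`. -/
noncomputable def sheafHomIsoOfIso {M M' : ModSite.Mod O} [ModSite.HasSheafHom M]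
    [ModSite.HasSheafHom M'] (e : M ≅ M') : ModSite.sheafHom M ≅ ModSite.sheafHom M' :=
  ((ModSite.sheafHomAdj M).ofNatIsoLeft ((ModSite.tensorBi O).flip.mapIso e)).rightAdjointUniq
    (ModSite.sheafHomAdj M')

/-- `- ⊗ O ≅ 𝟭` -/
noncomputable def rightUnitNatIso :
    (ModSite.tensorBi O).flip.obj (ModSite.unit O) ≅ 𝟭 (ModSite.Mod O) :=
  (braidIso (ModSite.unit O)).symm ≪≫ tensorUnitNatIso O

variable (I : Type u)

/-- `(P ↦ ∐_I P) ≅ (- ⊗ O^I)` -/
noncomputable def tensorFreeIso :
    sigmaConst (𝒜 := ModSite.Mod O) I ≅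
      (ModSite.tensorBi O).flip.obj (SheafOfModules.free (R := ModSite.ringSh O) I) :=
  haveI : ∀ P : ModSite.Mod O, PreservesColimit (Discrete.functor fun _ : I => ModSite.unit O)
      ((ModSite.tensorBi O).obj P) := fun P => by
    have : PreservesColimitsOfSize.{u, u} ((ModSite.tensorBi O).obj P) :=
      (Adjunction.ofIsLeftAdjoint _).leftAdjoint_preservesColimits
    infer_instance
  sigmaConstIso I (ModSite.tensorBi O) (ModSite.unit O) (rightUnitNatIso O)

/-- `- ⊗ O^I ⊣ (G ↦ ∏_I G)` -/
noncomputable def tensorFreeAdj :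
    (ModSite.tensorBi O).flip.obj (SheafOfModules.free (R := ModSite.ringSh O) I) ⊣
      piConst (𝒜 := ModSite.Mod O) I :=
  (sigmaPiAdj (𝒜 := ModSite.Mod O) I).ofNatIsoLeft (tensorFreeIso O I)

/-- `ℋom(O^I, -) ≅ (G ↦ ∏_I G)` -/
noncomputable def sheafHomFreeIso
    [ModSite.HasSheafHom (SheafOfModules.free (R := ModSite.ringSh O) I)] :
    ModSite.sheafHom (SheafOfModules.free (R := ModSite.ringSh O) I) ≅
      piConst (𝒜 := ModSite.Mod O) I :=
  (ModSite.sheafHomAdj _).rightAdjointUniq (tensorFreeAdj O I)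

lemma epi_piConst_map [Finite I] {G G' : ModSite.Mod O} (g : G ⟶ G') [Epi g] :
    Epi ((piConst (𝒜 := ModSite.Mod O) I).map g) := by
  have : ∀ _ : I, Epi g := fun _ => inferInstance
  haveI : HasFiniteBiproducts (ModSite.Mod O) := Abelian.hasFiniteBiproducts
  haveI : HasBiproductsOfShape I (ModSite.Mod O) := hasBiproductsOfShape_finite _
  exact Limits.Pi.map_epi (fun _ : I => g)

/-- `ℋom(O^I, -)` preserves epimorphisms for finite `I`. -/
lemma epi_sheafHom_free_map [Finite I]
    [ModSite.HasSheafHom (SheafOfModules.free (R := ModSite.ringSh O) I)]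
    {G G' : ModSite.Mod O} (g : G ⟶ G') [Epi g] :
    Epi ((ModSite.sheafHom (SheafOfModules.free (R := ModSite.ringSh O) I)).map g) := by
  have h := epi_piConst_map O I g
  have e := sheafHomFreeIso O I
  have : (ModSite.sheafHom (SheafOfModules.free (R := ModSite.ringSh O) I)).map g =
      e.hom.app G ≫ (piConst (𝒜 := ModSite.Mod O) I).map g ≫ e.inv.app G' := by
    rw [← Category.assoc, ← e.hom.naturality g, Category.assoc, Iso.hom_inv_id_app,
      Category.comp_id]
  rw [this]
  haveI := h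
  exact epi_comp _ _

section Local

omit O in
lemma eq_zero_of_isZero {R : Sheaf J RingCat.{u}} {N : SheafOfModules.{u} R} (hN : IsZero N)
    (X : Cᵒᵖ) (s : N.val.obj X) : s = 0 := by
  have h : (𝟙 N : N ⟶ N) = 0 := (IsZero.iff_id_eq_zero N).1 hN
  have h2 : (𝟙 N : N ⟶ N).val.app X s = (0 : N ⟶ N).val.app X s :=
    congrArg (fun φ : N ⟶ N => φ.val.app X s) h
  have h3 : (0 : N ⟶ N).val.app X s = 0 := rfl
  have h4 : (𝟙 N : N ⟶ N).val.app X s = s := rfl
  exact h4.symm.trans (h2.trans h3)

omit O in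
lemma isZero_of_sections {R : Sheaf J RingCat.{u}} {N : SheafOfModules.{u} R}
    (h : ∀ (X : Cᵒᵖ) (s : N.val.obj X), s = 0) : IsZero N := by
  rw [IsZero.iff_id_eq_zero]
  ext X s
  exact (h X _).trans (h X _).symm

/-- a module which vanishes after restriction to the members of covering sieves is zero -/
lemma isZero_of_locally_isZero (Q : ModSite.Mod O)
    (h : ∀ V : C, ∃ S ∈ J V, ∀ ⦃W : C⦄ (k : W ⟶ V), S k → IsZero ((ModSite.restr O W).obj Q)) :
    IsZero Q := by
  apply isZero_of_sections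
  intro X s
  obtain ⟨S, hS, hk⟩ := h X.unop
  refine (Presheaf.IsSheaf.isSeparated Q.isSheaf) X.unop S hS s 0 (fun W k hkS => ?_)
  have h0 := eq_zero_of_isZero (hk k hkS) (op (Over.mk (𝟙 W))) (Q.val.map k.op s)
  refine h0.trans ?_
  exact (map_zero _).symm

/-- a morphism which is an epimorphism after restriction to the members of covering sieves is an
epimorphism -/
lemma epi_of_locally_epi {N N' : ModSite.Mod O} (f : N ⟶ N')
    (h : ∀ V : C, ∃ S ∈ J V, ∀ ⦃W : C⦄ (k : W ⟶ V), S k → Epi ((ModSite.restr O W).map f)) :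
    Epi f := by
  apply Preadditive.epi_of_isZero_cokernel
  apply isZero_of_locally_isZero
  intro V
  obtain ⟨S, hS, hk⟩ := h V
  refine ⟨S, hS, fun W k hkS => ?_⟩
  have := hk k hkS
  have : PreservesFiniteColimits (ModSite.restr O W) :=
    Groth.Agent.H92.RestrExact.restr_preservesFiniteColimits O W
  exact IsZero.of_iso (isZero_cokernel_of_epi _) (PreservesCokernel.iso (ModSite.restr O W) f)

end Local

lemma epi_map_of_natIso {𝒜 ℬ : Type*} [Category 𝒜] [Category ℬ] {F F' : 𝒜 ⥤ ℬ} (e : F ≅ F')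
    {X Y : 𝒜} (g : X ⟶ Y) (h : Epi (F'.map g)) : Epi (F.map g) := by
  have : F.map g = e.hom.app X ≫ F'.map g ≫ e.inv.app Y := by
    rw [← Category.assoc, ← e.hom.naturality g, Category.assoc, Iso.hom_inv_id_app,
      Category.comp_id]
  rw [this]
  exact epi_comp _ _

/-- `M` is locally finite free -/
def LocFinFree (M : ModSite.Mod O) : Prop :=
  ∀ V : C, ∃ S ∈ J V, ∀ ⦃W : C⦄ (k : W ⟶ V), S k → ∃ (I : Type u) (_ : Finite I),
    Nonempty ((ModSite.restr O W).obj M ≅
      SheafOfModules.free (R := ModSite.ringSh (O.over W)) I)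

variable {O} in
/-- `ℋom(M, -)` preserves epimorphisms for `M` locally finite free. -/
theorem epi_sheafHom_map_of_locFinFree (M : ModSite.Mod O) [ModSite.HasSheafHom M]
    (hM : LocFinFree O M) {G G' : ModSite.Mod O} (g : G ⟶ G') [Epi g] :
    Epi ((ModSite.sheafHom M).map g) := by
  apply epi_of_locally_epi
  intro V
  obtain ⟨S, hS, hk⟩ := hM V
  refine ⟨S, hS, fun W k hkS => ?_⟩
  obtain ⟨I, hI, ⟨e⟩⟩ := hk k hkS
  have : PreservesFiniteColimits (ModSite.restr O W) :=
    Groth.Agent.H92.RestrExact.restr_preservesFiniteColimits O W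
  have hg : Epi ((ModSite.restr O W).map g) := inferInstance
  have h1 : Epi ((ModSite.sheafHom (SheafOfModules.free (R := ModSite.ringSh (O.over W)) I)).map
      ((ModSite.restr O W).map g)) := epi_sheafHom_free_map (O.over W) I _
  have h2 : Epi ((ModSite.sheafHom ((ModSite.restr O W).obj M)).map ((ModSite.restr O W).map g)) :=
    epi_map_of_natIso (sheafHomIsoOfIso (O.over W) e) _ h1
  exact epi_map_of_natIso (F := ModSite.sheafHom M ⋙ ModSite.restr O W)
    (Groth.Agent.H31.ExtZero.restrSheafHomIso W M) g h2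

variable {O} in
/-- `ℋom(M, -)` is right exact for `M` locally finite free. -/
theorem preservesFiniteColimits_sheafHom (M : ModSite.Mod O) [ModSite.HasSheafHom M]
    (hM : LocFinFree O M) : PreservesFiniteColimits (ModSite.sheafHom M) := by
  have : ((ModSite.tensorBi O).flip.obj M).Additive := inferInstance
  have : (ModSite.sheafHom M).Additive := (ModSite.sheafHomAdj M).right_adjoint_additive
  have hl : PreservesFiniteLimits (ModSite.sheafHom M) := by
    have := (ModSite.sheafHomAdj M).rightAdjoint_preservesLimits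
    infer_instance
  rw [Functor.preservesFiniteColimits_iff_forall_exact_map_and_epi]
  intro T hT
  have := hT.epi_g
  exact ⟨((Functor.preservesFiniteLimits_iff_forall_exact_map_and_mono _).1 hl T hT).1,
    epi_sheafHom_map_of_locFinFree M hM T.g⟩

end Groth.Agent.H53.SheafHomExact
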