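import Groth.Agent.H53.ColimKernel
import Groth.Agent.H53.SheafHomExact
import Groth.Agent.H53.SheafHomContra
import Groth.Agent.H92.RestrExact
import Groth.Agent.H31.ExtZeroFlat
import Groth.Agent.H31.AB5
import Mathlib.CategoryTheory.Sites.LocalProperties
import Mathlib.Algebra.Category.ModuleCat.Sheaf.Quasicoherent

/-!
# `ℋom(F, -)` commutes with filtered colimits for `F` of finite presentation (helper53 library)
-/

set_option autoImplicit false
universe u
open CategoryTheory CategoryTheory.Limits Opposite

namespace Groth.Agent.H53.SheafHomColim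

open Groth.Agent.H31 Groth.Agent.H53.SheafHomExact Groth.Agent.H53.SheafHomContra

section PiSigma

variable {𝒜 : Type*} [Category 𝒜] [Preadditive 𝒜] (I : Type*) [Finite I]
  [HasCoproductsOfShape I 𝒜] [HasProductsOfShape I 𝒜] [HasFiniteBiproducts 𝒜]

open Classical in
lemma ι_iso_π [HasBiproductsOfShape I 𝒜] (P : 𝒜) (i j : I) :
    Limits.Sigma.ι (fun _ : I => P) i ≫
      ((biproduct.isoCoproduct (fun _ : I => P)).symm ≪≫
        biproduct.isoProduct (fun _ : I => P)).hom ≫ Limits.Pi.π (fun _ : I => P) j =
      if i = j then 𝟙 P else 0 := by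
  rw [Iso.trans_hom, Iso.symm_hom, biproduct.isoCoproduct_inv, biproduct.isoProduct_hom]
  simp only [Category.assoc, colimit.ι_desc_assoc, Cofan.mk_ι_app, limit.lift_π, Fan.mk_π_app]
  rw [biproduct.ι_π]
  split_ifs with h
  · subst h; rfl
  · rfl

/-- For finite `I`, `∐_I P ≅ ∏_I P` naturally. -/
noncomputable def sigmaPiConstIso :
    SheafHomExact.sigmaConst (𝒜 := 𝒜) I ≅ SheafHomExact.piConst I := by
  haveI : HasBiproductsOfShape I 𝒜 := hasBiproductsOfShape_finite _
  refine NatIso.ofComponents
    (fun P => (biproduct.isoCoproduct (fun _ : I => P)).symm ≪≫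
      biproduct.isoProduct (fun _ : I => P)) ?_
  intro P Q f
  apply Limits.Sigma.hom_ext
  intro i
  apply Limits.Pi.hom_ext
  intro j
  classical
  have h1 := ι_iso_π I Q i j
  have h2 := ι_iso_π I P i j
  dsimp only [SheafHomExact.sigmaConst, SheafHomExact.piConst]
  simp only [Category.assoc, Limits.Sigma.ι_map_assoc, Limits.Pi.map_π]
  rw [h1, reassoc_of% h2]
  split_ifs <;> simp

/-- For finite `I`, `G ↦ ∏_I G` preserves colimits. -/
theorem preservesColimit_piConst {K : Type*} [Category K] (D : K ⥤ 𝒜) :
    PreservesColimit D (SheafHomExact.piConst (𝒜 := 𝒜) I) := by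
  haveI : PreservesColimitsOfSize.{_, _} (SheafHomExact.sigmaConst (𝒜 := 𝒜) I) :=
    (SheafHomExact.sigmaPiAdj (𝒜 := 𝒜) I).leftAdjoint_preservesColimits
  exact preservesColimit_of_natIso D (sigmaPiConstIso I)

end PiSigma

section Restr

variable {C : Type u} [SmallCategory C] {J : GrothendieckTopology C} (O : Sheaf J CommRingCat.{u})

/-- Restriction to a slice preserves small colimits. -/
theorem restr_preservesColimitsOfShape (X : C) (K : Type u) [SmallCategory K] :
    PreservesColimitsOfShape K (ModSite.restr O X) := by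
  have h0 : PreservesColimitsOfSize.{u, u} (J.overPullback AddCommGrpCat.{u} X) := by
    haveI := ((Over.forget X).sheafAdjunctionCocontinuous AddCommGrpCat.{u}
      (J.over X) J).leftAdjoint_preservesColimits
    change PreservesColimitsOfSize.{u, u}
      ((Over.forget X).sheafPushforwardContinuous AddCommGrpCat.{u} (J.over X) J)
    infer_instance
  have h1 : PreservesColimitsOfShape K
      (SheafOfModules.toSheaf (ModSite.ringSh O) ⋙ J.overPullback AddCommGrpCat.{u} X) := by
    have := Groth.Agent.H45.toSheaf_preservesColimitsOfShape (ModSite.ringSh O) K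
    infer_instance
  have h2 : PreservesColimitsOfShape K
      (ModSite.restr O X ⋙ SheafOfModules.toSheaf (ModSite.ringSh (O.over X))) :=
    preservesColimitsOfShape_of_natIso (Groth.Agent.H92.RestrExact.cmpIso O X).symm
  have h3 : (SheafOfModules.toSheaf (ModSite.ringSh (O.over X))).ReflectsIsomorphisms :=
    inferInstance
  have h4 := Groth.Agent.H45.toSheaf_preservesColimitsOfShape (ModSite.ringSh (O.over X)) K
  have : ReflectsColimitsOfShape K (SheafOfModules.toSheaf (ModSite.ringSh (O.over X))) :=
    reflectsColimitsOfShape_of_reflectsIsomorphisms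
  exact ⟨fun {F} => preservesColimit_of_reflects_of_preserves (ModSite.restr O X)
    (SheafOfModules.toSheaf (ModSite.ringSh (O.over X)))⟩

variable {O}

/-- A morphism of sheaves of modules is an isomorphism if it is so on a covering family. -/
theorem isIso_of_coversTop_restr {ι : Type*} {X : ι → C} (hX : J.CoversTop X)
    {M N : ModSite.Mod O} (f : M ⟶ N) (h : ∀ i, IsIso ((ModSite.restr O (X i)).map f)) :
    IsIso f := by
  have h1 : IsIso ((SheafOfModules.toSheaf (ModSite.ringSh O)).map f) := by
    apply Sheaf.isIso_of_coversTop hX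
    intro i
    have := h i
    exact inferInstanceAs (IsIso ((SheafOfModules.toSheaf (ModSite.ringSh (O.over (X i)))).map
      ((ModSite.restr O (X i)).map f)))
  exact isIso_of_reflects_iso f (SheafOfModules.toSheaf (ModSite.ringSh O))

/-- Preservation of a small colimit can be checked on a covering family. -/
theorem preservesColimit_of_coversTop {ι : Type*} {X : ι → C} (hX : J.CoversTop X)
    {𝒜 : Type*} [Category 𝒜] {K : Type u} [SmallCategory K] (D : K ⥤ 𝒜) [HasColimit D]
    (G : 𝒜 ⥤ ModSite.Mod O) (h : ∀ i, PreservesColimit D (G ⋙ ModSite.restr O (X i))) :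
    PreservesColimit D G := by
  haveI : IsIso (colimit.post D G) := by
    apply isIso_of_coversTop_restr hX
    intro i
    haveI := restr_preservesColimitsOfShape O (X i) K
    haveI := h i
    have e := colimit.post_post D G (ModSite.restr O (X i))
    have h1 : IsIso (colimit.post (D ⋙ G) (ModSite.restr O (X i))) := inferInstance
    have h2 : IsIso (colimit.post D (G ⋙ ModSite.restr O (X i))) := inferInstance
    rw [← e] at h2
    exact IsIso.of_isIso_comp_left (colimit.post (D ⋙ G) (ModSite.restr O (X i))) _
  exact preservesColimit_of_isIso_post G D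

end Restr

section Global

variable {C : Type u} [SmallCategory C] {J : GrothendieckTopology C} (O : Sheaf J CommRingCat.{u})

/-- `ℋom(O^I, -)` preserves colimits for finite `I`. -/
theorem preservesColimit_sheafHom_free (I : Type u) [Finite I] {K : Type u} [SmallCategory K]
    (D : K ⥤ ModSite.Mod O)
    [ModSite.HasSheafHom (SheafOfModules.free (R := ModSite.ringSh O) I)] :
    PreservesColimit D (ModSite.sheafHom (SheafOfModules.free (R := ModSite.ringSh O) I)) := by
  haveI : HasFiniteBiproducts (ModSite.Mod O) := Abelian.hasFiniteBiproducts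
  haveI := preservesColimit_piConst (𝒜 := ModSite.Mod O) I D
  exact preservesColimit_of_natIso D (sheafHomFreeIso O I).symm

variable {O}

/-- For `F` with a finite global presentation, `ℋom(F, -)` preserves filtered colimits. -/
theorem preservesColimit_sheafHom_of_presentation (F : ModSite.Mod O) [ModSite.HasSheafHom F]
    (p : SheafOfModules.Presentation (R := ModSite.ringSh O) F) [p.IsFinite]
    {Λ : Type u} [SmallCategory Λ] [IsFiltered Λ] (D : Λ ⥤ ModSite.Mod O) :
    PreservesColimit D (ModSite.sheafHom F) := by
  let π : SheafOfModules.free (R := ModSite.ringSh O) p.generators.I ⟶ F := p.generators.π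
  let a : SheafOfModules.free (R := ModSite.ringSh O) p.relations.I ⟶
      SheafOfModules.free (R := ModSite.ringSh O) p.generators.I := p.relations.π ≫ kernel.ι π
  have wa : a ≫ π = 0 := by
    simp only [a, Category.assoc, kernel.condition, comp_zero]
  haveI : ModSite.HasSheafHom (SheafOfModules.free (R := ModSite.ringSh O) p.generators.I) :=
    hasSheafHom _
  haveI : ModSite.HasSheafHom (SheafOfModules.free (R := ModSite.ringSh O) p.relations.I) :=
    hasSheafHom _
  let S₀ : ShortComplex (ModSite.Mod O) := ShortComplex.mk a π wa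
  have hS₀ : S₀.Exact := by
    let S₂ : ShortComplex (ModSite.Mod O) := ShortComplex.mk (kernel.ι π) π (kernel.condition π)
    have hS₂ : S₂.Exact := ShortComplex.exact_of_f_is_kernel S₂ (kernelIsKernel π)
    let ψ : S₀ ⟶ S₂ :=
      { τ₁ := p.relations.π
        τ₂ := 𝟙 _
        τ₃ := 𝟙 _
        comm₁₂ := by simp [S₀, S₂, a]
        comm₂₃ := by simp [S₀, S₂] }
    haveI : Epi ψ.τ₁ := inferInstanceAs (Epi p.relations.π)
    haveI : IsIso ψ.τ₂ := inferInstanceAs (IsIso (𝟙 _))
    haveI : Mono ψ.τ₃ := inferInstanceAs (Mono (𝟙 _))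
    exact (ShortComplex.exact_iff_of_epi_of_isIso_of_mono ψ).2 hS₂
  haveI hπ : Epi π := inferInstanceAs (Epi p.generators.π)
  have hk : ∀ N : ModSite.Mod O, IsLimit (KernelFork.ofι ((ExtSupp.sheafHomMap π).app N)
      (Groth.Agent.H92.SheafHomLES.sheafHomMap_comp_eq_zero a π wa N)) := by
    intro N
    have h1 : S₀.op.Exact := hS₀.op
    haveI : Mono S₀.op.f := inferInstanceAs (Mono π.op)
    have h2 : (S₀.op.map (homInto N)).Exact :=
      h1.map_of_mono_of_preservesKernel (homInto N) inferInstance inferInstance
    haveI : Mono (S₀.op.map (homInto N)).f :=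
      inferInstanceAs (Mono ((homInto N).map S₀.op.f))
    exact h2.fIsKernel
  have w : ExtSupp.sheafHomMap π ≫ ExtSupp.sheafHomMap a = 0 := by
    apply NatTrans.ext
    funext N
    exact Groth.Agent.H92.SheafHomLES.sheafHomMap_comp_eq_zero a π wa N
  haveI : HasExactColimitsOfShape Λ AddCommGrpCat.{u} := inferInstance
  haveI : HasExactColimitsOfShape Λ (ModSite.Mod O) := hasExactColimitsOfShape_Mod (O := O) Λ
  haveI := preservesColimit_sheafHom_free O p.generators.I D
  haveI := preservesColimit_sheafHom_free O p.relations.I D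
  exact Groth.Agent.H53.ColimKernel.preservesColimit_of_pointwise_kernel D
    (ExtSupp.sheafHomMap π) (ExtSupp.sheafHomMap a) w hk

end Global

end Groth.Agent.H53.SheafHomColim
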