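import Groth.Agent.H53.MonoidalDual3
import Groth.Agent.H53.SheafDual3
import Groth.Agent.H53.SheafHomColim

/-!
# `ℋom(F, G) ⊗ H ≅ ℋom(F, G ⊗ H)` for `F` of finite presentation and `H` flat (helper53 library)

Presheaf-level canonical map `φ L₀ N₀ G₀ ζ : N₀ ⊗ [L₀, G₀] ⟶ [L₀, Z₀]` (for `ζ : N₀ ⊗ G₀ ⟶ Z₀`) and
the proof that it is a local isomorphism when `L₀` underlies a sheaf of finite presentation, `N₀` a
flat sheaf, `G₀`, `Z₀` sheaves and `ζ` a local isomorphism.
-/

set_option autoImplicit false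
universe u
open CategoryTheory CategoryTheory.Limits MonoidalCategory Opposite

namespace Groth.Agent.H53.HomTensor

open Groth.Agent.H31 Groth.Agent.H31.ExtZero Groth.Agent.H53.MonoidalDual
  Groth.Agent.H53.SheafDual

variable {C : Type u} [SmallCategory C] {J : GrothendieckTopology C} {O : Sheaf J CommRingCat.{u}}

/-- The presheaf-level canonical map `N ⊗ [L, G] ⟶ [L, N ⊗ G]` followed by `[L, ζ]`. -/
noncomputable def φ (L₀ N₀ G₀ : PM O) {Z₀ : PM O} (ζ : N₀ ⊗ G₀ ⟶ Z₀) :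
    N₀ ⊗ (H L₀).obj G₀ ⟶ (H L₀).obj Z₀ :=
  cmG (tensorAdj L₀) N₀ G₀ ≫ (H L₀).map ζ

section Free

/-- The presheaf underlying a free module of finite rank has a right dual. -/
theorem exists_exactPairing_free (I : Type u) [Finite I] :
    ∃ D' : PM O, Nonempty (ExactPairing
      ((toPM O).obj (SheafOfModules.free (R := ModSite.ringSh O) I)) D') := by
  obtain ⟨_⟩ := nonempty_fintype I
  have : HasFiniteBiproducts (PM O) := HasFiniteBiproducts.of_hasFiniteProducts
  have : HasFiniteBiproducts (ModSite.Mod O) := HasFiniteBiproducts.of_hasFiniteProducts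
  have : (toPM O).Additive :=
    inferInstanceAs (SheafOfModules.forget (ModSite.ringSh O)).Additive
  let f : I → ModSite.Mod O := fun _ => ModSite.unit O
  have : PreservesBiproduct f (toPM O) :=
    { preserves := fun {b} hb => ⟨isBilimitOfTotal _ (by
        show ∑ j : I, (toPM O).map (b.π j) ≫ (toPM O).map (b.ι j) =
          𝟙 ((toPM O).obj b.pt)
        simp_rw [← Functor.map_comp]
        rw [← Functor.map_sum, IsBilimit.total hb, CategoryTheory.Functor.map_id])⟩ }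
  have e1 : SheafOfModules.free (R := ModSite.ringSh O) I ≅ ⨁ f :=
    (biproduct.isoCoproduct f).symm
  let i : (toPM O).obj (SheafOfModules.free (R := ModSite.ringSh O) I) ≅
      BiprodDual.F (𝒞 := PM O) I :=
    (toPM O).mapIso e1 ≪≫ (toPM O).mapBiproduct f
  exact ⟨BiprodDual.F I,
    ⟨@exactPairingCongrLeft _ _ _ _ _ _ (BiprodDual.exactPairing (PM O) I) i⟩⟩

/-- Dualizable case: `φ` is a local isomorphism when `L₀` has a right dual. -/
theorem isIso_shf_map_φ_of_exactPairing (L₀ D' : PM O) [ExactPairing L₀ D'] (N₀ G₀ : PM O)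
    {Z₀ : PM O} (ζ : N₀ ⊗ G₀ ⟶ Z₀) [IsIso ((shf O).map ζ)] :
    IsIso ((shf O).map (φ L₀ N₀ G₀ ζ)) := by
  have h1 : IsIso (cmG (tensorAdj L₀) N₀ G₀) := isIso_cmG _ D' N₀ G₀
  have hc1 : IsIso (cm (tensorAdj L₀) ((tensorAdj L₀).counit.app (𝟙_ (PM O))) (N₀ ⊗ G₀)) :=
    isIso_cm_counit _ D' _
  have hc2 : IsIso (cm (tensorAdj L₀) ((tensorAdj L₀).counit.app (𝟙_ (PM O))) Z₀) :=
    isIso_cm_counit _ D' _
  have nat := cm_naturality (tensorAdj L₀) ((tensorAdj L₀).counit.app (𝟙_ (PM O))) ζ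
  have h2 : IsIso ((shf O).map ((H L₀).map ζ)) := by
    have h3 := isIso_shf_map_whiskerRight ζ ((H L₀).obj (𝟙_ (PM O)))
    have e' := congrArg (shf O).map nat
    rw [Functor.map_comp, Functor.map_comp] at e'
    have h4 : IsIso ((shf O).map (cm (tensorAdj L₀) ((tensorAdj L₀).counit.app (𝟙_ (PM O)))
        (N₀ ⊗ G₀)) ≫ (shf O).map ((H L₀).map ζ)) := by
      rw [← e']; infer_instance
    exact IsIso.of_isIso_comp_left ((shf O).map (cm (tensorAdj L₀)
      ((tensorAdj L₀).counit.app (𝟙_ (PM O))) (N₀ ⊗ G₀))) _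
  unfold φ
  rw [Functor.map_comp]
  infer_instance

/-- Free case: `φ` is a local isomorphism when `L` is free of finite rank. -/
theorem isIso_shf_map_φ_free (I : Type u) [Finite I] (N₀ G₀ : PM O) {Z₀ : PM O}
    (ζ : N₀ ⊗ G₀ ⟶ Z₀) [IsIso ((shf O).map ζ)] :
    IsIso ((shf O).map
      (φ ((toPM O).obj (SheafOfModules.free (R := ModSite.ringSh O) I)) N₀ G₀ ζ)) := by
  obtain ⟨D', ⟨P⟩⟩ := exists_exactPairing_free (O := O) I
  exact isIso_shf_map_φ_of_exactPairing _ D' N₀ G₀ ζ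

end Free

section Locality

variable (X : C)

theorem shfResIso_hom (G : PM O) :
    (shfResIso X G).hom = (shf (O.over X)).map ((res O X).map (η G)) ≫
      (shfAdj (O.over X)).counit.app ((ModSite.restr O X).obj ((shf O).obj G)) := rfl

theorem shfResIso_natural {A B : PM O} (ψ : A ⟶ B) :
    (shf (O.over X)).map ((res O X).map ψ) ≫ (shfResIso X B).hom =
      (shfResIso X A).hom ≫ (ModSite.restr O X).map ((shf O).map ψ) := by
  have nat : (shf (O.over X)).map ((incl (O.over X)).map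
      ((ModSite.restr O X).map ((shf O).map ψ))) ≫
      (shfAdj (O.over X)).counit.app ((ModSite.restr O X).obj ((shf O).obj B)) =
      (shfAdj (O.over X)).counit.app ((ModSite.restr O X).obj ((shf O).obj A)) ≫
        (ModSite.restr O X).map ((shf O).map ψ) :=
    (shfAdj (O.over X)).counit.naturality ((ModSite.restr O X).map ((shf O).map ψ))
  have hη : ψ ≫ η B = η A ≫ (incl O).map ((shf O).map ψ) := (shfAdj O).unit.naturality ψ
  have pm : (shf (O.over X)).map ((res O X).map ψ) ≫ (shf (O.over X)).map ((res O X).map (η B)) =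
      (shf (O.over X)).map ((res O X).map (η A)) ≫
        (shf (O.over X)).map ((res O X).map ((incl O).map ((shf O).map ψ))) := by
    rw [← Functor.map_comp, ← Functor.map_comp, ← Functor.map_comp, ← Functor.map_comp, hη]
    rfl
  have step1 : (shf (O.over X)).map ((res O X).map ψ) ≫
      ((shf (O.over X)).map ((res O X).map (η B)) ≫
        (shfAdj (O.over X)).counit.app ((ModSite.restr O X).obj ((shf O).obj B))) =
      ((shf (O.over X)).map ((res O X).map (η A)) ≫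
        (shf (O.over X)).map ((res O X).map ((incl O).map ((shf O).map ψ)))) ≫
        (shfAdj (O.over X)).counit.app ((ModSite.restr O X).obj ((shf O).obj B)) :=
    (Category.assoc _ _ _).symm.trans (congrArg (fun t => t ≫
      (shfAdj (O.over X)).counit.app ((ModSite.restr O X).obj ((shf O).obj B))) pm)
  have step2 : ((shf (O.over X)).map ((res O X).map (η A)) ≫
        (shf (O.over X)).map ((incl (O.over X)).map
          ((ModSite.restr O X).map ((shf O).map ψ)))) ≫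
        (shfAdj (O.over X)).counit.app ((ModSite.restr O X).obj ((shf O).obj B)) =
      ((shf (O.over X)).map ((res O X).map (η A)) ≫
        (shfAdj (O.over X)).counit.app ((ModSite.restr O X).obj ((shf O).obj A))) ≫
        (ModSite.restr O X).map ((shf O).map ψ) :=
    (Category.assoc _ _ _).trans ((congrArg (fun t =>
      (shf (O.over X)).map ((res O X).map (η A)) ≫ t) nat).trans (Category.assoc _ _ _).symm)
  exact step1.trans step2

theorem isIso_restr_shf_map {A B : PM O} (ψ : A ⟶ B)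
    (h : IsIso ((shf (O.over X)).map ((res O X).map ψ))) :
    IsIso ((ModSite.restr O X).map ((shf O).map ψ)) := by
  have nat := shfResIso_natural X ψ
  have e : (ModSite.restr O X).map ((shf O).map ψ) =
      (shfResIso X A).inv ≫ (shf (O.over X)).map ((res O X).map ψ) ≫ (shfResIso X B).hom := by
    rw [nat, Iso.inv_hom_id_assoc]
  rw [e]
  infer_instance

open Functor.LaxMonoidal in
theorem isIso_shf_res_φ (L₀ N₀ G₀ : PM O) {Z₀ : PM O} (ζ : N₀ ⊗ G₀ ⟶ Z₀)
    (h : IsIso ((shf (O.over X)).map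
      (φ ((res O X).obj L₀) ((res O X).obj N₀) ((res O X).obj G₀)
        (μ (res O X) N₀ G₀ ≫ (res O X).map ζ)))) :
    IsIso ((shf (O.over X)).map ((res O X).map (φ L₀ N₀ G₀ ζ))) := by
  have e := starφ (res O X) (tensorAdj L₀) (tensorAdj ((res O X).obj L₀)) N₀ G₀ Z₀ ζ
  have hb : (res O X).map (φ L₀ N₀ G₀ ζ) =
      inv (μ (res O X) N₀ ((H L₀).obj G₀)) ≫
        (((res O X).obj N₀ ◁ kap (res O X) (tensorAdj L₀) (tensorAdj ((res O X).obj L₀)) G₀ ≫
          φ ((res O X).obj L₀) ((res O X).obj N₀) ((res O X).obj G₀)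
            (μ (res O X) N₀ G₀ ≫ (res O X).map ζ)) ≫
        inv (kap (res O X) (tensorAdj L₀) (tensorAdj ((res O X).obj L₀)) Z₀)) := by
    rw [IsIso.eq_inv_comp, IsIso.eq_comp_inv, Category.assoc]
    exact e
  rw [hb, Functor.map_comp, Functor.map_comp, Functor.map_comp]
  infer_instance

end Locality

section Contra

/-- Contravariant functoriality of `Hsh` in the first variable. -/
noncomputable def HshMap {L L' : ModSite.Mod O} (g : L ⟶ L') (X : ModSite.Mod O) :
    (Hsh ((toPM O).obj L')).obj X ⟶ (Hsh ((toPM O).obj L)).obj X :=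
  ⟨Hmap (tensorAdj ((toPM O).obj L)) (tensorAdj ((toPM O).obj L')) ((toPM O).map g)
    ((incl O).obj X)⟩

lemma toPM_map_HshMap {L L' : ModSite.Mod O} (g : L ⟶ L') (X : ModSite.Mod O) :
    (toPM O).map (HshMap g X) =
      Hmap (tensorAdj ((toPM O).obj L)) (tensorAdj ((toPM O).obj L')) ((toPM O).map g)
        ((incl O).obj X) := rfl

/-- Transposition `Hom(T, ℋom(L, X)) → Hom(T ⊗ L, X)`. -/
noncomputable def tr (L T X : ModSite.Mod O) (h : T ⟶ (Hsh ((toPM O).obj L)).obj X) :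
    ((ModSite.tensorBi O).obj T).obj L ⟶ X :=
  ((shfAdj O).homEquiv ((toPM O).obj T ⊗ (toPM O).obj L) X).symm
    (((tensorAdj ((toPM O).obj L)).homEquiv ((toPM O).obj T) ((incl O).obj X)).symm
      ((toPM O).map h))

theorem tr_bijective (L T X : ModSite.Mod O) : Function.Bijective (tr L T X) :=
  ((shfAdj O).homEquiv ((toPM O).obj T ⊗ (toPM O).obj L) X).symm.bijective.comp
    ((((tensorAdj ((toPM O).obj L)).homEquiv ((toPM O).obj T)
      ((incl O).obj X)).symm.bijective).comp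
      ((SheafOfModules.fullyFaithfulForget (ModSite.ringSh O)).map_bijective T
        ((Hsh ((toPM O).obj L)).obj X)))

lemma tr_eq (L T X : ModSite.Mod O) (h : T ⟶ (Hsh ((toPM O).obj L)).obj X) :
    tr L T X h = (shf O).map ((toPM O).map h ▷ (toPM O).obj L ≫
      ev (tensorAdj ((toPM O).obj L)) ((incl O).obj X)) ≫ (shfAdj O).counit.app X := by
  unfold tr
  rw [Adjunction.homEquiv_counit, transpose_eq]
  rfl

lemma tr_zero (L T X : ModSite.Mod O) : tr L T X 0 = 0 := by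
  haveI : (shf O).PreservesZeroMorphisms :=
    @Functor.preservesZeroMorphisms_of_isLeftAdjoint _ _ _ _ _ _ _ ((shfAdj O).isLeftAdjoint)
  haveI : (toPM O).Additive :=
    inferInstanceAs (SheafOfModules.forget (ModSite.ringSh O)).Additive
  rw [tr_eq, Functor.map_zero, MonoidalPreadditive.zero_whiskerRight, zero_comp,
    Functor.map_zero, zero_comp]
  rfl

lemma whisker_Hmap_ev (L₀ L'₀ T₀ Y : PM O) (g₀ : L₀ ⟶ L'₀) (hh : T₀ ⟶ (H L'₀).obj Y) :
    (hh ≫ Hmap (tensorAdj L₀) (tensorAdj L'₀) g₀ Y) ▷ L₀ ≫ ev (tensorAdj L₀) Y =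
      T₀ ◁ g₀ ≫ hh ▷ L'₀ ≫ ev (tensorAdj L'₀) Y := by
  rw [comp_whiskerRight, Category.assoc, Hmap_ev, ← whisker_exchange_assoc]

lemma tr_HshMap {L L' : ModSite.Mod O} (g : L ⟶ L') (T X : ModSite.Mod O)
    (h : T ⟶ (Hsh ((toPM O).obj L')).obj X) :
    tr L T X (h ≫ HshMap g X) = ((ModSite.tensorBi O).obj T).map g ≫ tr L' T X h := by
  rw [tr_eq, tr_eq]
  have e : (toPM O).map (h ≫ HshMap g X) ▷ (toPM O).obj L ≫
      ev (tensorAdj ((toPM O).obj L)) ((incl O).obj X) =
      (toPM O).obj T ◁ (toPM O).map g ≫ (toPM O).map h ▷ (toPM O).obj L' ≫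
        ev (tensorAdj ((toPM O).obj L')) ((incl O).obj X) :=
    whisker_Hmap_ev ((toPM O).obj L) ((toPM O).obj L') ((toPM O).obj T) ((incl O).obj X)
      ((toPM O).map g) ((toPM O).map h)
  rw [e, Functor.map_comp, Category.assoc]
  rfl

theorem HshMap_comp_eq_zero {M₁ M₂ M₃ : ModSite.Mod O} (f : M₁ ⟶ M₂) (g : M₂ ⟶ M₃)
    (w : f ≫ g = 0) (X : ModSite.Mod O) : HshMap g X ≫ HshMap f X = 0 := by
  apply (tr_bijective M₁ _ X).1
  have h2 := tr_HshMap g ((Hsh ((toPM O).obj M₃)).obj X) X (𝟙 _)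
  rw [Category.id_comp] at h2
  rw [tr_HshMap, h2, ← Category.assoc, ← Functor.map_comp, w, Functor.map_zero, zero_comp,
    tr_zero]

/-- `0 ⟶ ℋom(S₃, X) ⟶ ℋom(S₂, X) ⟶ ℋom(S₁, X)` is exact (`Hsh` model). -/
theorem Hsh_leftExact (S : ShortComplex (ModSite.Mod O)) (hS : S.Exact) [Epi S.g]
    (X : ModSite.Mod O) :
    (ShortComplex.mk (HshMap S.g X) (HshMap S.f X)
      (HshMap_comp_eq_zero S.f S.g S.zero X)).Exact ∧ Mono (HshMap S.g X) := by
  have hex : ∀ P : ModSite.Mod O, (S.map ((ModSite.tensorBi O).obj P)).Exact ∧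
      Epi (((ModSite.tensorBi O).obj P).map S.g) := fun P =>
    ⟨hS.map_of_epi_of_preservesCokernel _ inferInstance inferInstance, inferInstance⟩
  constructor
  · rw [ShortComplex.exact_iff_exact_up_to_refinements]
    intro P x₂ hx₂
    dsimp at x₂ hx₂
    refine ⟨P, 𝟙 P, inferInstance, ?_⟩
    have h1 := tr_HshMap S.f P X x₂
    rw [hx₂, tr_zero] at h1
    have : Epi (S.map ((ModSite.tensorBi O).obj P)).g := (hex P).2
    let k' := (hex P).1.desc (tr S.X₂ P X x₂) h1.symm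
    have hk' : ((ModSite.tensorBi O).obj P).map S.g ≫ k' = tr S.X₂ P X x₂ :=
      (hex P).1.g_desc _ _
    obtain ⟨x₁, hx₁⟩ := (tr_bijective S.X₃ P X).2 k'
    refine ⟨x₁, ?_⟩
    dsimp
    rw [Category.id_comp]
    apply (tr_bijective S.X₂ P X).1
    rw [tr_HshMap, hx₁, hk']
  · constructor
    intro P a b hab
    apply (tr_bijective S.X₃ P X).1
    have := (hex P).2
    rw [← cancel_epi (((ModSite.tensorBi O).obj P).map S.g), ← tr_HshMap, ← tr_HshMap, hab]

end Contra

section Abstract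

/-- A morphism of left exact sequences which is invertible on the second and third terms is
invertible on the first. -/
theorem isIso_τ₁_of_leftExact {𝒜 : Type*} [Category 𝒜] [Abelian 𝒜] {S₁ S₂ : ShortComplex 𝒜}
    (h₁ : S₁.Exact) [Mono S₁.f] [Mono S₂.f] (α : S₁ ⟶ S₂)
    [IsIso α.τ₂] [IsIso α.τ₃] : IsIso α.τ₁ := by
  have hz : (S₂.f ≫ inv α.τ₂) ≫ S₁.g = 0 := by
    have c := α.comm₂₃
    have e : inv α.τ₂ ≫ S₁.g = S₂.g ≫ inv α.τ₃ := by
      rw [IsIso.inv_comp_eq, ← Category.assoc, c, Category.assoc, IsIso.hom_inv_id,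
        Category.comp_id]
    rw [Category.assoc, e, ← Category.assoc, S₂.zero, zero_comp]
  refine ⟨h₁.lift (S₂.f ≫ inv α.τ₂) hz, ?_, ?_⟩
  · have e : (α.τ₁ ≫ h₁.lift (S₂.f ≫ inv α.τ₂) hz) ≫ S₁.f = 𝟙 _ ≫ S₁.f := by
      rw [Category.assoc, h₁.lift_f, α.comm₁₂_assoc, IsIso.hom_inv_id, Category.comp_id,
        Category.id_comp]
    exact (cancel_mono S₁.f).1 e
  · have e : (h₁.lift (S₂.f ≫ inv α.τ₂) hz ≫ α.τ₁) ≫ S₂.f = 𝟙 _ ≫ S₂.f := by
      rw [Category.assoc, α.comm₁₂, h₁.lift_f_assoc, Category.assoc, IsIso.inv_hom_id,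
        Category.comp_id, Category.id_comp]
    exact (cancel_mono S₂.f).1 e

end Abstract

section Main

/-- The sheaf-level canonical map `H ⊗ ℋom(L, G) ⟶ ℋom(L, Z)` induced by `ζ : H ⊗ G ⟶ Z`. -/
noncomputable def Ψ (L Hm G Z : ModSite.Mod O)
    (ζ : (toPM O).obj Hm ⊗ (incl O).obj G ⟶ (incl O).obj Z) :
    ((ModSite.tensorBi O).obj Hm).obj ((Hsh ((toPM O).obj L)).obj G) ⟶
      (Hsh ((toPM O).obj L)).obj Z :=
  (show ((ModSite.tensorBi O).obj Hm).obj ((Hsh ((toPM O).obj L)).obj G) ⟶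
      (shf O).obj ((incl O).obj ((Hsh ((toPM O).obj L)).obj Z)) from
    (shf O).map (φ ((toPM O).obj L) ((toPM O).obj Hm) ((incl O).obj G) ζ)) ≫
  (shfAdj O).counit.app ((Hsh ((toPM O).obj L)).obj Z)

lemma φ_natural_L {L₀ L'₀ : PM O} (g₀ : L₀ ⟶ L'₀) (N₀ G₀ : PM O) {Z₀ : PM O} (ζ : N₀ ⊗ G₀ ⟶ Z₀) :
    N₀ ◁ Hmap (tensorAdj L₀) (tensorAdj L'₀) g₀ G₀ ≫ φ L₀ N₀ G₀ ζ =
      φ L'₀ N₀ G₀ ζ ≫ Hmap (tensorAdj L₀) (tensorAdj L'₀) g₀ Z₀ := by
  unfold φ
  rw [← Category.assoc, cmG_natural_L, Category.assoc, Hmap_natural, Category.assoc]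

lemma Ψ_natural {L L' : ModSite.Mod O} (g : L ⟶ L') (Hm G Z : ModSite.Mod O)
    (ζ : (toPM O).obj Hm ⊗ (incl O).obj G ⟶ (incl O).obj Z) :
    ((ModSite.tensorBi O).obj Hm).map (HshMap g G) ≫ Ψ L Hm G Z ζ =
      Ψ L' Hm G Z ζ ≫ HshMap g Z := by
  have pm := φ_natural_L ((toPM O).map g) ((toPM O).obj Hm) ((incl O).obj G) ζ
  have nat : (shf O).map ((incl O).map (HshMap g Z)) ≫
      (shfAdj O).counit.app ((Hsh ((toPM O).obj L)).obj Z) =
      (shfAdj O).counit.app ((Hsh ((toPM O).obj L')).obj Z) ≫ HshMap g Z :=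
    (shfAdj O).counit.naturality (HshMap g Z)
  have pm' : (shf O).map ((toPM O).obj Hm ◁ Hmap (tensorAdj ((toPM O).obj L))
      (tensorAdj ((toPM O).obj L')) ((toPM O).map g) ((incl O).obj G)) ≫
      (shf O).map (φ ((toPM O).obj L) ((toPM O).obj Hm) ((incl O).obj G) ζ) =
      (shf O).map (φ ((toPM O).obj L') ((toPM O).obj Hm) ((incl O).obj G) ζ) ≫
      (shf O).map (Hmap (tensorAdj ((toPM O).obj L))
        (tensorAdj ((toPM O).obj L')) ((toPM O).map g) ((incl O).obj Z)) := by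
    rw [← Functor.map_comp, ← Functor.map_comp, pm]
  exact (Category.assoc _ _ _).symm.trans ((congrArg (fun t => t ≫
    (shfAdj O).counit.app ((Hsh ((toPM O).obj L)).obj Z)) pm').trans
    ((Category.assoc _ _ _).trans ((congrArg (fun t =>
      (shf O).map (φ ((toPM O).obj L') ((toPM O).obj Hm) ((incl O).obj G) ζ) ≫ t) nat).trans
      (Category.assoc _ _ _).symm)))

/-- Main claim: for `F` with a finite global presentation and `Hm` flat, `φ` is a local
isomorphism. -/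
theorem isIso_shf_map_φ_of_presentation (F : ModSite.Mod O)
    (p : SheafOfModules.Presentation (R := ModSite.ringSh O) F) [p.IsFinite]
    (Hm G Z : ModSite.Mod O) (hH : ModSite.IsFlat Hm)
    (ζ : (toPM O).obj Hm ⊗ (incl O).obj G ⟶ (incl O).obj Z) [IsIso ((shf O).map ζ)] :
    IsIso ((shf O).map (φ ((toPM O).obj F) ((toPM O).obj Hm) ((incl O).obj G) ζ)) := by
  let π : SheafOfModules.free (R := ModSite.ringSh O) p.generators.I ⟶ F := p.generators.π
  let a : SheafOfModules.free (R := ModSite.ringSh O) p.relations.I ⟶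
      SheafOfModules.free (R := ModSite.ringSh O) p.generators.I := p.relations.π ≫ kernel.ι π
  have wa : a ≫ π = 0 := by
    simp only [a, Category.assoc, kernel.condition, comp_zero]
  let S₀ : ShortComplex (ModSite.Mod O) := ShortComplex.mk a π wa
  have hS₀ : S₀.Exact := by
    let S₂ : ShortComplex (ModSite.Mod O) := ShortComplex.mk (kernel.ι π) π (kernel.condition π)
    have hS₂ : S₂.Exact := ShortComplex.exact_of_f_is_kernel S₂ (kernelIsKernel π)
    let ψ : S₀ ⟶ S₂ :=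
      { τ₁ := p.relations.π
        τ₂ := 𝟙 _
        τ₃ := 𝟙 _
        comm₁₂ := by simp [S₀, S₂, a]
        comm₂₃ := by simp [S₀, S₂] }
    haveI : Epi ψ.τ₁ := inferInstanceAs (Epi p.relations.π)
    haveI : IsIso ψ.τ₂ := inferInstanceAs (IsIso (𝟙 _))
    haveI : Mono ψ.τ₃ := inferInstanceAs (Mono (𝟙 _))
    exact (ShortComplex.exact_iff_of_epi_of_isIso_of_mono ψ).2 hS₂
  haveI hπ : Epi S₀.g := inferInstanceAs (Epi p.generators.π)
  obtain ⟨ex2, mono2⟩ := Hsh_leftExact S₀ hS₀ Z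
  obtain ⟨ex1', mono1'⟩ := Hsh_leftExact S₀ hS₀ G
  haveI : PreservesFiniteLimits ((ModSite.tensorBi O).flip.obj Hm) := hH.1
  haveI : PreservesFiniteLimits ((ModSite.tensorBi O).obj Hm) :=
    preservesFiniteLimits_of_natIso (braidIso Hm).symm
  have ex1 : ((ShortComplex.mk (HshMap S₀.g G) (HshMap S₀.f G)
      (HshMap_comp_eq_zero S₀.f S₀.g S₀.zero G)).map ((ModSite.tensorBi O).obj Hm)).Exact :=
    ex1'.map_of_mono_of_preservesKernel _ mono1' inferInstance
  haveI mono1 : Mono ((ShortComplex.mk (HshMap S₀.g G) (HshMap S₀.f G)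
      (HshMap_comp_eq_zero S₀.f S₀.g S₀.zero G)).map ((ModSite.tensorBi O).obj Hm)).f :=
    inferInstanceAs (Mono (((ModSite.tensorBi O).obj Hm).map (HshMap S₀.g G)))
  haveI : Mono (ShortComplex.mk (HshMap S₀.g Z) (HshMap S₀.f Z)
      (HshMap_comp_eq_zero S₀.f S₀.g S₀.zero Z)).f := mono2
  let α : (ShortComplex.mk (HshMap S₀.g G) (HshMap S₀.f G)
      (HshMap_comp_eq_zero S₀.f S₀.g S₀.zero G)).map ((ModSite.tensorBi O).obj Hm) ⟶
      ShortComplex.mk (HshMap S₀.g Z) (HshMap S₀.f Z)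
        (HshMap_comp_eq_zero S₀.f S₀.g S₀.zero Z) :=
    { τ₁ := Ψ F Hm G Z ζ
      τ₂ := Ψ (SheafOfModules.free (R := ModSite.ringSh O) p.generators.I) Hm G Z ζ
      τ₃ := Ψ (SheafOfModules.free (R := ModSite.ringSh O) p.relations.I) Hm G Z ζ
      comm₁₂ := (Ψ_natural π Hm G Z ζ).symm
      comm₂₃ := (Ψ_natural a Hm G Z ζ).symm }
  have hfree : ∀ (I : Type u) [Finite I],
      IsIso (Ψ (SheafOfModules.free (R := ModSite.ringSh O) I) Hm G Z ζ) := by
    intro I _
    have h1 := isIso_shf_map_φ_free I ((toPM O).obj Hm) ((incl O).obj G) ζ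
    have h2 : IsIso ((shfAdj O).counit.app ((Hsh ((toPM O).obj
        (SheafOfModules.free (R := ModSite.ringSh O) I))).obj Z)) := isIso_counit (O := O) _
    exact @IsIso.comp_isIso _ _ _ _ _ _ _ h1 h2
  haveI : IsIso α.τ₂ := hfree p.generators.I
  haveI : IsIso α.τ₃ := hfree p.relations.I
  have h := isIso_τ₁_of_leftExact ex1 α
  have h' : IsIso (Ψ F Hm G Z ζ) := h
  have h2 : IsIso ((shfAdj O).counit.app ((Hsh ((toPM O).obj F)).obj Z)) :=
    isIso_counit (O := O) _
  exact @IsIso.of_isIso_comp_right _ _ _ _ _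
    ((shf O).map (φ ((toPM O).obj F) ((toPM O).obj Hm) ((incl O).obj G) ζ))
    ((shfAdj O).counit.app ((Hsh ((toPM O).obj F)).obj Z)) h2 h'

end Main

section Final

open Functor.LaxMonoidal in
/-- For `F` of finite presentation and `Hm` flat, the canonical presheaf map
`H ⊗ [F, G] ⟶ [F, (H ⊗ G)^♯]` is a local isomorphism. -/
theorem isIso_shf_map_φ (F G Hm : ModSite.Mod O)
    [SheafOfModules.IsFinitePresentation (R := ModSite.ringSh O) F] (hH : ModSite.IsFlat Hm) :
    IsIso ((shf O).map (φ ((toPM O).obj F) ((toPM O).obj Hm) ((incl O).obj G)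
      (η ((toPM O).obj Hm ⊗ (incl O).obj G)))) := by
  obtain ⟨σ, hσ⟩ := SheafOfModules.IsFinitePresentation.exists_quasicoherentData
    (R := ModSite.ringSh O) F
  apply SheafHomColim.isIso_of_coversTop_restr σ.coversTop
  intro i
  apply isIso_restr_shf_map
  apply isIso_shf_res_φ
  let p : SheafOfModules.Presentation (R := ModSite.ringSh (O.over (σ.X i)))
      ((ModSite.restr O (σ.X i)).obj F) := σ.presentation i
  haveI : p.IsFinite := hσ.isFinite_presentation i
  have hfl := isFlat_restr Hm hH (σ.X i)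
  haveI h1 : IsIso ((shf (O.over (σ.X i))).map
      (μ (res O (σ.X i)) ((toPM O).obj Hm) ((incl O).obj G) ≫
        (res O (σ.X i)).map (η ((toPM O).obj Hm ⊗ (incl O).obj G)))) := by
    rw [Functor.map_comp]
    haveI := isIso_shf_map_res (σ.X i) (η ((toPM O).obj Hm ⊗ (incl O).obj G))
    infer_instance
  exact @isIso_shf_map_φ_of_presentation _ _ _ (O.over (σ.X i))
    ((ModSite.restr O (σ.X i)).obj F) p inferInstance ((ModSite.restr O (σ.X i)).obj Hm)
    ((ModSite.restr O (σ.X i)).obj G)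
    ((ModSite.restr O (σ.X i)).obj ((shf O).obj ((toPM O).obj Hm ⊗ (incl O).obj G))) hfl
    (μ (res O (σ.X i)) ((toPM O).obj Hm) ((incl O).obj G) ≫
        (res O (σ.X i)).map (η ((toPM O).obj Hm ⊗ (incl O).obj G))) h1

/-- `ℋom(F, G) ⊗ H ≅ ℋom(F, G ⊗ H)` for `F` of finite presentation and `H` flat. -/
theorem nonempty_sheafHom_tensor_iso (F G Hm : ModSite.Mod O)
    [SheafOfModules.IsFinitePresentation (R := ModSite.ringSh O) F] [ModSite.HasSheafHom F]
    (hH : ModSite.IsFlat Hm) :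
    Nonempty (((ModSite.tensorBi O).obj ((ModSite.sheafHom F).obj G)).obj Hm ≅
      (ModSite.sheafHom F).obj (((ModSite.tensorBi O).obj G).obj Hm)) := by
  let u : ModSite.sheafHom F ≅ Hsh ((toPM O).obj F) :=
    (ModSite.sheafHomAdj F).rightAdjointUniq (Groth.Agent.H31.sheafHomAdj F)
  have h1 := isIso_shf_map_φ F G Hm hH
  let e1' := @asIso _ _ _ _ ((shf O).map (φ ((toPM O).obj F) ((toPM O).obj Hm) ((incl O).obj G)
      (η ((toPM O).obj Hm ⊗ (incl O).obj G)))) h1
  let e1 : ((ModSite.tensorBi O).obj Hm).obj ((Hsh ((toPM O).obj F)).obj G) ≅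
      (shf O).obj ((incl O).obj ((Hsh ((toPM O).obj F)).obj
        (((ModSite.tensorBi O).obj Hm).obj G))) := e1'
  have h2 : IsIso ((shfAdj O).counit.app ((Hsh ((toPM O).obj F)).obj
      (((ModSite.tensorBi O).obj Hm).obj G))) := isIso_counit (O := O) _
  let e2' := @asIso _ _ _ _ ((shfAdj O).counit.app ((Hsh ((toPM O).obj F)).obj
      (((ModSite.tensorBi O).obj Hm).obj G))) h2
  let e2 : (shf O).obj ((incl O).obj ((Hsh ((toPM O).obj F)).obj
        (((ModSite.tensorBi O).obj Hm).obj G))) ≅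
      (Hsh ((toPM O).obj F)).obj (((ModSite.tensorBi O).obj Hm).obj G) := e2'
  let b1 : ((ModSite.tensorBi O).obj ((ModSite.sheafHom F).obj G)).obj Hm ≅
      ((ModSite.tensorBi O).obj Hm).obj ((ModSite.sheafHom F).obj G) :=
    (braidIso ((ModSite.sheafHom F).obj G)).app Hm
  let b2 : ((ModSite.tensorBi O).obj Hm).obj G ≅ ((ModSite.tensorBi O).obj G).obj Hm :=
    (braidIso Hm).app G
  exact ⟨b1 ≪≫ ((ModSite.tensorBi O).obj Hm).mapIso (u.app G) ≪≫ e1 ≪≫ e2 ≪≫
    (Hsh ((toPM O).obj F)).mapIso b2 ≪≫ (u.app _).symm⟩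

end Final

end Groth.Agent.H53.HomTensor
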