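import Mathlib
import Groth.Prelude.Def_SGA6

/-!
# The resolution theorem for `K₀` (helper library for S3200)

`P₀ ≤ P₁` two classes of objects of an abelian category, stable under extensions and kernels of
epimorphisms, such that every object of `P₁` is a quotient of an object of `P₀` and has finite
`P₀`-dimension.  Then `K₀(P₀) → K₀(P₁)` is bijective.

The proof goes through the filtration `Dn n` of `P₁` by `P₀`-resolution dimension.
-/

set_option autoImplicit false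
set_option linter.style.haveILetI false
universe v u
open CategoryTheory CategoryTheory.Limits

namespace Groth.Agent.H53.K0Res

variable {C : Type u} [Category.{v} C] [Abelian C]

/-! ### Short exact sequence tools -/

lemma shortExact_kernel {L A : C} (p : L ⟶ A) [Epi p] :
    (ShortComplex.mk (kernel.ι p) p (kernel.condition p)).ShortExact :=
  ShortComplex.ShortExact.mk'
    (ShortComplex.exact_of_f_is_kernel _ (kernelIsKernel p))
    (by dsimp; infer_instance) (by dsimp; infer_instance)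

lemma exact_em {X K Y B Z : C} (e : X ⟶ K) [Epi e] (k : K ⟶ Y) (p : Y ⟶ B) (m : B ⟶ Z) [Mono m]
    (w : k ≫ p = 0) (h : (ShortComplex.mk k p w).Exact) (f : X ⟶ Y) (g : Y ⟶ Z)
    (hf : f = e ≫ k) (hg : g = p ≫ m) (w' : f ≫ g = 0) :
    (ShortComplex.mk f g w').Exact := by
  subst hf hg
  have w₁ : (e ≫ k) ≫ p = 0 := by rw [Category.assoc, w, comp_zero]
  let S₀ := ShortComplex.mk k p w
  let S₁ := ShortComplex.mk (e ≫ k) p w₁
  let S₂ := ShortComplex.mk (e ≫ k) (p ≫ m) w'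
  let φ₁ : S₁ ⟶ S₀ :=
    { τ₁ := e, τ₂ := 𝟙 _, τ₃ := 𝟙 _
      comm₁₂ := by simp [S₀, S₁]
      comm₂₃ := by simp [S₀, S₁] }
  let φ₂ : S₁ ⟶ S₂ :=
    { τ₁ := 𝟙 _, τ₂ := 𝟙 _, τ₃ := m
      comm₁₂ := by simp [S₁, S₂]
      comm₂₃ := by simp [S₁, S₂] }
  haveI : Epi φ₁.τ₁ := (inferInstance : Epi e)
  haveI : IsIso φ₁.τ₂ := (inferInstance : IsIso (𝟙 Y))
  haveI : Mono φ₁.τ₃ := (inferInstance : Mono (𝟙 B))
  haveI : Epi φ₂.τ₁ := (inferInstance : Epi (𝟙 X))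
  haveI : IsIso φ₂.τ₂ := (inferInstance : IsIso (𝟙 Y))
  haveI : Mono φ₂.τ₃ := (inferInstance : Mono m)
  have h₁ : S₁.Exact := (ShortComplex.exact_iff_of_epi_of_isIso_of_mono φ₁).2 h
  exact (ShortComplex.exact_iff_of_epi_of_isIso_of_mono φ₂).1 h₁

/-- Pullback of a short exact sequence along `p`: `0 → S.X₁ → X ×_{S.X₃} S.X₂ → X → 0`. -/
lemma pb1 (S : ShortComplex C) (hS : S.ShortExact) {X : C} (p : X ⟶ S.X₃) :
    (ShortComplex.mk (pullback.lift (0 : S.X₁ ⟶ X) S.f (by rw [zero_comp, S.zero]))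
      (pullback.fst p S.g) (by rw [pullback.lift_fst])).ShortExact := by
  have := hS.mono_f
  have := hS.epi_g
  have w0 : (0 : S.X₁ ⟶ X) ≫ p = S.f ≫ S.g := by rw [zero_comp, S.zero]
  have hι : pullback.lift (0 : S.X₁ ⟶ X) S.f w0 ≫ pullback.fst p S.g = 0 :=
    pullback.lift_fst _ _ _
  have hlim : IsLimit (KernelFork.ofι (pullback.lift (0 : S.X₁ ⟶ X) S.f w0) hι) :=
    KernelFork.IsLimit.ofι _ _
      (fun {T} t ht => hS.exact.lift (t ≫ pullback.snd p S.g)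
        (by rw [Category.assoc, ← pullback.condition, ← Category.assoc, ht, zero_comp]))
      (fun {T} t ht => by
        apply pullback.hom_ext
        · rw [Category.assoc, pullback.lift_fst, comp_zero, ht]
        · rw [Category.assoc, pullback.lift_snd, ShortComplex.Exact.lift_f])
      (fun {T} t ht m hm => by
        rw [← cancel_mono S.f, ShortComplex.Exact.lift_f, ← hm, Category.assoc,
          pullback.lift_snd])
  refine ShortComplex.ShortExact.mk' (ShortComplex.exact_of_f_is_kernel _ hlim) ?_ ?_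
  · exact mono_of_mono_fac (pullback.lift_snd _ _ _)
  · dsimp; infer_instance

/-- Pullback of a short exact sequence along `q`, other orientation. -/
lemma pb1' (S : ShortComplex C) (hS : S.ShortExact) {Y : C} (q : Y ⟶ S.X₃) :
    (ShortComplex.mk (pullback.lift S.f (0 : S.X₁ ⟶ Y) (by rw [zero_comp, S.zero]))
      (pullback.snd S.g q) (by rw [pullback.lift_snd])).ShortExact := by
  have := hS.mono_f
  have := hS.epi_g
  have w0 : S.f ≫ S.g = (0 : S.X₁ ⟶ Y) ≫ q := by rw [zero_comp, S.zero]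
  have hι : pullback.lift S.f (0 : S.X₁ ⟶ Y) w0 ≫ pullback.snd S.g q = 0 :=
    pullback.lift_snd _ _ _
  have hlim : IsLimit (KernelFork.ofι (pullback.lift S.f (0 : S.X₁ ⟶ Y) w0) hι) :=
    KernelFork.IsLimit.ofι _ _
      (fun {T} t ht => hS.exact.lift (t ≫ pullback.fst S.g q)
        (by rw [Category.assoc, pullback.condition, ← Category.assoc, ht, zero_comp]))
      (fun {T} t ht => by
        apply pullback.hom_ext
        · rw [Category.assoc, pullback.lift_fst, ShortComplex.Exact.lift_f]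
        · rw [Category.assoc, pullback.lift_snd, comp_zero, ht])
      (fun {T} t ht m hm => by
        rw [← cancel_mono S.f, ShortComplex.Exact.lift_f, ← hm, Category.assoc,
          pullback.lift_fst])
  refine ShortComplex.ShortExact.mk' (ShortComplex.exact_of_f_is_kernel _ hlim) ?_ ?_
  · exact mono_of_mono_fac (pullback.lift_fst _ _ _)
  · dsimp; infer_instance

/-- Pullback of an epi along the kernel of `S.g` is the kernel of the composite. -/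
lemma pb2 (S : ShortComplex C) (hS : S.ShortExact) {L : C} (g : L ⟶ S.X₂) [Epi g] :
    (ShortComplex.mk (pullback.fst g S.f) (g ≫ S.g)
      (by rw [← Category.assoc, pullback.condition, Category.assoc, S.zero,
        comp_zero])).ShortExact := by
  have := hS.mono_f
  have := hS.epi_g
  have w0 : pullback.fst g S.f ≫ g ≫ S.g = 0 := by
    rw [← Category.assoc, pullback.condition, Category.assoc, S.zero, comp_zero]
  have hlim : IsLimit (KernelFork.ofι (pullback.fst g S.f) w0) :=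
    KernelFork.IsLimit.ofι _ _
      (fun {T} t ht => pullback.lift t (hS.exact.lift (t ≫ g)
        (by rw [Category.assoc]; exact ht)) (by rw [ShortComplex.Exact.lift_f]))
      (fun {T} t ht => pullback.lift_fst _ _ _)
      (fun {T} t ht m hm => by
        rw [← cancel_mono (pullback.fst g S.f), pullback.lift_fst]; exact hm)
  refine ShortComplex.ShortExact.mk' (ShortComplex.exact_of_f_is_kernel _ hlim) ?_ ?_
  · dsimp; infer_instance
  · dsimp; infer_instance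

/-! ### The hypotheses and the dimension filtration -/

/-- The hypotheses on the pair `P₀ ≤ P₁`. -/
structure Hyp (P₀ P₁ : ObjectProperty C) : Prop where
  iso₀ : ∀ {X Y : C}, (X ≅ Y) → P₀ X → P₀ Y
  iso₁ : ∀ {X Y : C}, (X ≅ Y) → P₁ X → P₁ Y
  hle : ∀ X, P₀ X → P₁ X
  hext₀ : ∀ S : ShortComplex C, S.ShortExact → P₀ S.X₁ → P₀ S.X₃ → P₀ S.X₂
  hext₁ : ∀ S : ShortComplex C, S.ShortExact → P₁ S.X₁ → P₁ S.X₃ → P₁ S.X₂
  h1₀ : ∀ S : ShortComplex C, S.ShortExact → P₀ S.X₂ → P₀ S.X₃ → P₀ S.X₁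
  h1₁ : ∀ S : ShortComplex C, S.ShortExact → P₁ S.X₂ → P₁ S.X₃ → P₁ S.X₁
  cover : ∀ A, P₁ A → ∃ (L : C) (p : L ⟶ A), P₀ L ∧ Epi p

/-- Objects of `P₁` of `P₀`-dimension at most `n`. -/
def Dn (P₀ P₁ : ObjectProperty C) : ℕ → C → Prop
  | 0 => fun A => P₀ A
  | n + 1 => fun A => P₁ A ∧ ∀ (K L : C) (i : K ⟶ L) (p : L ⟶ A) (w : i ≫ p = 0),
      (ShortComplex.mk i p w).ShortExact → P₀ L → Dn P₀ P₁ n K

variable {P₀ P₁ : ObjectProperty C}

lemma Dn_zero_iff {A : C} : Dn P₀ P₁ 0 A ↔ P₀ A := Iff.rfl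

lemma Dn_succ_iff {n : ℕ} {A : C} : Dn P₀ P₁ (n + 1) A ↔
    (P₁ A ∧ ∀ (K L : C) (i : K ⟶ L) (p : L ⟶ A) (w : i ≫ p = 0),
      (ShortComplex.mk i p w).ShortExact → P₀ L → Dn P₀ P₁ n K) := Iff.rfl

lemma Dn_P₁ (H : Hyp P₀ P₁) : ∀ (n : ℕ) {A : C}, Dn P₀ P₁ n A → P₁ A
  | 0, A, h => H.hle A (Dn_zero_iff.1 h)
  | _ + 1, _, h => (Dn_succ_iff.1 h).1

lemma Dn_iso (H : Hyp P₀ P₁) : ∀ (n : ℕ) {A B : C}, (A ≅ B) → Dn P₀ P₁ n A → Dn P₀ P₁ n B
  | 0, _, _, e, h => Dn_zero_iff.2 (H.iso₀ e (Dn_zero_iff.1 h))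
  | n + 1, A, B, e, h => by
    obtain ⟨h1, h2⟩ := Dn_succ_iff.1 h
    refine Dn_succ_iff.2 ⟨H.iso₁ e h1, fun K L i p w hS hL => ?_⟩
    have w' : i ≫ (p ≫ e.inv) = 0 := by rw [← Category.assoc, w, zero_comp]
    refine h2 K L i (p ≫ e.inv) w' ?_ hL
    have e' : ShortComplex.mk i p w ≅ ShortComplex.mk i (p ≫ e.inv) w' :=
      ShortComplex.isoMk (Iso.refl _) (Iso.refl _) e.symm (by simp) (by simp)
    exact ShortComplex.shortExact_of_iso e' hS

lemma Dn_succ (H : Hyp P₀ P₁) : ∀ (n : ℕ) {A : C}, Dn P₀ P₁ n A → Dn P₀ P₁ (n + 1) A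
  | 0, A, h => Dn_succ_iff.2 ⟨H.hle A (Dn_zero_iff.1 h), fun K L i p w hS hL =>
      Dn_zero_iff.2 (H.h1₀ (ShortComplex.mk i p w) hS hL (Dn_zero_iff.1 h))⟩
  | n + 1, A, h => by
    obtain ⟨h1, h2⟩ := Dn_succ_iff.1 h
    exact Dn_succ_iff.2 ⟨h1, fun K L i p w hS hL => Dn_succ H n (h2 K L i p w hS hL)⟩

lemma Dn_mono (H : Hyp P₀ P₁) {n m : ℕ} (h : n ≤ m) {A : C} (hA : Dn P₀ P₁ n A) :
    Dn P₀ P₁ m A := by
  induction h with
  | refl => exact hA
  | step _ ih => exact Dn_succ H _ ih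

lemma Dn_of_P₀ (H : Hyp P₀ P₁) (n : ℕ) {A : C} (hA : P₀ A) : Dn P₀ P₁ n A :=
  Dn_mono H (Nat.zero_le n) (Dn_zero_iff.2 hA)

/-! ### Chosen covers -/

noncomputable def covL (H : Hyp P₀ P₁) (A : C) (hA : P₁ A) : C := (H.cover A hA).choose

noncomputable def covP (H : Hyp P₀ P₁) (A : C) (hA : P₁ A) : covL H A hA ⟶ A :=
  (H.cover A hA).choose_spec.choose

lemma covL_mem (H : Hyp P₀ P₁) (A : C) (hA : P₁ A) : P₀ (covL H A hA) :=
  (H.cover A hA).choose_spec.choose_spec.1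

instance covP_epi (H : Hyp P₀ P₁) (A : C) (hA : P₁ A) : Epi (covP H A hA) :=
  (H.cover A hA).choose_spec.choose_spec.2

/-! ### Closure properties of `Dn` -/

lemma Dn_ext_ker (H : Hyp P₀ P₁) : ∀ n : ℕ,
    (∀ S : ShortComplex C, S.ShortExact → Dn P₀ P₁ n S.X₁ → Dn P₀ P₁ n S.X₃ →
      Dn P₀ P₁ n S.X₂) ∧
    (∀ S : ShortComplex C, S.ShortExact → Dn P₀ P₁ n S.X₂ → Dn P₀ P₁ n S.X₃ →
      Dn P₀ P₁ n S.X₁)
  | 0 => ⟨fun S hS h1 h3 => Dn_zero_iff.2 (H.hext₀ S hS (Dn_zero_iff.1 h1) (Dn_zero_iff.1 h3)),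
      fun S hS h2 h3 => Dn_zero_iff.2 (H.h1₀ S hS (Dn_zero_iff.1 h2) (Dn_zero_iff.1 h3))⟩
  | n + 1 => by
    obtain ⟨ihE, ihK⟩ := Dn_ext_ker H n
    have L6 : ∀ U : ShortComplex C, U.ShortExact → Dn P₀ P₁ n U.X₂ →
        Dn P₀ P₁ (n + 1) U.X₃ → Dn P₀ P₁ n U.X₁ := by
      intro U hU hN hA'
      obtain ⟨hA'1, hA'2⟩ := Dn_succ_iff.1 hA'
      haveI := hU.epi_g
      have hL' : P₀ (covL H U.X₃ hA'1) := covL_mem H U.X₃ hA'1
      have hV := shortExact_kernel (covP H U.X₃ hA'1)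
      have hK' : Dn P₀ P₁ n (kernel (covP H U.X₃ hA'1)) := hA'2 _ _ _ _ _ hV hL'
      have hM : Dn P₀ P₁ n (pullback U.g (covP H U.X₃ hA'1)) :=
        ihE _ (pb1 _ hV U.g) hK' hN
      have hfin := ihK _ (pb1' U hU (covP H U.X₃ hA'1)) hM (Dn_of_P₀ H n hL')
      exact hfin
    constructor
    · intro S hS hA' hA''
      obtain ⟨hA'1, _⟩ := Dn_succ_iff.1 hA'
      obtain ⟨hA''1, hA''2⟩ := Dn_succ_iff.1 hA''
      refine Dn_succ_iff.2 ⟨H.hext₁ S hS hA'1 hA''1, fun K L i p w hS' hL => ?_⟩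
      haveI : Epi p := hS'.epi_g
      have hN : Dn P₀ P₁ n (pullback p S.f) := hA''2 _ _ _ _ _ (pb2 S hS p) hL
      exact L6 _ (pb1' _ hS' S.f) hN hA'
    · intro S hS hA hA''
      obtain ⟨hA1, hA2⟩ := Dn_succ_iff.1 hA
      obtain ⟨hA''1, hA''2⟩ := Dn_succ_iff.1 hA''
      refine Dn_succ_iff.2 ⟨H.h1₁ S hS hA1 hA''1, fun K' L' i' p' w' hS' hL' => ?_⟩
      haveI : Epi p' := hS'.epi_g
      have hL : P₀ (covL H S.X₂ hA1) := covL_mem H S.X₂ hA1
      have hV := shortExact_kernel (covP H S.X₂ hA1)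
      have hK : Dn P₀ P₁ n (kernel (covP H S.X₂ hA1)) := hA2 _ _ _ _ _ hV hL
      have hN : Dn P₀ P₁ n (pullback (covP H S.X₂ hA1) S.f) :=
        hA''2 _ _ _ _ _ (pb2 S hS (covP H S.X₂ hA1)) hL
      have hU := pb1' _ hV S.f
      have hM : Dn P₀ P₁ n (pullback (pullback.snd (covP H S.X₂ hA1) S.f) p') :=
        ihE _ (pb1' _ hU p') hK (Dn_of_P₀ H n hL')
      exact ihK _ (pb1 _ hS' (pullback.snd (covP H S.X₂ hA1) S.f)) hM hN

/-! ### Resolutions -/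

/-- A resolution of `A` by objects of `P₀`, with explicit augmentation. -/
structure Res (P₀ : ObjectProperty C) (A : C) where
  L : ChainComplex C ℕ
  q : L.X 0 ⟶ A
  epi_q : Epi q
  w : L.d 1 0 ≫ q = 0
  exact₀ : (ShortComplex.mk (L.d 1 0) q w).Exact
  hP : ∀ i, P₀ (L.X i)
  hex : ∀ i, L.ExactAt (i + 1)

lemma Res.homology_iso {A : C} (r : Res P₀ A) : Nonempty (r.L.homology 0 ≅ A) := by
  haveI := r.epi_q
  have hg : (r.L.sc' 1 0 0).g = 0 := r.L.shape 0 0 (by simp)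
  let c : CokernelCofork (r.L.sc' 1 0 0).f := CokernelCofork.ofπ r.q r.w
  have hc : IsColimit c := r.exact₀.gIsCokernel
  let h := ShortComplex.HomologyData.ofIsColimitCokernelCofork (r.L.sc' 1 0 0) hg c hc
  exact ⟨ShortComplex.homologyMapIso (r.L.isoSc' 1 0 0 (by simp) (by simp)) ≪≫
    h.left.homologyIso⟩

lemma sc'_exact_iff (K : ChainComplex C ℕ) (i j k : ℕ) {f' : K.X i ⟶ K.X j} {g' : K.X j ⟶ K.X k}
    (hf : K.d i j = f') (hg : K.d j k = g') (w : f' ≫ g' = 0) :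
    (K.sc' i j k).Exact ↔ (ShortComplex.mk f' g' w).Exact := by
  subst hf hg
  exact Iff.rfl

lemma of_d_succ (X : ℕ → C) (d : ∀ n, X (n + 1) ⟶ X n) (sq : ∀ n, d (n + 1) ≫ d n = 0) (j : ℕ) :
    (ChainComplex.of X d sq).d (j + 1) j = d j := ChainComplex.of_d X d j

/-- Objects of `P₁`, bundled. -/
structure St (P₁ : ObjectProperty C) where
  K : C
  hK : P₁ K

noncomputable def St.next (H : Hyp P₀ P₁) (s : St P₁) : St P₁ :=
  ⟨kernel (covP H s.K s.hK),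
    H.h1₁ _ (shortExact_kernel (covP H s.K s.hK)) (H.hle _ (covL_mem H s.K s.hK)) s.hK⟩

noncomputable def seq (H : Hyp P₀ P₁) (A : C) (hA : P₁ A) : ℕ → St P₁
  | 0 => ⟨A, hA⟩
  | n + 1 => St.next H (seq H A hA n)

section ResOf

variable (H : Hyp P₀ P₁) (A : C) (hA : P₁ A)

noncomputable def resX (n : ℕ) : C := covL H (seq H A hA n).K (seq H A hA n).hK

noncomputable def resP (n : ℕ) : resX H A hA n ⟶ (seq H A hA n).K :=
  covP H (seq H A hA n).K (seq H A hA n).hK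

instance resP_epi (n : ℕ) : Epi (resP H A hA n) := covP_epi H _ _

noncomputable def resI (n : ℕ) : (seq H A hA (n + 1)).K ⟶ resX H A hA n :=
  kernel.ι (covP H (seq H A hA n).K (seq H A hA n).hK)

instance resI_mono (n : ℕ) : Mono (resI H A hA n) :=
  (shortExact_kernel (covP H (seq H A hA n).K (seq H A hA n).hK)).mono_f

lemma resI_P (n : ℕ) : resI H A hA n ≫ resP H A hA n = 0 := kernel.condition _

lemma res_base (n : ℕ) :
    (ShortComplex.mk (resI H A hA n) (resP H A hA n) (resI_P H A hA n)).Exact :=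
  ShortComplex.exact_of_f_is_kernel _ (kernelIsKernel (covP H (seq H A hA n).K (seq H A hA n).hK))

noncomputable def resD (n : ℕ) : resX H A hA (n + 1) ⟶ resX H A hA n :=
  resP H A hA (n + 1) ≫ resI H A hA n

lemma resD_sq (n : ℕ) : resD H A hA (n + 1) ≫ resD H A hA n = 0 := by
  unfold resD
  rw [Category.assoc, ← Category.assoc (resI H A hA (n + 1)), resI_P, zero_comp, comp_zero]

noncomputable def resOf : Res P₀ A where
  L := ChainComplex.of (resX H A hA) (resD H A hA) (resD_sq H A hA)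
  q := resP H A hA 0
  epi_q := resP_epi H A hA 0
  w := by
    have h10 := of_d_succ (resX H A hA) (resD H A hA) (resD_sq H A hA) 0
    have h : resD H A hA 0 ≫ resP H A hA 0 = 0 := by
      unfold resD; rw [Category.assoc, resI_P, comp_zero]
    exact (congrArg (fun x => x ≫ resP H A hA 0) h10).trans h
  exact₀ := by
    have h10 := of_d_succ (resX H A hA) (resD H A hA) (resD_sq H A hA) 0
    exact exact_em (resP H A hA 1) (resI H A hA 0) (resP H A hA 0) (𝟙 (seq H A hA 0).K)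
      (resI_P H A hA 0) (res_base H A hA 0) _ _ h10 (Category.comp_id _).symm _
  hP := fun i => covL_mem H (seq H A hA i).K (seq H A hA i).hK
  hex := fun i => by
    rw [HomologicalComplex.exactAt_iff' _ (i + 2) (i + 1) i (by simp) (by simp)]
    exact exact_em (resP H A hA (i + 2)) (resI H A hA (i + 1)) (resP H A hA (i + 1))
      (resI H A hA i) (resI_P H A hA (i + 1)) (res_base H A hA (i + 1)) _ _
      (of_d_succ (resX H A hA) (resD H A hA) (resD_sq H A hA) (i + 1))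
      (of_d_succ (resX H A hA) (resD H A hA) (resD_sq H A hA) i) _

end ResOf

/-- Prepend one step to a resolution. -/
noncomputable def Res.aug {K : C} (r : Res P₀ K) {L₀ A : C} (i : K ⟶ L₀) (p : L₀ ⟶ A)
    (w₁ : i ≫ p = 0) (hS : (ShortComplex.mk i p w₁).ShortExact) (h0 : P₀ L₀) : Res P₀ A where
  L := ChainComplex.augment r.L (r.q ≫ i) (by rw [← Category.assoc, r.w, zero_comp])
  q := p
  epi_q := hS.epi_g
  w := by
    show (r.q ≫ i) ≫ p = 0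
    rw [Category.assoc, w₁, comp_zero]
  exact₀ := by
    haveI := r.epi_q
    exact exact_em r.q i p (𝟙 A) w₁ hS.exact _ _ rfl (Category.comp_id p).symm _
  hP := fun n => by
    cases n with
    | zero => exact h0
    | succ n => exact r.hP n
  hex := fun n => by
    haveI : Mono i := hS.mono_f
    rw [HomologicalComplex.exactAt_iff' _ (n + 2) (n + 1) n (by simp) (by simp)]
    cases n with
    | zero =>
      exact exact_em (𝟙 _) (r.L.d 1 0) r.q i r.w r.exact₀ _ _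
        ((ChainComplex.augment_d_succ_succ _ _ _ 1 0).trans (Category.id_comp _).symm) rfl _
    | succ n =>
      have h := (HomologicalComplex.exactAt_iff' r.L (n + 2) (n + 1) n (by simp) (by simp)).1
        (r.hex n)
      exact (sc'_exact_iff _ _ _ _ (ChainComplex.augment_d_succ_succ _ _ _ (n + 2) (n + 1))
        (ChainComplex.augment_d_succ_succ _ _ _ (n + 1) n) _).2 h

lemma cycles_iff_kernel (hiso : ∀ {X Y : C}, (X ≅ Y) → P₀ X → P₀ Y) (K : ChainComplex C ℕ)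
    (n : ℕ) : P₀ (K.cycles (n + 1)) ↔ P₀ (kernel (K.d (n + 1) n)) := by
  have e := IsLimit.conePointUniqueUpToIso (K.cyclesIsKernel (n + 1) n (by simp))
    (kernelIsKernel (K.d (n + 1) n))
  exact ⟨fun h => hiso e h, fun h => hiso e.symm h⟩

lemma Dn_of_R (H : Hyp P₀ P₁) : ∀ (d : ℕ) (A : C), P₁ A →
    (∀ r : Res P₀ A, P₀ (r.L.cycles (d + 1))) → Dn P₀ P₁ (d + 2) A
  | 0, A, hA, hR => by
    refine Dn_succ_iff.2 ⟨hA, fun K L₀ i p w hS h0 => ?_⟩
    have hK : P₁ K := H.h1₁ _ hS (H.hle _ h0) hA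
    refine Dn_succ_iff.2 ⟨hK, fun K₁ L₁ i₁ p₁ w₁ hS₁ h1 => ?_⟩
    have hK₁ : P₁ K₁ := H.h1₁ _ hS₁ (H.hle _ h1) hK
    have h3 := hR (((resOf H K₁ hK₁).aug i₁ p₁ w₁ hS₁ h1).aug i p w hS h0)
    have h4 := (cycles_iff_kernel H.iso₀ _ 0).1 h3
    have h5 : (((resOf H K₁ hK₁).aug i₁ p₁ w₁ hS₁ h1).aug i p w hS h0).L.d (0 + 1) 0 = p₁ ≫ i :=
      rfl
    have h6 : P₀ (kernel (p₁ ≫ i)) := H.iso₀ (kernelIsoOfEq h5) h4
    haveI : Mono i := hS.mono_f
    haveI : Mono i₁ := hS₁.mono_f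
    have w' : i₁ ≫ (p₁ ≫ i) = 0 := by rw [← Category.assoc, w₁, zero_comp]
    have hex : (ShortComplex.mk i₁ (p₁ ≫ i) w').Exact :=
      exact_em (𝟙 _) i₁ p₁ i w₁ hS₁.exact _ _ (Category.id_comp _).symm rfl _
    haveI : Mono (ShortComplex.mk i₁ (p₁ ≫ i) w').f := (inferInstance : Mono i₁)
    have e := IsLimit.conePointUniqueUpToIso hex.fIsKernel (kernelIsKernel (p₁ ≫ i))
    exact Dn_zero_iff.2 (H.iso₀ e.symm h6)
  | d + 1, A, hA, hR => by
    refine Dn_succ_iff.2 ⟨hA, fun K L₀ i p w hS h0 => ?_⟩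
    have hK : P₁ K := H.h1₁ _ hS (H.hle _ h0) hA
    refine Dn_of_R H d K hK (fun r => ?_)
    have h3 := hR (r.aug i p w hS h0)
    have h4 := (cycles_iff_kernel H.iso₀ _ (d + 1)).1 h3
    have h5 : (r.aug i p w hS h0).L.d (d + 1 + 1) (d + 1) = r.L.d (d + 1) d :=
      ChainComplex.augment_d_succ_succ r.L (r.q ≫ i)
        (by rw [← Category.assoc, r.w, zero_comp]) (d + 1) d
    have h6 : P₀ (kernel (r.L.d (d + 1) d)) := H.iso₀ (kernelIsoOfEq h5) h4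
    exact (cycles_iff_kernel H.iso₀ r.L d).2 h6

lemma exists_Dn (H : Hyp P₀ P₁)
    (h3 : ∀ A : C, P₁ A → ∃ d : ℕ, ∀ L : ChainComplex C ℕ, (∀ i, P₀ (L.X i)) →
      (∀ i, 1 ≤ i → L.ExactAt i) → Nonempty (L.homology 0 ≅ A) → P₀ (L.cycles (d + 1)))
    (A : C) (hA : P₁ A) : ∃ n, Dn P₀ P₁ n A := by
  obtain ⟨d, hd⟩ := h3 A hA
  refine ⟨d + 2, Dn_of_R H d A hA (fun r => hd r.L r.hP (fun i hi => ?_) r.homology_iso)⟩
  obtain ⟨j, rfl⟩ : ∃ j, i = j + 1 := ⟨i - 1, by omega⟩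
  exact r.hex j

/-! ### `K₀` -/

open KZero

/-- The class of an object in `K₀(P)`. -/
noncomputable def cls (P : ObjectProperty C) (X : C) (h : P X) : K0sub P :=
  QuotientAddGroup.mk (FreeAbelianGroup.of (⟨X, h⟩ : Subtype P))

lemma cls_rel (P : ObjectProperty C) (S : ShortComplex C) (hS : S.ShortExact) (h₁ : P S.X₁)
    (h₂ : P S.X₂) (h₃ : P S.X₃) : cls P S.X₂ h₂ = cls P S.X₁ h₁ + cls P S.X₃ h₃ := by
  have hmem : FreeAbelianGroup.of (⟨S.X₂, h₂⟩ : Subtype P) - FreeAbelianGroup.of ⟨S.X₁, h₁⟩ -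
      FreeAbelianGroup.of ⟨S.X₃, h₃⟩ ∈ relSub P :=
    AddSubgroup.subset_closure ⟨S, h₁, h₂, h₃, hS, rfl⟩
  have h0 : (QuotientAddGroup.mk (FreeAbelianGroup.of (⟨S.X₂, h₂⟩ : Subtype P) -
      FreeAbelianGroup.of ⟨S.X₁, h₁⟩ - FreeAbelianGroup.of ⟨S.X₃, h₃⟩) : K0sub P) = 0 :=
    (QuotientAddGroup.eq_zero_iff _).2 hmem
  have h1 : cls P S.X₂ h₂ - cls P S.X₁ h₁ - cls P S.X₃ h₃ = 0 := h0
  have h2 := sub_eq_zero.1 h1
  rw [← h2]; abel

/-- The universal property of `K₀(P)`. -/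
noncomputable def K0lift (P : ObjectProperty C) {G : Type*} [AddCommGroup G] (φ : Subtype P → G)
    (hφ : ∀ (S : ShortComplex C) (h₁ : P S.X₁) (h₂ : P S.X₂) (h₃ : P S.X₃), S.ShortExact →
      φ ⟨S.X₂, h₂⟩ = φ ⟨S.X₁, h₁⟩ + φ ⟨S.X₃, h₃⟩) : K0sub P →+ G :=
  QuotientAddGroup.lift (relSub P) (FreeAbelianGroup.lift φ) (by
    rw [KZero.relSub, AddSubgroup.closure_le]
    rintro x ⟨S, h₁, h₂, h₃, hS, rfl⟩
    simp only [SetLike.mem_coe, AddMonoidHom.mem_ker, map_sub, FreeAbelianGroup.lift_apply_of]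
    rw [hφ S h₁ h₂ h₃ hS]; abel)

lemma K0lift_cls (P : ObjectProperty C) {G : Type*} [AddCommGroup G] (φ : Subtype P → G)
    (hφ : ∀ (S : ShortComplex C) (h₁ : P S.X₁) (h₂ : P S.X₂) (h₃ : P S.X₃), S.ShortExact →
      φ ⟨S.X₂, h₂⟩ = φ ⟨S.X₁, h₁⟩ + φ ⟨S.X₃, h₃⟩) (X : C) (h : P X) :
    K0lift P φ hφ (cls P X h) = φ ⟨X, h⟩ :=
  FreeAbelianGroup.lift_apply_of φ ⟨X, h⟩

@[elab_as_elim]
lemma K0_induction {P : ObjectProperty C} {motive : K0sub P → Prop} (x : K0sub P)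
    (h0 : motive 0) (h1 : ∀ X (hX : P X), motive (cls P X hX))
    (hneg : ∀ y, motive y → motive (-y))
    (hadd : ∀ y z, motive y → motive z → motive (y + z)) : motive x := by
  obtain ⟨a, rfl⟩ := QuotientAddGroup.mk_surjective x
  induction a using FreeAbelianGroup.induction_on with
  | zero => exact h0
  | of x => exact h1 x.1 x.2
  | neg x ih => exact hneg _ ih
  | add a b iha ihb => exact hadd _ _ iha ihb

lemma mapSub_cls (hle : ∀ X, P₀ X → P₁ X) (X : C) (h : P₀ X) :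
    SGA6.mapSub (𝟭 C) P₀ P₁ hle (cls P₀ X h) = cls P₁ X (hle X h) := by
  show QuotientAddGroup.mk (FreeAbelianGroup.map (SGA6.objMap (𝟭 C) P₀ P₁ hle)
    (FreeAbelianGroup.of ⟨X, h⟩)) = _
  rw [FreeAbelianGroup.map_of_apply]
  rfl

/-- The map `K₀(P) → K₀(Q)` for `P ≤ Q`. -/
noncomputable def K0incl {P Q : ObjectProperty C} (h : ∀ X, P X → Q X) : K0sub P →+ K0sub Q :=
  K0lift P (fun X => cls Q X.1 (h X.1 X.2)) (fun S _ _ _ hS => cls_rel Q S hS _ _ _)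

lemma K0incl_cls {P Q : ObjectProperty C} (h : ∀ X, P X → Q X) (X : C) (hX : P X) :
    K0incl h (cls P X hX) = cls Q X (h X hX) :=
  K0lift_cls P _ _ X hX

section Psi

variable (H : Hyp P₀ P₁) (n : ℕ)

/-- `[A] ↦ [L] - [K]` for the chosen cover `0 → K → L → A → 0`. -/
noncomputable def psiFun (X : Subtype (Dn P₀ P₁ (n + 1))) : K0sub (Dn P₀ P₁ n) :=
  cls _ (covL H X.1 (Dn_succ_iff.1 X.2).1) (Dn_of_P₀ H n (covL_mem H _ _)) -
  cls _ (kernel (covP H X.1 (Dn_succ_iff.1 X.2).1))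
    ((Dn_succ_iff.1 X.2).2 _ _ _ _ _ (shortExact_kernel _) (covL_mem H _ _))

lemma psiFun_eq (A : C) (hA : Dn P₀ P₁ (n + 1) A) (K N : C) (i : K ⟶ N) (g : N ⟶ A)
    (w : i ≫ g = 0) (hU : (ShortComplex.mk i g w).ShortExact) (hK : Dn P₀ P₁ n K)
    (hN : Dn P₀ P₁ n N) :
    psiFun H n ⟨A, hA⟩ = cls _ N hN - cls _ K hK := by
  obtain ⟨hA1, hA2⟩ := Dn_succ_iff.1 hA
  obtain ⟨ihE, ihK⟩ := Dn_ext_ker H n
  haveI : Epi g := hU.epi_g
  have hL' : P₀ (covL H A hA1) := covL_mem H A hA1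
  have hV := shortExact_kernel (covP H A hA1)
  have hK' : Dn P₀ P₁ n (kernel (covP H A hA1)) := hA2 _ _ _ _ _ hV hL'
  have hM : Dn P₀ P₁ n (pullback g (covP H A hA1)) := ihE _ (pb1 _ hV g) hK' hN
  have r1 : cls (Dn P₀ P₁ n) (pullback g (covP H A hA1)) hM =
      cls _ (kernel (covP H A hA1)) hK' + cls _ N hN :=
    cls_rel (Dn P₀ P₁ n) _ (pb1 _ hV g) hK' hM hN
  have r2 : cls (Dn P₀ P₁ n) (pullback g (covP H A hA1)) hM =
      cls _ K hK + cls _ (covL H A hA1) (Dn_of_P₀ H n hL') :=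
    cls_rel (Dn P₀ P₁ n) _ (pb1' _ hU (covP H A hA1)) hK hM (Dn_of_P₀ H n hL')
  show cls _ (covL H A hA1) (Dn_of_P₀ H n hL') - cls _ (kernel (covP H A hA1)) hK' = _
  rw [sub_eq_sub_iff_add_eq_add]
  calc cls _ (covL H A hA1) (Dn_of_P₀ H n hL') + cls _ K hK
      = cls _ K hK + cls _ (covL H A hA1) (Dn_of_P₀ H n hL') := add_comm _ _
    _ = cls (Dn P₀ P₁ n) (pullback g (covP H A hA1)) hM := r2.symm
    _ = cls _ (kernel (covP H A hA1)) hK' + cls _ N hN := r1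
    _ = cls _ N hN + cls _ (kernel (covP H A hA1)) hK' := add_comm _ _

lemma psiFun_add (S : ShortComplex C) (h₁ : Dn P₀ P₁ (n + 1) S.X₁) (h₂ : Dn P₀ P₁ (n + 1) S.X₂)
    (h₃ : Dn P₀ P₁ (n + 1) S.X₃) (hS : S.ShortExact) :
    psiFun H n ⟨S.X₂, h₂⟩ = psiFun H n ⟨S.X₁, h₁⟩ + psiFun H n ⟨S.X₃, h₃⟩ := by
  obtain ⟨hA1, hA2⟩ := Dn_succ_iff.1 h₂
  obtain ⟨_, hA''2⟩ := Dn_succ_iff.1 h₃
  have hL : P₀ (covL H S.X₂ hA1) := covL_mem H S.X₂ hA1
  have hV := shortExact_kernel (covP H S.X₂ hA1)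
  have hK : Dn P₀ P₁ n (kernel (covP H S.X₂ hA1)) := hA2 _ _ _ _ _ hV hL
  have hN : Dn P₀ P₁ n (pullback (covP H S.X₂ hA1) S.f) :=
    hA''2 _ _ _ _ _ (pb2 S hS (covP H S.X₂ hA1)) hL
  have e2 : psiFun H n ⟨S.X₂, h₂⟩ =
      cls _ (covL H S.X₂ hA1) (Dn_of_P₀ H n hL) - cls _ (kernel (covP H S.X₂ hA1)) hK :=
    psiFun_eq H n S.X₂ h₂ _ _ _ _ _ hV hK (Dn_of_P₀ H n hL)
  have e3 : psiFun H n ⟨S.X₃, h₃⟩ =
      cls _ (covL H S.X₂ hA1) (Dn_of_P₀ H n hL) -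
        cls _ (pullback (covP H S.X₂ hA1) S.f) hN :=
    psiFun_eq H n S.X₃ h₃ _ _ _ _ _ (pb2 S hS (covP H S.X₂ hA1)) hN (Dn_of_P₀ H n hL)
  have e1 : psiFun H n ⟨S.X₁, h₁⟩ =
      cls _ (pullback (covP H S.X₂ hA1) S.f) hN - cls _ (kernel (covP H S.X₂ hA1)) hK :=
    psiFun_eq H n S.X₁ h₁ _ _ _ _ _ (pb1' _ hV S.f) hK hN
  rw [e1, e2, e3]; abel

/-- `K₀(Dn (n+1)) → K₀(Dn n)`. -/
noncomputable def psi : K0sub (Dn P₀ P₁ (n + 1)) →+ K0sub (Dn P₀ P₁ n) :=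
  K0lift _ (psiFun H n) (fun S h₁ h₂ h₃ hS => psiFun_add H n S h₁ h₂ h₃ hS)

lemma psi_cls (A : C) (hA : Dn P₀ P₁ (n + 1) A) (K N : C) (i : K ⟶ N) (g : N ⟶ A)
    (w : i ≫ g = 0) (hU : (ShortComplex.mk i g w).ShortExact) (hK : Dn P₀ P₁ n K)
    (hN : Dn P₀ P₁ n N) :
    psi H n (cls _ A hA) = cls _ N hN - cls _ K hK := by
  unfold psi
  rw [K0lift_cls]
  exact psiFun_eq H n A hA K N i g w hU hK hN

lemma psi_incl (A : C) (hA : Dn P₀ P₁ n A) :
    psi H n (cls _ A (Dn_succ H n hA)) = cls _ A hA := by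
  have hA1 : P₁ A := Dn_P₁ H n hA
  have hL : P₀ (covL H A hA1) := covL_mem H A hA1
  have hV := shortExact_kernel (covP H A hA1)
  have hK : Dn P₀ P₁ n (kernel (covP H A hA1)) :=
    (Dn_succ_iff.1 (Dn_succ H n hA)).2 _ _ _ _ _ hV hL
  rw [psi_cls H n A _ _ _ _ _ _ hV hK (Dn_of_P₀ H n hL)]
  have r : cls (Dn P₀ P₁ n) (covL H A hA1) (Dn_of_P₀ H n hL) =
      cls _ (kernel (covP H A hA1)) hK + cls _ A hA :=
    cls_rel (Dn P₀ P₁ n) _ hV hK (Dn_of_P₀ H n hL) hA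
  rw [r]; abel

end Psi

section Chi

variable (H : Hyp P₀ P₁)

/-- `K₀(Dn n) → K₀(P₀)`. -/
noncomputable def chi : (n : ℕ) → (K0sub (Dn P₀ P₁ n) →+ K0sub P₀)
  | 0 => K0incl (fun _ h => Dn_zero_iff.1 h)
  | n + 1 => (chi n).comp (psi H n)

lemma chi_zero_cls (A : C) (hA : Dn P₀ P₁ 0 A) :
    chi H 0 (cls _ A hA) = cls P₀ A (Dn_zero_iff.1 hA) :=
  K0incl_cls _ A hA

lemma chi_succ_cls (n : ℕ) (A : C) (hA : Dn P₀ P₁ n A) :
    chi H (n + 1) (cls _ A (Dn_succ H n hA)) = chi H n (cls _ A hA) := by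
  show chi H n (psi H n _) = _
  rw [psi_incl]

lemma chi_mono {n m : ℕ} (h : n ≤ m) (A : C) (hA : Dn P₀ P₁ n A) :
    chi H m (cls _ A (Dn_mono H h hA)) = chi H n (cls _ A hA) := by
  induction h with
  | refl => rfl
  | step h ih => exact (chi_succ_cls H _ A (Dn_mono H h hA)).trans ih

variable (hex : ∀ A, P₁ A → ∃ n, Dn P₀ P₁ n A)

noncomputable def chiFun (X : Subtype P₁) : K0sub P₀ :=
  chi H (hex X.1 X.2).choose (cls _ X.1 (hex X.1 X.2).choose_spec)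

lemma chiFun_eq (X : C) (hX : P₁ X) (m : ℕ) (hm : Dn P₀ P₁ m X) :
    chiFun H hex ⟨X, hX⟩ = chi H m (cls _ X hm) := by
  have a := chi_mono H (le_max_left (hex X hX).choose m) X (hex X hX).choose_spec
  have b := chi_mono H (le_max_right (hex X hX).choose m) X hm
  exact a.symm.trans b

lemma chiFun_add (S : ShortComplex C) (h₁ : P₁ S.X₁) (h₂ : P₁ S.X₂) (h₃ : P₁ S.X₃)
    (hS : S.ShortExact) :
    chiFun H hex ⟨S.X₂, h₂⟩ = chiFun H hex ⟨S.X₁, h₁⟩ + chiFun H hex ⟨S.X₃, h₃⟩ := by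
  obtain ⟨n₁, d₁⟩ := hex _ h₁
  obtain ⟨n₂, d₂⟩ := hex _ h₂
  obtain ⟨n₃, d₃⟩ := hex _ h₃
  have d₁' : Dn P₀ P₁ (max n₁ (max n₂ n₃)) S.X₁ := Dn_mono H (le_max_left _ _) d₁
  have d₂' : Dn P₀ P₁ (max n₁ (max n₂ n₃)) S.X₂ :=
    Dn_mono H ((le_max_left _ _).trans (le_max_right _ _)) d₂
  have d₃' : Dn P₀ P₁ (max n₁ (max n₂ n₃)) S.X₃ :=
    Dn_mono H ((le_max_right _ _).trans (le_max_right _ _)) d₃
  rw [chiFun_eq H hex _ h₁ _ d₁', chiFun_eq H hex _ h₂ _ d₂', chiFun_eq H hex _ h₃ _ d₃',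
    ← map_add, cls_rel (Dn P₀ P₁ (max n₁ (max n₂ n₃))) S hS d₁' d₂' d₃']

/-- The inverse map `K₀(P₁) → K₀(P₀)`. -/
noncomputable def chiHom : K0sub P₁ →+ K0sub P₀ :=
  K0lift P₁ (chiFun H hex) (fun S h₁ h₂ h₃ hS => chiFun_add H hex S h₁ h₂ h₃ hS)

lemma chiHom_mapSub (x : K0sub P₀) :
    chiHom H hex (SGA6.mapSub (𝟭 C) P₀ P₁ H.hle x) = x := by
  induction x using K0_induction with
  | h0 => rw [map_zero, map_zero]
  | h1 X hX =>
    rw [mapSub_cls]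
    unfold chiHom
    rw [K0lift_cls, chiFun_eq H hex X _ 0 (Dn_zero_iff.2 hX), chi_zero_cls]
  | hneg y hy => rw [map_neg, map_neg, hy]
  | hadd y z hy hz => rw [map_add, map_add, hy, hz]

lemma mem_range_mapSub : ∀ (n : ℕ) (A : C), Dn P₀ P₁ n A → ∀ hA : P₁ A,
    cls P₁ A hA ∈ (SGA6.mapSub (𝟭 C) P₀ P₁ H.hle).range
  | 0, A, h, _ => ⟨cls P₀ A (Dn_zero_iff.1 h), mapSub_cls H.hle A (Dn_zero_iff.1 h)⟩
  | n + 1, A, h, hA => by
    obtain ⟨h1, h2⟩ := Dn_succ_iff.1 h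
    have hL : P₀ (covL H A h1) := covL_mem H A h1
    have hV := shortExact_kernel (covP H A h1)
    have hK : Dn P₀ P₁ n (kernel (covP H A h1)) := h2 _ _ _ _ _ hV hL
    have r : cls P₁ (covL H A h1) (H.hle _ hL) =
        cls P₁ (kernel (covP H A h1)) (Dn_P₁ H n hK) + cls P₁ A hA :=
      cls_rel P₁ _ hV (Dn_P₁ H n hK) (H.hle _ hL) hA
    have e : cls P₁ A hA = cls P₁ (covL H A h1) (H.hle _ hL) -
        cls P₁ (kernel (covP H A h1)) (Dn_P₁ H n hK) := by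
      rw [r]; abel
    rw [e]
    exact sub_mem (mem_range_mapSub n _ (Dn_of_P₀ H n hL) _) (mem_range_mapSub n _ hK _)

include hex in
theorem bijective_mapSub :
    Function.Bijective (SGA6.mapSub (𝟭 C) P₀ P₁ H.hle) := by
  constructor
  · exact Function.LeftInverse.injective (chiHom_mapSub H hex)
  · intro y
    have hy : y ∈ (SGA6.mapSub (𝟭 C) P₀ P₁ H.hle).range := by
      induction y using K0_induction with
      | h0 => exact zero_mem _
      | h1 X hX =>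
        obtain ⟨n, hn⟩ := hex X hX
        exact mem_range_mapSub H n X hn hX
      | hneg y hy => exact neg_mem hy
      | hadd y z hy hz => exact add_mem hy hz
    exact AddMonoidHom.mem_range.1 hy

end Chi

end Groth.Agent.H53.K0Res
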