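import Groth.Agent.H82.HHFinite
import Groth.Agent.H82.ProjFinite
import Groth.Agent.H31.FlatSite
import Groth.Agent.H40.FlatBridge
import Groth.Agent.H28.LpullLoc2
import Groth.Agent.H22.ResProp
import Groth.Agent.H42.KRRTwist

set_option autoImplicit false
universe u
open CategoryTheory CategoryTheory.Limits AlgebraicGeometry

namespace Groth.Agent.H53.MRegSkel

variable {X : Scheme.{u}}

/-- (HHL1) -/
theorem subsingleton_HH_of_ses (S : ShortComplex X.Modules) (hS : S.ShortExact) (j : ℕ)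
    (h₂ : Subsingleton (Coh.HH X S.X₂ j)) (h₁ : Subsingleton (Coh.HH X S.X₁ (j + 1))) :
    Subsingleton (Coh.HH X S.X₃ j) := by
  sorry

/-- (HHL2) -/
theorem subsingleton_HH_of_iso {M N : X.Modules} (e : M ≅ N) (j : ℕ)
    (h : Subsingleton (Coh.HH X M j)) : Subsingleton (Coh.HH X N j) := by
  sorry

/-- (HHL3) -/
theorem subsingleton_HH_of_isZero {M : X.Modules} (hM : IsZero M) (j : ℕ) :
    Subsingleton (Coh.HH X M j) := by
  sorry

/-- (HHL4) -/
theorem subsingleton_HH_sigma {ι : Type} [Fintype ι] [DecidableEq ι] (F : ι → X.Modules) (j : ℕ)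
    (h : ∀ t, Subsingleton (Coh.HH X (F t) j)) : Subsingleton (Coh.HH X (∐ F) j) := by
  sorry

/-- (KT1) -/
theorem isFlat_of_iso_sigma_twist (n : ℕ) (k : Type u) [Field k]
    (M : (CohB1.ProjSpace n k).Modules) (N : ℕ) (d : ℤ)
    (e : M ≅ ∐ fun _ : Fin N => Twist.twistProjSpace n k d) :
    ModSite.IsFlat (O := (CohB1.ProjSpace n k).sheaf) M := by
  sorry

/-- (KT2) -/
theorem subsingleton_HH_tensor_sigma_twist (n : ℕ) (k : Type u) [Field k]
    (F M : (CohB1.ProjSpace n k).Modules) (N : ℕ) (d : ℤ)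
    (e : M ≅ ∐ fun _ : Fin N => Twist.twistProjSpace n k d) (j : ℕ)
    (h : Subsingleton (Coh.HH (CohB1.ProjSpace n k) (CohB1.tensorMod F (Twist.twistProjSpace n k d)) j)) :
    Subsingleton (Coh.HH (CohB1.ProjSpace n k) (CohB1.tensorMod F M) j) := by
  sorry

end Groth.Agent.H53.MRegSkel
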