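import Groth.Agent.H53.MonoidalDual
import Mathlib.CategoryTheory.Monoidal.Rigid.Braided

/-!
# Duality maps in monoidal categories, part 2 (helper53 library)

* `cm_naturality` : `cm adj p N` is natural in `N`;
* `swapPairing`, `isIso_map_cm_swap` : the canonical map `N ⊗ E ⟶ [[E, 𝟙], N]` is mapped to an
  isomorphism by a braided monoidal functor `R` with `R E` dualizable.
-/

set_option autoImplicit false
universe v₁ v₂ u₁ u₂
open CategoryTheory MonoidalCategory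

namespace Groth.Agent.H53.MonoidalDual

variable {𝒞 : Type u₁} [Category.{v₁} 𝒞] [MonoidalCategory 𝒞]

section cm

variable {L : 𝒞} {H : 𝒞 ⥤ 𝒞} (adj : tensorRight L ⊣ H) {D : 𝒞} (p : D ⊗ L ⟶ 𝟙_ 𝒞)

/-- Naturality of `cm` in `N`. -/
lemma cm_naturality {N N' : 𝒞} (f : N ⟶ N') :
    f ▷ D ≫ cm adj p N' = cm adj p N ≫ H.map f := by
  unfold cm
  rw [← Adjunction.homEquiv_naturality_left, ← Adjunction.homEquiv_naturality_right]
  congr 1
  show (f ▷ D) ▷ L ≫ _ = _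
  rw [associator_naturality_left_assoc, ← whisker_exchange_assoc, rightUnitor_naturality]
  simp only [Category.assoc]

end cm

section functor

open Functor.LaxMonoidal Functor.OplaxMonoidal Functor.Monoidal

variable {𝒟 : Type u₂} [Category.{v₂} 𝒟] [MonoidalCategory 𝒟] (R : 𝒞 ⥤ 𝒟) [R.Monoidal]

section braided

variable [BraidedCategory 𝒞] [BraidedCategory 𝒟]
variable {E : 𝒞} {HE : 𝒞 ⥤ 𝒞} (adjE : tensorRight E ⊣ HE)
variable {HD : 𝒞 ⥤ 𝒞} (adjD : tensorRight (HE.obj (𝟙_ 𝒞)) ⊣ HD)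
variable {HE' : 𝒟 ⥤ 𝒟} (adjE' : tensorRight (R.obj E) ⊣ HE')
variable {HD' : 𝒟 ⥤ 𝒟} (adjD' : tensorRight (R.obj (HE.obj (𝟙_ 𝒞))) ⊣ HD')

/-- The pairing `E ⊗ [E, 𝟙] ⟶ 𝟙`. -/
def swapPairing : E ⊗ HE.obj (𝟙_ 𝒞) ⟶ 𝟙_ 𝒞 :=
  (β_ E (HE.obj (𝟙_ 𝒞))).hom ≫ adjE.counit.app (𝟙_ 𝒞)

include adjE' in
/-- If `R E` has a right dual, `R` is braided and the comparisons `kap` are invertible, then `R`
maps the canonical map `N ⊗ E ⟶ [[E, 𝟙], N]` to an isomorphism. -/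
theorem isIso_map_cm_swap
    (hbr : ∀ X Y : 𝒞, μ R X Y ≫ R.map (β_ X Y).hom = (β_ (R.obj X) (R.obj Y)).hom ≫ μ R Y X)
    (D' : 𝒟) [ExactPairing (R.obj E) D'] (N : 𝒞)
    [IsIso (kap R adjD adjD' N)] [IsIso (kap R adjE adjE' (𝟙_ 𝒞))] :
    IsIso (R.map (cm adjD (swapPairing adjE) N)) := by
  have h1 : IsIso (kapUnit R adjE adjE') := by
    unfold kapUnit; infer_instance
  have hp : pR R (swapPairing adjE) =
      R.obj E ◁ kapUnit R adjE adjE' ≫ (β_ (R.obj E) (HE'.obj (𝟙_ 𝒟))).hom ≫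
        adjE'.counit.app (𝟙_ 𝒟) := by
    have h2 := pR_counit R adjE adjE'
    unfold pR at h2 ⊢
    unfold swapPairing
    rw [Functor.map_comp, Category.assoc, ← Category.assoc (μ R E (HE.obj (𝟙_ 𝒞))), hbr,
      Category.assoc, h2, BraidedCategory.braiding_naturality_right_assoc]
  letI P1 : ExactPairing (R.obj E) (HE'.obj (𝟙_ 𝒟)) := canonicalPairing adjE' D'
  have hP1 : ε_ (R.obj E) (HE'.obj (𝟙_ 𝒟)) = adjE'.counit.app (𝟙_ 𝒟) :=
    canonicalPairing_eval adjE' D'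
  letI P2 : ExactPairing (HE'.obj (𝟙_ 𝒟)) (R.obj E) := BraidedCategory.exactPairing_swap _ _
  have hP2 : ε_ (HE'.obj (𝟙_ 𝒟)) (R.obj E) =
      (β_ (R.obj E) (HE'.obj (𝟙_ 𝒟))).hom ≫ adjE'.counit.app (𝟙_ 𝒟) := by
    rw [← hP1]; rfl
  letI P3 : ExactPairing (R.obj (HE.obj (𝟙_ 𝒞))) (R.obj E) :=
    exactPairingCongrLeft (@asIso _ _ _ _ (kapUnit R adjE adjE') h1)
  have hP3 : ε_ (R.obj (HE.obj (𝟙_ 𝒞))) (R.obj E) = pR R (swapPairing adjE) := by
    rw [hp, ← hP2]; rfl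
  have h3 : IsIso (cm adjD' (pR R (swapPairing adjE)) (R.obj N)) := by
    rw [← hP3]
    exact isIso_cm_eval adjD' (R.obj E) (R.obj N)
  exact isIso_map_cm R adjD adjD' _ N

end braided

end functor

end Groth.Agent.H53.MonoidalDual
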