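import Groth.Agent.H53.MonoidalDual2

/-!
# Duality maps in monoidal categories, part 3 (helper53 library)

Let `adj : tensorRight L ⊣ HL` in a monoidal category.

* `ev adj G : [L, G] ⊗ L ⟶ G` (the counit with a clean type), `hom_ext_ev`;
* `cmG adj N G : N ⊗ [L, G] ⟶ [L, N ⊗ G]`, `cmG_ev`;
* `Hmap adj adj' g B : [L', B] ⟶ [L, B]` for `g : L ⟶ L'`, `Hmap_ev`, `Hmap_natural`,
  `cmG_natural_L`;
* `isIso_cmG` : `cmG` is an isomorphism when `L` has a right dual;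
* `kap_natural`, `starG`, `starφ` : compatibility with a monoidal functor.
-/

set_option autoImplicit false
universe v₁ v₂ u₁ u₂
open CategoryTheory MonoidalCategory

namespace Groth.Agent.H53.MonoidalDual

variable {𝒞 : Type u₁} [Category.{v₁} 𝒞] [MonoidalCategory 𝒞]

section ev

variable {L : 𝒞} {HL : 𝒞 ⥤ 𝒞} (adj : tensorRight L ⊣ HL)

/-- The evaluation `[L, G] ⊗ L ⟶ G`. -/
def ev (G : 𝒞) : HL.obj G ⊗ L ⟶ G := adj.counit.app G

lemma ev_natural {B B' : 𝒞} (b : B ⟶ B') : HL.map b ▷ L ≫ ev adj B' = ev adj B ≫ b :=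
  adj.counit.naturality b

lemma transpose_eq {X Y : 𝒞} (f : X ⟶ HL.obj Y) :
    (adj.homEquiv X Y).symm f = f ▷ L ≫ ev adj Y := by
  rw [Adjunction.homEquiv_counit]; rfl

lemma homEquiv_ev {X Y : 𝒞} (k : X ⊗ L ⟶ Y) : adj.homEquiv X Y k ▷ L ≫ ev adj Y = k := by
  rw [← transpose_eq]; exact (adj.homEquiv X Y).symm_apply_apply k

lemma hom_ext_ev {X Y : 𝒞} (f f' : X ⟶ HL.obj Y) (h : f ▷ L ≫ ev adj Y = f' ▷ L ≫ ev adj Y) :
    f = f' := by
  apply (adj.homEquiv X Y).symm.injective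
  rw [transpose_eq, transpose_eq]; exact h

lemma cm_ev {D : 𝒞} (p : D ⊗ L ⟶ 𝟙_ 𝒞) (N : 𝒞) :
    cm adj p N ▷ L ≫ ev adj N = (α_ N D L).hom ≫ N ◁ p ≫ (ρ_ N).hom :=
  cm_counit adj p N

/-- The canonical map `N ⊗ [L, G] ⟶ [L, N ⊗ G]`. -/
def cmG (N G : 𝒞) : N ⊗ HL.obj G ⟶ HL.obj (N ⊗ G) :=
  adj.homEquiv _ _ ((α_ N (HL.obj G) L).hom ≫ N ◁ ev adj G)

lemma cmG_ev (N G : 𝒞) :
    cmG adj N G ▷ L ≫ ev adj (N ⊗ G) = (α_ N (HL.obj G) L).hom ≫ N ◁ ev adj G :=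
  homEquiv_ev adj _

end ev

section Hmap

variable {L L' : 𝒞} {HL HL' : 𝒞 ⥤ 𝒞} (adj : tensorRight L ⊣ HL) (adj' : tensorRight L' ⊣ HL')
  (g : L ⟶ L')

/-- `[L', B] ⟶ [L, B]` induced by `g : L ⟶ L'`. -/
def Hmap (B : 𝒞) : HL'.obj B ⟶ HL.obj B :=
  adj.homEquiv _ _ (HL'.obj B ◁ g ≫ ev adj' B)

lemma Hmap_ev (B : 𝒞) :
    Hmap adj adj' g B ▷ L ≫ ev adj B = HL'.obj B ◁ g ≫ ev adj' B :=
  homEquiv_ev adj _

lemma Hmap_natural {B B' : 𝒞} (b : B ⟶ B') :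
    Hmap adj adj' g B ≫ HL.map b = HL'.map b ≫ Hmap adj adj' g B' := by
  apply hom_ext_ev adj
  rw [comp_whiskerRight, comp_whiskerRight, Category.assoc, Category.assoc, ev_natural, Hmap_ev,
    reassoc_of% (Hmap_ev adj adj' g B), ← whisker_exchange_assoc, ev_natural]

lemma cmG_natural_L (N G : 𝒞) :
    N ◁ Hmap adj adj' g G ≫ cmG adj N G = cmG adj' N G ≫ Hmap adj adj' g (N ⊗ G) := by
  apply hom_ext_ev adj
  rw [comp_whiskerRight, comp_whiskerRight, Category.assoc, Category.assoc, cmG_ev, Hmap_ev,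
    associator_naturality_middle_assoc, ← MonoidalCategory.whiskerLeft_comp, Hmap_ev,
    ← whisker_exchange_assoc, cmG_ev, associator_naturality_right_assoc,
    MonoidalCategory.whiskerLeft_comp]

end Hmap

section dual

variable {L : 𝒞} {HL : 𝒞 ⥤ 𝒞} (adj : tensorRight L ⊣ HL)

lemma cmG_square (N G : 𝒞) :
    N ◁ cm adj (ev adj (𝟙_ 𝒞)) G ≫ cmG adj N G =
      (α_ N G (HL.obj (𝟙_ 𝒞))).inv ≫ cm adj (ev adj (𝟙_ 𝒞)) (N ⊗ G) := by
  apply hom_ext_ev adj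
  rw [comp_whiskerRight, comp_whiskerRight, Category.assoc, Category.assoc, cmG_ev, cm_ev,
    associator_naturality_middle_assoc, ← MonoidalCategory.whiskerLeft_comp, cm_ev]
  monoidal

/-- If `L` has a right dual, `N ⊗ [L, G] ⟶ [L, N ⊗ G]` is an isomorphism. -/
theorem isIso_cmG (D : 𝒞) [ExactPairing L D] (N G : 𝒞) : IsIso (cmG adj N G) := by
  have h1 : IsIso (cm adj (ev adj (𝟙_ 𝒞)) G) := isIso_cm_counit adj D G
  have h2 : IsIso (cm adj (ev adj (𝟙_ 𝒞)) (N ⊗ G)) := isIso_cm_counit adj D (N ⊗ G)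
  have h3 : IsIso (N ◁ cm adj (ev adj (𝟙_ 𝒞)) G) := inferInstance
  have h := cmG_square adj N G
  have h4 : IsIso (N ◁ cm adj (ev adj (𝟙_ 𝒞)) G ≫ cmG adj N G) := by
    rw [h]; infer_instance
  exact IsIso.of_isIso_comp_left (N ◁ cm adj (ev adj (𝟙_ 𝒞)) G) _

end dual

section functorG

open Functor.LaxMonoidal Functor.OplaxMonoidal Functor.Monoidal

variable {𝒟 : Type u₂} [Category.{v₂} 𝒟] [MonoidalCategory 𝒟] (R : 𝒞 ⥤ 𝒟) [R.Monoidal]
variable {L : 𝒞} {HL : 𝒞 ⥤ 𝒞} (adj : tensorRight L ⊣ HL)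
variable {HL' : 𝒟 ⥤ 𝒟} (adj' : tensorRight (R.obj L) ⊣ HL')

lemma kap_ev (B : 𝒞) :
    kap R adj adj' B ▷ R.obj L ≫ ev adj' (R.obj B) = μ R (HL.obj B) L ≫ R.map (ev adj B) :=
  kap_counit R adj adj' B

lemma kap_natural {B B' : 𝒞} (b : B ⟶ B') :
    R.map (HL.map b) ≫ kap R adj adj' B' = kap R adj adj' B ≫ HL'.map (R.map b) := by
  apply hom_ext_ev adj'
  rw [comp_whiskerRight, comp_whiskerRight, Category.assoc, Category.assoc, kap_ev,
    μ_natural_left_assoc, ← R.map_comp, ev_natural, R.map_comp, ev_natural,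
    reassoc_of% (kap_ev R adj adj' B)]

theorem starG (N G : 𝒞) :
    μ R N (HL.obj G) ≫ R.map (cmG adj N G) ≫ kap R adj adj' (N ⊗ G) =
      R.obj N ◁ kap R adj adj' G ≫ cmG adj' (R.obj N) (R.obj G) ≫ HL'.map (μ R N G) := by
  apply hom_ext_ev adj'
  have el : (μ R N (HL.obj G) ≫ R.map (cmG adj N G) ≫ kap R adj adj' (N ⊗ G)) ▷ R.obj L ≫
      ev adj' (R.obj (N ⊗ G)) =
      (α_ (R.obj N) (R.obj (HL.obj G)) (R.obj L)).hom ≫
        R.obj N ◁ (μ R (HL.obj G) L ≫ R.map (ev adj G)) ≫ μ R N G := by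
    rw [comp_whiskerRight, comp_whiskerRight, Category.assoc, Category.assoc, kap_ev,
      μ_natural_left_assoc, ← R.map_comp, cmG_ev, R.map_comp,
      Functor.LaxMonoidal.associativity_assoc, ← μ_natural_right,
      MonoidalCategory.whiskerLeft_comp, Category.assoc]
  have er : (R.obj N ◁ kap R adj adj' G ≫ cmG adj' (R.obj N) (R.obj G) ≫ HL'.map (μ R N G)) ▷
      R.obj L ≫ ev adj' (R.obj (N ⊗ G)) =
      (α_ (R.obj N) (R.obj (HL.obj G)) (R.obj L)).hom ≫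
        R.obj N ◁ (μ R (HL.obj G) L ≫ R.map (ev adj G)) ≫ μ R N G := by
    rw [comp_whiskerRight, comp_whiskerRight, Category.assoc, Category.assoc, ev_natural,
      reassoc_of% (cmG_ev adj' (R.obj N) (R.obj G)), associator_naturality_middle_assoc,
      ← MonoidalCategory.whiskerLeft_comp_assoc, kap_ev]
  rw [el, er]

theorem starφ (N G Z : 𝒞) (ζ : N ⊗ G ⟶ Z) :
    μ R N (HL.obj G) ≫ R.map (cmG adj N G ≫ HL.map ζ) ≫ kap R adj adj' Z =
      R.obj N ◁ kap R adj adj' G ≫ cmG adj' (R.obj N) (R.obj G) ≫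
        HL'.map (μ R N G ≫ R.map ζ) := by
  have h1 := starG R adj adj' N G
  have h2 := kap_natural R adj adj' ζ
  calc μ R N (HL.obj G) ≫ R.map (cmG adj N G ≫ HL.map ζ) ≫ kap R adj adj' Z
      = (μ R N (HL.obj G) ≫ R.map (cmG adj N G) ≫ kap R adj adj' (N ⊗ G)) ≫
          HL'.map (R.map ζ) := by
        rw [R.map_comp, Category.assoc, h2]; simp only [Category.assoc]
    _ = _ := by rw [h1, HL'.map_comp]; simp only [Category.assoc]

end functorG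

end Groth.Agent.H53.MonoidalDual
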