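import Mathlib
import Groth.Prelude.Def_CurvBase

/-!
# (G2C) for helper14's S7889: reducedness can be checked at closed points (lft over a field)
-/

set_option autoImplicit false
set_option linter.style.haveILetI false
universe u
open CategoryTheory CategoryTheory.Limits AlgebraicGeometry

namespace Groth.Agent.H53.NN_G2C

theorem isReduced_of_forall_closed (k : Type u) [Field k] (X : Scheme.{u}) [X.Over (Spec (CommRingCat.of k))]
    [LocallyOfFiniteType (X ↘ Spec (CommRingCat.of k))]
    (h : ∀ x : X, IsClosed ({x} : Set X) → _root_.IsReduced (X.presheaf.stalk x)) : IsReduced X := by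
  haveI : JacobsonSpace X := LocallyOfFiniteType.jacobsonSpace (X ↘ Spec (CommRingCat.of k))
  have hst : ∀ x : X, _root_.IsReduced (X.presheaf.stalk x) := by
    intro x
    obtain ⟨_, ⟨U, hU, rfl⟩, hxU, -⟩ :=
      X.isBasis_affineOpens.exists_subset_of_mem_open (Set.mem_univ x) isOpen_univ
    have hU' : IsAffineOpen U := hU
    have hC : _root_.IsReduced Γ(X, U) := by
      apply isReduced_ofLocalizationMaximal
      intro J hJ
      have hJp : J.IsPrime := hJ.isPrime
      let y : PrimeSpectrum Γ(X, U) := ⟨J, hJp⟩
      have hyU : hU'.fromSpec y ∈ U := by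
        have := hU'.range_fromSpec
        have hmem : hU'.fromSpec y ∈ Set.range hU'.fromSpec := ⟨y, rfl⟩
        rw [this] at hmem
        exact hmem
      have hcl : IsClosed ({hU'.fromSpec y} : Set X) := by
        apply isClosed_singleton_of_isLocallyClosed_singleton
        have h0 : IsClosed ({y} : Set (PrimeSpectrum Γ(X, U))) :=
          (PrimeSpectrum.isClosed_singleton_iff_isMaximal y).mpr hJ
        have hemb : Topology.IsOpenEmbedding hU'.fromSpec :=
          hU'.fromSpec.isOpenEmbedding
        have := h0.isLocallyClosed.image hemb.isInducing hemb.isOpen_range.isLocallyClosed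
        rwa [Set.image_singleton] at this
      haveI := h _ hcl
      letI := TopCat.Presheaf.algebra_section_stalk X.presheaf ⟨hU'.fromSpec y, hyU⟩
      haveI : IsLocalization.AtPrime (X.presheaf.stalk (hU'.fromSpec y)) J :=
        hU'.isLocalization_stalk' y hyU
      let e : Localization.AtPrime J ≃ₐ[Γ(X, U)] X.presheaf.stalk (hU'.fromSpec y) :=
        IsLocalization.algEquiv J.primeCompl _ _
      exact isReduced_of_injective e.toRingEquiv.toRingHom e.injective
    letI := TopCat.Presheaf.algebra_section_stalk X.presheaf ⟨x, hxU⟩
    haveI := hU'.isLocalization_stalk ⟨x, hxU⟩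
    exact isReduced_localizationPreserves (hU'.primeIdealOf ⟨x, hxU⟩).asIdeal.primeCompl
      (X.presheaf.stalk x) hC
  exact isReduced_of_isReduced_stalk X

end Groth.Agent.H53.NN_G2C
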