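import Groth.Agent.H18.TensorModIso
import Groth.Agent.H39.PullTrack5
import Groth.Agent.H8.QCohQcqs
import Groth.Prelude.Def_Omega4

/-!
# The projection formula `M ⊗ f_* O_X ≅ f_* f^* M` for an affine morphism and quasi-coherent `M`
(helper53)
-/

set_option autoImplicit false
set_option linter.style.haveILetI false
universe u
open CategoryTheory AlgebraicGeometry Opposite TopologicalSpace MonoidalCategory OmegaSh
open scoped TensorProduct

namespace Groth.Agent.H53.ProjAffine

noncomputable section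

/-- A map out of `M ⊗ A'` which becomes the swap after an additive equivalence is bijective. -/
theorem bijective_of_swap {R : Type*} [CommRing R] {Mm A' P B : Type*} [AddCommGroup Mm]
    [Module R Mm] [AddCommGroup A'] [Module R A'] [AddCommGroup P] [AddCommGroup B] [Module R B]
    (φ : A' ≃ₗ[R] B) (g : Mm ⊗[R] A' →+ P) (E : P ≃+ B ⊗[R] Mm)
    (h : ∀ m a, E (g (m ⊗ₜ a)) = φ a ⊗ₜ m) : Function.Bijective g := by
  let c : Mm ⊗[R] A' ≃ₗ[R] B ⊗[R] Mm :=
    (TensorProduct.congr (LinearEquiv.refl R Mm) φ).trans (TensorProduct.comm R Mm B)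
  have hc : ∀ w, E (g w) = c w := by
    intro w
    induction w using TensorProduct.induction_on with
    | zero => simp
    | tmul m a => rw [h]; rfl
    | add x y hx hy => rw [map_add, map_add, hx, hy, map_add]
  have hg : (g : Mm ⊗[R] A' → P) = E.symm ∘ c := by
    funext w
    rw [Function.comp_apply, ← hc, AddEquiv.symm_apply_apply]
  rw [hg]
  exact E.symm.bijective.comp c.bijective

variable {X Y : Scheme.{u}} (f : X ⟶ Y) (M : Y.Modules)

/-- `f_* O_X`. -/
abbrev pushO : Y.Modules := (Scheme.Modules.pushforward f).obj (Coh.structureModule X)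

/-- `f_* f^* M`. -/
abbrev pushPull : Y.Modules :=
  (Scheme.Modules.pushforward f).obj ((Scheme.Modules.pullback f).obj M)

/-- `(m, a) ↦ a • f^* m`, with clean types. -/
def mul' (V : Y.Opens) (m : Γ(M, V)) (a : Γ(X, f ⁻¹ᵁ V)) :
    Γ((Scheme.Modules.pullback f).obj M, f ⁻¹ᵁ V) :=
  a • pullSect f M V m

lemma mul'_add_left (V : Y.Opens) (m m' : Γ(M, V)) (a : Γ(X, f ⁻¹ᵁ V)) :
    mul' f M V (m + m') a = mul' f M V m a + mul' f M V m' a := by
  unfold mul'
  rw [map_add, smul_add]

lemma mul'_add_right (V : Y.Opens) (m : Γ(M, V)) (a a' : Γ(X, f ⁻¹ᵁ V)) :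
    mul' f M V m (a + a') = mul' f M V m a + mul' f M V m a' := by
  unfold mul'
  exact add_smul _ _ _

lemma mul'_smul_left (V : Y.Opens) (r : Γ(Y, V)) (m : Γ(M, V)) (a : Γ(X, f ⁻¹ᵁ V)) :
    mul' f M V (r • m) a = f.app V r • mul' f M V m a := by
  unfold mul'
  rw [pullSect_smul, ← mul_smul, ← mul_smul, mul_comm]

lemma mul'_smul_right (V : Y.Opens) (r : Γ(Y, V)) (m : Γ(M, V)) (a : Γ(X, f ⁻¹ᵁ V)) :
    mul' f M V m (f.app V r * a) = f.app V r • mul' f M V m a := by
  unfold mul'
  rw [mul_smul]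

lemma mul'_res {V V' : Y.Opens} (h : V' ≤ V) (m : Γ(M, V)) (a : Γ(X, f ⁻¹ᵁ V)) :
    mul' f M V' (M.presheaf.map (homOfLE h).op m)
        (X.presheaf.map (homOfLE (f.preimage_mono h)).op a) =
      ((Scheme.Modules.pullback f).obj M).presheaf.map (homOfLE (f.preimage_mono h)).op
        (mul' f M V m a) := by
  unfold mul'
  rw [pullSect_map f M h m]
  exact (Groth.Agent.H8.res_smul ((Scheme.Modules.pullback f).obj M) (f.preimage_mono h)
    a (pullSect f M V m)).symm

/-- `(m, a) ↦ a • f^* m`. -/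
def mul (V : Y.Opens) (m : Γ(M, V)) (a : Γ(pushO f, V)) : Γ(pushPull f M, V) :=
  mul' f M V m a

lemma mul_add_left (V : Y.Opens) (m m' : Γ(M, V)) (a : Γ(pushO f, V)) :
    mul f M V (m + m') a = mul f M V m a + mul f M V m' a :=
  mul'_add_left f M V m m' a

lemma mul_add_right (V : Y.Opens) (m : Γ(M, V)) (a a' : Γ(pushO f, V)) :
    mul f M V m (a + a') = mul f M V m a + mul f M V m a' :=
  mul'_add_right f M V m a a'

lemma mul_smul_left (V : Y.Opens) (r : Γ(Y, V)) (m : Γ(M, V)) (a : Γ(pushO f, V)) :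
    mul f M V (r • m) a = r • mul f M V m a :=
  mul'_smul_left f M V r m a

lemma mul_smul_right (V : Y.Opens) (r : Γ(Y, V)) (m : Γ(M, V)) (a : Γ(pushO f, V)) :
    mul f M V m (r • a) = r • mul f M V m a :=
  mul'_smul_right f M V r m a

lemma mul_res {V V' : Y.Opens} (h : V' ≤ V) (m : Γ(M, V)) (a : Γ(pushO f, V)) :
    mul f M V' (M.presheaf.map (homOfLE h).op m) ((pushO f).presheaf.map (homOfLE h).op a) =
      (pushPull f M).presheaf.map (homOfLE h).op (mul f M V m a) :=
  mul'_res f M h m a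

set_option backward.isDefEq.respectTransparency false in
/-- The pairing as a morphism of presheaves of modules. -/
def μ : Groth.Agent.H18.TensorModIso.tensorPre' M (pushO f) ⟶
    (PresheafOfModules.restrictScalars (𝟙 Y.ringCatSheaf.obj)).obj (pushPull f M).val where
  app U := ModuleCat.MonoidalCategory.tensorLift
    (R := ↑((Y.sheaf.obj ⋙ forget₂ CommRingCat RingCat).obj U))
    (M₁ := M.val.obj U) (M₂ := (pushO f).val.obj U)
    (M₃ := ((PresheafOfModules.restrictScalars (𝟙 Y.ringCatSheaf.obj)).obj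
      (pushPull f M).val).obj U)
    (fun (s : Γ(M, U.unop)) (t : Γ(pushO f, U.unop)) => mul f M U.unop s t)
    (fun s s' t => mul_add_left f M _ s s' t)
    (fun r s t => mul_smul_left f M _ r s t)
    (fun s t t' => mul_add_right f M _ s t t')
    (fun r s t => mul_smul_right f M _ r s t)
  naturality {U V} g := by
    refine ModuleCat.MonoidalCategory.tensor_ext (fun s t => ?_)
    have hle : V.unop ≤ U.unop := g.unop.le
    have hg : g = (homOfLE hle).op := Quiver.Hom.unop_inj (Subsingleton.elim _ _)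
    subst hg
    exact mul_res f M hle s t

lemma μ_app_tmul (V : Y.Opens) (m : Γ(M, V)) (a : Γ(pushO f, V)) :
    ((μ f M).app (op V)).hom (m ⊗ₜ a) = mul f M V m a := rfl

set_option backward.isDefEq.respectTransparency false in
/-- **Projection formula**: `M ⊗ f_* O_X ≅ f_* f^* M` for `f` affine and `M` quasi-coherent. -/
theorem nonempty_iso [IsAffineHom f] [M.IsQuasicoherent] :
    Nonempty (CohB1.tensorMod M (pushO f) ≅ pushPull f M) := by
  refine Groth.Agent.H18.TensorModIso.nonempty_tensorMod_iso _ _ _ (μ f M) ?_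
  intro U x hx
  obtain ⟨_, ⟨V, hV, rfl⟩, hxV, hVU⟩ := Y.isBasis_affineOpens.exists_subset_of_mem_open hx U.2
  refine ⟨V, hVU, hxV, ?_⟩
  have hW : IsAffineOpen (f ⁻¹ᵁ V) := hV.preimage f
  obtain ⟨E, hE⟩ := Groth.Agent.H39.PullTrack.exists_sectionsPullbackEquiv f M hV hW le_rfl
  letI alg : Algebra Γ(Y, V) Γ(X, f ⁻¹ᵁ V) := (f.appLE V (f ⁻¹ᵁ V) le_rfl).hom.toAlgebra
  let φ : Γ(pushO f, V) ≃ₗ[Γ(Y, V)] Γ(X, f ⁻¹ᵁ V) :=
    { toFun := fun a => a
      invFun := fun a => a
      map_add' := fun _ _ => rfl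
      map_smul' := fun r a => by
        show (f.app V).hom r * (show Γ(X, f ⁻¹ᵁ V) from a) =
          (f.appLE V (f ⁻¹ᵁ V) le_rfl).hom r * (show Γ(X, f ⁻¹ᵁ V) from a)
        rw [Scheme.Hom.app_eq_appLE]
      left_inv := fun _ => rfl
      right_inv := fun _ => rfl }
  refine bijective_of_swap φ ((μ f M).app (op V)).hom.toAddMonoidHom E.toAddEquiv ?_
  intro m a
  show E (mul' f M V m a) = _
  unfold mul'
  rw [map_smul, ← Groth.Agent.H39.PullTrack.pullSectLE_self, hE, TensorProduct.smul_tmul',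
    smul_eq_mul, mul_one]
  rfl

end

end Groth.Agent.H53.ProjAffine
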