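import Groth.Agent.H31.PullTensor
import Groth.Agent.H31.PushRestrict
import Groth.Agent.H31.Invertible
import Groth.Agent.H31.FlatSite
import Groth.Agent.H28.LpullLoc
import Groth.Agent.H22.GenLocus
import Groth.Agent.H8.FreeRes

/-!
# The projection formula for finite locally free modules on schemes (helper53 library)

For `f : X ⟶ Y`, `N : Y.Modules` and `A : X.Modules` the projection morphism
`pf f N A : N ⊗ f_* A ⟶ f_* (f^* N ⊗ A)` is natural in both variables, and it is an isomorphism
when `N` is finite locally free (`isIso_pf`).  `pfIso` is the resulting isomorphism of functors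
`f_* ⋙ (E ⊗ -) ≅ (f^* E ⊗ -) ⋙ f_*`.
-/

set_option autoImplicit false
set_option backward.isDefEq.respectTransparency false
universe u
open CategoryTheory CategoryTheory.Limits Opposite TopologicalSpace MonoidalCategory
  AlgebraicGeometry TensorProduct

namespace Groth.Agent.H53.ProjFormula

open Groth.Agent.H31 Groth.Agent.H31.Stalk Groth.Agent.H40.StalkTensor
  Groth.Agent.H40.FlatBridge2 Groth.Agent.H31.Mate Groth.Agent.H31.PullTensor

section Bimap

variable {𝒞 : Type*} [Category 𝒞] (T : 𝒞 ⥤ 𝒞 ⥤ 𝒞)

lemma bimap_id_right {A A' : 𝒞} (g : A ⟶ A') (B : 𝒞) : bimap T g (𝟙 B) = (T.map g).app B := by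
  simp [Mate.bimap]

lemma bimap_id_left (A : 𝒞) {B B' : 𝒞} (b : B ⟶ B') : bimap T (𝟙 A) b = (T.obj A).map b := by
  simp [Mate.bimap]

end Bimap

section Sigma

variable {C D : Type*} [Category C] [Category D]

/-- A natural transformation between functors preserving a coproduct is an isomorphism at the
coproduct as soon as it is one at the summands. -/
theorem isIso_app_sigma {G₁ G₂ : C ⥤ D} (α : G₁ ⟶ G₂) {ι : Type} (Z : ι → C)
    [HasCoproductsOfShape ι C] [HasCoproductsOfShape ι D]
    [PreservesColimit (Discrete.functor Z) G₁] [PreservesColimit (Discrete.functor Z) G₂]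
    (h : ∀ i, IsIso (α.app (Z i))) : IsIso (α.app (∐ Z)) := by
  have e : sigmaComparison G₁ Z ≫ α.app (∐ Z) =
      Limits.Sigma.map (fun i => α.app (Z i)) ≫ sigmaComparison G₂ Z := by
    apply Limits.Sigma.hom_ext
    intro i
    rw [ι_comp_sigmaComparison_assoc, α.naturality, Limits.Sigma.ι_map_assoc, ι_comp_sigmaComparison]
  have h' : IsIso (sigmaComparison G₁ Z ≫ α.app (∐ Z)) := by
    rw [e]
    infer_instance
  exact IsIso.of_isIso_comp_left (sigmaComparison G₁ Z) _

end Sigma

section UnitSec

variable {X : TopCat.{u}} {O : Sheaf (Opens.grothendieckTopology X) CommRingCat.{u}}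

lemma tensorUnit_hom_app (P : ModSite.Mod O) :
    (tensorUnitNatIso O).hom.app P =
      (shf O).map (λ_ ((toPM O).obj P)).hom ≫ (shfAdj O).counit.app P := by
  have h : (tensorUnitNatIso O).hom.app P =
      𝟙 _ ≫ ((shf O).map (λ_ ((toPM O).obj P)).hom ≫ (𝟙 _ ≫ (shfAdj O).counit.app P)) := rfl
  rw [h, Category.id_comp, Category.id_comp]

lemma η_tensorUnit (P : ModSite.Mod O) :
    η (𝟙_ (PM O) ⊗ (toPM O).obj P) ≫ (toPM O).map ((tensorUnitNatIso O).hom.app P) =
      (λ_ ((toPM O).obj P)).hom := by
  have h0 := tensorUnit_hom_app P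
  have h1 : η (𝟙_ (PM O) ⊗ (toPM O).obj P) ≫
        (toPM O).map ((shf O).map (λ_ ((toPM O).obj P)).hom) =
      (λ_ ((toPM O).obj P)).hom ≫ η ((toPM O).obj P) :=
    ((shfAdj O).unit.naturality (λ_ ((toPM O).obj P)).hom).symm
  have h2 : η ((toPM O).obj P) ≫ (toPM O).map ((shfAdj O).counit.app P) = 𝟙 _ :=
    (shfAdj O).right_triangle_components P
  calc η (𝟙_ (PM O) ⊗ (toPM O).obj P) ≫ (toPM O).map ((tensorUnitNatIso O).hom.app P)
      = η (𝟙_ (PM O) ⊗ (toPM O).obj P) ≫
          ((toPM O).map ((shf O).map (λ_ ((toPM O).obj P)).hom) ≫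
            (toPM O).map ((shfAdj O).counit.app P)) := by
        rw [h0, Functor.map_comp]
    _ = (η (𝟙_ (PM O) ⊗ (toPM O).obj P) ≫
          (toPM O).map ((shf O).map (λ_ ((toPM O).obj P)).hom)) ≫
            (toPM O).map ((shfAdj O).counit.app P) := (Category.assoc _ _ _).symm
    _ = ((λ_ ((toPM O).obj P)).hom ≫ η ((toPM O).obj P)) ≫
            (toPM O).map ((shfAdj O).counit.app P) := by rw [h1]
    _ = (λ_ ((toPM O).obj P)).hom ≫ (η ((toPM O).obj P) ≫
            (toPM O).map ((shfAdj O).counit.app P)) := Category.assoc _ _ _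
    _ = (λ_ ((toPM O).obj P)).hom := by rw [h2, Category.comp_id]

lemma sec_leftUnitor (M : PM O) (U : Opens X) (r : O.obj.obj (op U)) (m : M.obj (op U)) :
    sec (λ_ M).hom U (tm (𝟙_ (PM O)) M U (show ((𝟙_ (PM O)).obj (op U) : Type u) from r) m) =
      r • m :=
  ModuleCat.MonoidalCategory.leftUnitor_hom_apply
    (R := O.obj.obj (op U)) (M := M.obj (op U)) r m

lemma sec_tensorUnit_tm (P : ModSite.Mod O) (U : Opens X) (r : O.obj.obj (op U))
    (p : ((toPM O).obj P).obj (op U)) :
    sec ((toPM O).map ((tensorUnitNatIso O).hom.app P)) U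
        (sec (η ((toPM O).obj (ModSite.unit O) ⊗ (toPM O).obj P)) U
          (tm ((toPM O).obj (ModSite.unit O)) ((toPM O).obj P) U
            (show (((toPM O).obj (ModSite.unit O)).obj (op U) : Type u) from r) p)) = r • p := by
  have h := η_tensorUnit P
  have h' := congrArg (fun φ => sec φ U (tm (𝟙_ (PM O)) ((toPM O).obj P) U
    (show ((𝟙_ (PM O)).obj (op U) : Type u) from r) p)) h
  exact h'.trans (sec_leftUnitor ((toPM O).obj P) U r p)

end UnitSec

section Pf

variable {X Y : Scheme.{u}} (f : X ⟶ Y)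


/-- The projection morphism `N ⊗ f_* A ⟶ f_* (f^* N ⊗ A)`. -/
noncomputable def pf (N : Y.Modules) (A : X.Modules) :
    ((ModSite.tensorBi (shX Y)).obj N).obj ((Scheme.Modules.pushforward f).obj A) ⟶ (Scheme.Modules.pushforward f).obj (((ModSite.tensorBi (shX X)).obj ((Scheme.Modules.pullback f).obj N)).obj A) :=
  Mate.bimap (ModSite.tensorBi (shX Y)) ((Scheme.Modules.pullbackPushforwardAdjunction f).unit.app N) (𝟙 ((Scheme.Modules.pushforward f).obj A)) ≫ lamPush f ((Scheme.Modules.pullback f).obj N) A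

theorem pf_natural {N N' : Y.Modules} {A A' : X.Modules} (g : N ⟶ N') (a : A ⟶ A') :
    Mate.bimap (ModSite.tensorBi (shX Y)) g ((Scheme.Modules.pushforward f).map a) ≫ pf f N' A' =
      pf f N A ≫ (Scheme.Modules.pushforward f).map (Mate.bimap (ModSite.tensorBi (shX X)) ((Scheme.Modules.pullback f).map g) a) := by
  have hnat : Mate.bimap (ModSite.tensorBi (shX Y)) ((Scheme.Modules.pushforward f).map ((Scheme.Modules.pullback f).map g)) ((Scheme.Modules.pushforward f).map a) ≫ lamPush f ((Scheme.Modules.pullback f).obj N') A' =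
      lamPush f ((Scheme.Modules.pullback f).obj N) A ≫ (Scheme.Modules.pushforward f).map (Mate.bimap (ModSite.tensorBi (shX X)) ((Scheme.Modules.pullback f).map g) a) :=
    (laxPush f).nat ((Scheme.Modules.pullback f).map g) a
  have hu : g ≫ (Scheme.Modules.pullbackPushforwardAdjunction f).unit.app N' = (Scheme.Modules.pullbackPushforwardAdjunction f).unit.app N ≫ (Scheme.Modules.pushforward f).map ((Scheme.Modules.pullback f).map g) :=
    (Scheme.Modules.pullbackPushforwardAdjunction f).unit.naturality g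
  have e1 : Mate.bimap (ModSite.tensorBi (shX Y)) g ((Scheme.Modules.pushforward f).map a) ≫ Mate.bimap (ModSite.tensorBi (shX Y)) ((Scheme.Modules.pullbackPushforwardAdjunction f).unit.app N') (𝟙 ((Scheme.Modules.pushforward f).obj A')) =
      Mate.bimap (ModSite.tensorBi (shX Y)) ((Scheme.Modules.pullbackPushforwardAdjunction f).unit.app N ≫ (Scheme.Modules.pushforward f).map ((Scheme.Modules.pullback f).map g)) (𝟙 ((Scheme.Modules.pushforward f).obj A) ≫ (Scheme.Modules.pushforward f).map a) := by
    rw [← bimap_comp, Category.comp_id, Category.id_comp]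
    exact congrArg (fun z => Mate.bimap (ModSite.tensorBi (shX Y)) z ((Scheme.Modules.pushforward f).map a)) hu
  have e2 : Mate.bimap (ModSite.tensorBi (shX Y)) ((Scheme.Modules.pullbackPushforwardAdjunction f).unit.app N ≫ (Scheme.Modules.pushforward f).map ((Scheme.Modules.pullback f).map g))
        (𝟙 ((Scheme.Modules.pushforward f).obj A) ≫ (Scheme.Modules.pushforward f).map a) =
      Mate.bimap (ModSite.tensorBi (shX Y)) ((Scheme.Modules.pullbackPushforwardAdjunction f).unit.app N) (𝟙 ((Scheme.Modules.pushforward f).obj A)) ≫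
        Mate.bimap (ModSite.tensorBi (shX Y)) ((Scheme.Modules.pushforward f).map ((Scheme.Modules.pullback f).map g)) ((Scheme.Modules.pushforward f).map a) := bimap_comp _ _ _ _ _
  calc Mate.bimap (ModSite.tensorBi (shX Y)) g ((Scheme.Modules.pushforward f).map a) ≫ pf f N' A'
      = (Mate.bimap (ModSite.tensorBi (shX Y)) g ((Scheme.Modules.pushforward f).map a) ≫ Mate.bimap (ModSite.tensorBi (shX Y)) ((Scheme.Modules.pullbackPushforwardAdjunction f).unit.app N') (𝟙 ((Scheme.Modules.pushforward f).obj A'))) ≫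
          lamPush f ((Scheme.Modules.pullback f).obj N') A' := (Category.assoc _ _ _).symm
    _ = (Mate.bimap (ModSite.tensorBi (shX Y)) ((Scheme.Modules.pullbackPushforwardAdjunction f).unit.app N) (𝟙 ((Scheme.Modules.pushforward f).obj A)) ≫
          Mate.bimap (ModSite.tensorBi (shX Y)) ((Scheme.Modules.pushforward f).map ((Scheme.Modules.pullback f).map g)) ((Scheme.Modules.pushforward f).map a)) ≫
            lamPush f ((Scheme.Modules.pullback f).obj N') A' := by rw [e1, e2]
    _ = Mate.bimap (ModSite.tensorBi (shX Y)) ((Scheme.Modules.pullbackPushforwardAdjunction f).unit.app N) (𝟙 ((Scheme.Modules.pushforward f).obj A)) ≫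
          (Mate.bimap (ModSite.tensorBi (shX Y)) ((Scheme.Modules.pushforward f).map ((Scheme.Modules.pullback f).map g)) ((Scheme.Modules.pushforward f).map a) ≫
            lamPush f ((Scheme.Modules.pullback f).obj N') A') := Category.assoc _ _ _
    _ = Mate.bimap (ModSite.tensorBi (shX Y)) ((Scheme.Modules.pullbackPushforwardAdjunction f).unit.app N) (𝟙 ((Scheme.Modules.pushforward f).obj A)) ≫
          (lamPush f ((Scheme.Modules.pullback f).obj N) A ≫ (Scheme.Modules.pushforward f).map (Mate.bimap (ModSite.tensorBi (shX X)) ((Scheme.Modules.pullback f).map g) a)) := by rw [hnat]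
    _ = pf f N A ≫ (Scheme.Modules.pushforward f).map (Mate.bimap (ModSite.tensorBi (shX X)) ((Scheme.Modules.pullback f).map g) a) := (Category.assoc _ _ _).symm

/-- The canonical map `O_Y ⟶ f_* O_X`. -/
noncomputable def uPush : ModSite.unit (shX Y) ⟶ (Scheme.Modules.pushforward f).obj (ModSite.unit (shX X)) :=
  SheafOfModules.unitToPushforwardObjUnit f.toRingCatSheafHom

/-- The canonical map `f^* O_Y ⟶ O_X`. -/
noncomputable def cPull : (Scheme.Modules.pullback f).obj (ModSite.unit (shX Y)) ⟶ ModSite.unit (shX X) :=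
  SheafOfModules.pullbackObjUnitToUnit f.toRingCatSheafHom

instance isIso_cPull : IsIso (cPull f) :=
  Groth.Agent.H28.LpullLoc.isIso_pullbackObjUnitToUnit f

lemma unit_cPull : (Scheme.Modules.pullbackPushforwardAdjunction f).unit.app (ModSite.unit (shX Y)) ≫ (Scheme.Modules.pushforward f).map (cPull f) = uPush f := by
  have h := SheafOfModules.pullbackPushforwardAdjunction_homEquiv_pullbackObjUnitToUnit
    f.toRingCatSheafHom
  rw [Adjunction.homEquiv_unit] at h
  exact h

lemma sec_uPush (V : Opens Y) (r : (shX Y).obj.obj (op V)) :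
    sec ((toPM (shX Y)).map (uPush f)) V
        (show (((toPM (shX Y)).obj (ModSite.unit (shX Y))).obj (op V) : Type u) from r) =
      (show (((toPM (shX Y)).obj ((Scheme.Modules.pushforward f).obj (ModSite.unit (shX X)))).obj (op V) : Type u) from
        φV f V r) := rfl

theorem unit_triangle (A : X.Modules) :
    Mate.bimap (ModSite.tensorBi (shX Y)) (uPush f) (𝟙 ((Scheme.Modules.pushforward f).obj A)) ≫
        (lamPush f (ModSite.unit (shX X)) A ≫
          (Scheme.Modules.pushforward f).map ((tensorUnitNatIso (shX X)).hom.app A)) =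
      (tensorUnitNatIso (shX Y)).hom.app ((Scheme.Modules.pushforward f).obj A) := by
  refine shf_tensor_hom_ext
    (N := (toPM (shX Y)).obj (ModSite.unit (shX Y)))
    (M := (toPM (shX Y)).obj ((Scheme.Modules.pushforward f).obj A)) ?_
  intro V r b
  refine Eq.trans ?_ (sec_tensorUnit_tm (O := shX Y) ((Scheme.Modules.pushforward f).obj A) V r b).symm
  rw [Functor.map_comp, Functor.map_comp, sec_comp, sec_comp]
  have h1 := sec_bimap_η (O := shX Y) (uPush f) (𝟙 ((Scheme.Modules.pushforward f).obj A)) V r b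
  refine (congrArg (fun w => sec ((toPM (shX Y)).map
    ((Scheme.Modules.pushforward f).map ((tensorUnitNatIso (shX X)).hom.app A))) V
    (sec ((toPM (shX Y)).map (lamPush f (ModSite.unit (shX X)) A)) V w)) h1).trans ?_
  have h2 := sec_lamPush f (ModSite.unit (shX X)) A V
    (sec ((toPM (shX Y)).map (uPush f)) V r) (sec ((toPM (shX Y)).map (𝟙 ((Scheme.Modules.pushforward f).obj A))) V b)
  refine (congrArg (fun w => sec ((toPM (shX Y)).map
    ((Scheme.Modules.pushforward f).map ((tensorUnitNatIso (shX X)).hom.app A))) V w) h2).trans ?_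
  refine (sec_push_map f ((tensorUnitNatIso (shX X)).hom.app A) V _).trans ?_
  refine (sec_tensorUnit_tm (O := shX X) A (f ⁻¹ᵁ V) (φV f V r) b).trans ?_
  exact (fp_smul f ((toPM (shX X)).obj A) V r b).symm

instance isIso_pf_unit (A : X.Modules) : IsIso (pf f (ModSite.unit (shX Y)) A) := by
  have hnat : Mate.bimap (ModSite.tensorBi (shX Y)) ((Scheme.Modules.pushforward f).map (cPull f)) ((Scheme.Modules.pushforward f).map (𝟙 A)) ≫
        lamPush f (ModSite.unit (shX X)) A =
      lamPush f ((Scheme.Modules.pullback f).obj (ModSite.unit (shX Y))) A ≫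
        (Scheme.Modules.pushforward f).map (Mate.bimap (ModSite.tensorBi (shX X)) (cPull f) (𝟙 A)) :=
    (laxPush f).nat (cPull f) (𝟙 A)
  have e1 : pf f (ModSite.unit (shX Y)) A ≫ (Scheme.Modules.pushforward f).map (Mate.bimap (ModSite.tensorBi (shX X)) (cPull f) (𝟙 A)) =
      Mate.bimap (ModSite.tensorBi (shX Y)) (uPush f) (𝟙 ((Scheme.Modules.pushforward f).obj A)) ≫ lamPush f (ModSite.unit (shX X)) A := by
    unfold pf
    rw [Category.assoc, ← hnat, ← Category.assoc, ← bimap_comp, unit_cPull, CategoryTheory.Functor.map_id,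
      Category.comp_id]
  have e2 : pf f (ModSite.unit (shX Y)) A ≫ ((Scheme.Modules.pushforward f).map (Mate.bimap (ModSite.tensorBi (shX X)) (cPull f) (𝟙 A)) ≫
      (Scheme.Modules.pushforward f).map ((tensorUnitNatIso (shX X)).hom.app A)) =
      (tensorUnitNatIso (shX Y)).hom.app ((Scheme.Modules.pushforward f).obj A) := by
    rw [← Category.assoc, e1, Category.assoc]
    exact unit_triangle f A
  have h : IsIso (pf f (ModSite.unit (shX Y)) A ≫
      ((Scheme.Modules.pushforward f).map (Mate.bimap (ModSite.tensorBi (shX X)) (cPull f) (𝟙 A)) ≫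
        (Scheme.Modules.pushforward f).map ((tensorUnitNatIso (shX X)).hom.app A))) := by
    rw [e2]
    infer_instance
  exact IsIso.of_isIso_comp_right _ ((Scheme.Modules.pushforward f).map (Mate.bimap (ModSite.tensorBi (shX X)) (cPull f) (𝟙 A)) ≫
        (Scheme.Modules.pushforward f).map ((tensorUnitNatIso (shX X)).hom.app A))

/-- The projection morphism as a natural transformation in the first variable. -/
noncomputable def pfNat (A : X.Modules) :
    (ModSite.tensorBi (shX Y)).flip.obj ((Scheme.Modules.pushforward f).obj A) ⟶ (Scheme.Modules.pullback f) ⋙ (ModSite.tensorBi (shX X)).flip.obj A ⋙ (Scheme.Modules.pushforward f) where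
  app N := pf f N A
  naturality N N' g := by
    have h := pf_natural f g (𝟙 A)
    rw [CategoryTheory.Functor.map_id, bimap_id_right, bimap_id_right] at h
    exact h

theorem isIso_pf_free (n : ℕ) (A : X.Modules) : IsIso (pf f (FlatMod.freeMod Y n) A) := by
  have i1 : PreservesColimitsOfShape (Discrete (Fin n)) (Scheme.Modules.pullback f) :=
    inferInstance
  have i2 : PreservesColimitsOfShape (Discrete (Fin n))
      ((ModSite.tensorBi (shX X)).flip.obj A) := inferInstance
  have i3 : PreservesColimitsOfShape (Discrete (Fin n)) (Scheme.Modules.pushforward f) :=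
    inferInstance
  have i4 : PreservesColimitsOfShape (Discrete (Fin n))
      ((ModSite.tensorBi (shX X)).flip.obj A ⋙ Scheme.Modules.pushforward f) :=
    inferInstance
  have i5 : PreservesColimitsOfShape (Discrete (Fin n))
      (Scheme.Modules.pullback f ⋙ (ModSite.tensorBi (shX X)).flip.obj A ⋙
        Scheme.Modules.pushforward f) := inferInstance
  exact isIso_app_sigma (pfNat f A) (fun _ : Fin n => Coh.structureModule Y)
    (fun _ => isIso_pf_unit f A)

end Pf

section Local

variable {Y : Scheme.{u}}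

/-- Being an isomorphism is local on the base. -/
theorem isIso_of_local {M N : Y.Modules} (φ : M ⟶ N)
    (h : ∀ y : Y, ∃ V : Y.Opens, y ∈ V ∧ IsIso ((Scheme.Modules.restrictFunctor V.ι).map φ)) :
    IsIso φ := by
  let S : Set Y.Opens :=
    {W | ∃ V : Y.Opens, W ≤ V ∧ IsIso ((Scheme.Modules.restrictFunctor V.ι).map φ)}
  refine Groth.Agent.H8.isIso_of_bijective_basis φ (fun W : S => (W : Y.Opens)) ?_ ?_
  · rw [Opens.isBasis_iff_nbhd]
    intro U y hy
    obtain ⟨V, hyV, hV⟩ := h y
    exact ⟨U ⊓ V, ⟨⟨U ⊓ V, ⟨V, inf_le_right, hV⟩⟩, rfl⟩, ⟨hy, hyV⟩, inf_le_left⟩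
  · rintro ⟨W, V, hWV, hV⟩
    exact (Groth.Agent.H22.GenLocus.isIso_restrict_map_iff φ V).mp hV W hWV

variable (V : Y.Opens)

lemma isIso_restrict_unit (N : Y.Modules) :
    IsIso ((Scheme.Modules.restrictFunctor V.ι).map ((Scheme.Modules.restrictAdjunction V.ι).unit.app N)) := by
  have h := (Scheme.Modules.restrictAdjunction V.ι).left_triangle_components N
  have h' : IsIso ((Scheme.Modules.restrictFunctor V.ι).map ((Scheme.Modules.restrictAdjunction V.ι).unit.app N) ≫
      (Scheme.Modules.restrictAdjunction V.ι).counit.app ((Scheme.Modules.restrictFunctor V.ι).obj N)) := by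
    rw [h]
    infer_instance
  exact IsIso.of_isIso_comp_right _
    ((Scheme.Modules.restrictAdjunction V.ι).counit.app ((Scheme.Modules.restrictFunctor V.ι).obj N))

/-- Tensoring preserves morphisms which are isomorphisms over `V`. -/
lemma isIso_restrict_bimap {N N' : Y.Modules} (g : N ⟶ N') (B : Y.Modules)
    (hg : IsIso ((Scheme.Modules.restrictFunctor V.ι).map g)) :
    IsIso ((Scheme.Modules.restrictFunctor V.ι).map (Mate.bimap (ModSite.tensorBi (shX Y)) g (𝟙 B))) := by
  have h1 : IsIso ((Scheme.Modules.pullback V.ι).map g) :=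
    (NatIso.isIso_map_iff (Scheme.Modules.restrictFunctorIsoPullback V.ι) g).1 hg
  have h2 := pullμ_natural V.ι g (𝟙 B)
  have h3 : IsIso ((Scheme.Modules.pullback V.ι).map (Mate.bimap (ModSite.tensorBi (shX Y)) g (𝟙 B)) ≫
      pullμ V.ι N' B) := by
    rw [h2]
    infer_instance
  have h4 : IsIso ((Scheme.Modules.pullback V.ι).map (Mate.bimap (ModSite.tensorBi (shX Y)) g (𝟙 B))) :=
    IsIso.of_isIso_comp_right _ (pullμ V.ι N' B)
  exact (NatIso.isIso_map_iff (Scheme.Modules.restrictFunctorIsoPullback V.ι) _).2 h4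

end Local

section Main

variable {X Y : Scheme.{u}} (f : X ⟶ Y) (V : Y.Opens)

lemma isIso_restrict_push_bimap {N N' : Y.Modules} (g : N ⟶ N') (A : X.Modules)
    (hg : IsIso ((Scheme.Modules.restrictFunctor V.ι).map g)) :
    IsIso ((Scheme.Modules.restrictFunctor V.ι).map ((Scheme.Modules.pushforward f).map (Mate.bimap (ModSite.tensorBi (shX X)) ((Scheme.Modules.pullback f).map g) (𝟙 A)))) := by
  have h1 : IsIso ((Scheme.Modules.pullback (f ∣_ V)).map ((Scheme.Modules.restrictFunctor V.ι).map g)) := inferInstance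
  have h2 : IsIso ((Scheme.Modules.restrictFunctor (f ⁻¹ᵁ V).ι).map ((Scheme.Modules.pullback f).map g)) :=
    (NatIso.isIso_map_iff (Groth.Agent.H28.LpullLoc.bcIso f V) g).2 h1
  have h3 := isIso_restrict_bimap (f ⁻¹ᵁ V) ((Scheme.Modules.pullback f).map g) A h2
  have h4 : IsIso ((Scheme.Modules.pushforward (f ∣_ V)).map
      ((Scheme.Modules.restrictFunctor (f ⁻¹ᵁ V).ι).map
        (Mate.bimap (ModSite.tensorBi (shX X)) ((Scheme.Modules.pullback f).map g) (𝟙 A)))) := inferInstance
  exact (NatIso.isIso_map_iff (Groth.Agent.H31.PushRestrict.pushRestrictIso f V) _).2 h4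

lemma isIso_restrict_pf_iff {N N' : Y.Modules} (g : N ⟶ N') (A : X.Modules)
    (hg : IsIso ((Scheme.Modules.restrictFunctor V.ι).map g)) :
    IsIso ((Scheme.Modules.restrictFunctor V.ι).map (pf f N A)) ↔ IsIso ((Scheme.Modules.restrictFunctor V.ι).map (pf f N' A)) := by
  have h := pf_natural f g (𝟙 A)
  rw [CategoryTheory.Functor.map_id] at h
  have h' : (Scheme.Modules.restrictFunctor V.ι).map (Mate.bimap (ModSite.tensorBi (shX Y)) g (𝟙 ((Scheme.Modules.pushforward f).obj A))) ≫ (Scheme.Modules.restrictFunctor V.ι).map (pf f N' A) =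
      (Scheme.Modules.restrictFunctor V.ι).map (pf f N A) ≫ (Scheme.Modules.restrictFunctor V.ι).map ((Scheme.Modules.pushforward f).map (Mate.bimap (ModSite.tensorBi (shX X)) ((Scheme.Modules.pullback f).map g) (𝟙 A))) := by
    rw [← Functor.map_comp, ← Functor.map_comp, h]
  have i1 := isIso_restrict_bimap V g ((Scheme.Modules.pushforward f).obj A) hg
  have i2 := isIso_restrict_push_bimap f V g A hg
  constructor
  · intro hN
    have h3 : IsIso ((Scheme.Modules.restrictFunctor V.ι).map (Mate.bimap (ModSite.tensorBi (shX Y)) g (𝟙 ((Scheme.Modules.pushforward f).obj A))) ≫ (Scheme.Modules.restrictFunctor V.ι).map (pf f N' A)) := by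
      rw [h']
      infer_instance
    exact IsIso.of_isIso_comp_left ((Scheme.Modules.restrictFunctor V.ι).map (Mate.bimap (ModSite.tensorBi (shX Y)) g (𝟙 ((Scheme.Modules.pushforward f).obj A)))) _
  · intro hN'
    have h3 : IsIso ((Scheme.Modules.restrictFunctor V.ι).map (pf f N A) ≫
        (Scheme.Modules.restrictFunctor V.ι).map ((Scheme.Modules.pushforward f).map (Mate.bimap (ModSite.tensorBi (shX X)) ((Scheme.Modules.pullback f).map g) (𝟙 A)))) := by
      rw [← h']
      infer_instance
    exact IsIso.of_isIso_comp_right _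
      ((Scheme.Modules.restrictFunctor V.ι).map ((Scheme.Modules.pushforward f).map (Mate.bimap (ModSite.tensorBi (shX X)) ((Scheme.Modules.pullback f).map g) (𝟙 A))))

theorem isIso_restrict_pf (E : Y.Modules) (A : X.Modules) (n : ℕ)
    (e : (Scheme.Modules.restrictFunctor V.ι).obj E ≅ FlatMod.freeMod V n) :
    IsIso ((Scheme.Modules.restrictFunctor V.ι).map (pf f E A)) := by
  have e' : (Scheme.Modules.restrictFunctor V.ι).obj (FlatMod.freeMod Y n) ≅ FlatMod.freeMod V n :=
    (Scheme.Modules.restrictFunctorIsoPullback V.ι).app _ ≪≫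
      Groth.Agent.H28.LpullLoc.pullbackFreeModIso V.ι n
  have hg₁ : IsIso ((Scheme.Modules.restrictFunctor V.ι).map ((Scheme.Modules.restrictAdjunction V.ι).unit.app E ≫
      (Scheme.Modules.pushforward V.ι).map (e.hom ≫ e'.inv))) := by
    have := isIso_restrict_unit V E
    rw [Functor.map_comp]
    infer_instance
  have hg₂ : IsIso ((Scheme.Modules.restrictFunctor V.ι).map
      ((Scheme.Modules.restrictAdjunction V.ι).unit.app (FlatMod.freeMod Y n))) :=
    isIso_restrict_unit V _
  have k1 := isIso_restrict_pf_iff f V (N := E)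
    (N' := (Scheme.Modules.pushforward V.ι).obj
      ((Scheme.Modules.restrictFunctor V.ι).obj (FlatMod.freeMod Y n))) _ A hg₁
  have k2 := isIso_restrict_pf_iff f V (N := FlatMod.freeMod Y n)
    (N' := (Scheme.Modules.pushforward V.ι).obj
      ((Scheme.Modules.restrictFunctor V.ι).obj (FlatMod.freeMod Y n))) _ A hg₂
  have := isIso_pf_free f n A
  exact k1.2 (k2.1 inferInstance)

/-- **Projection formula**: `E ⊗ f_* A ⟶ f_* (f^* E ⊗ A)` is an isomorphism for `E` finite
locally free. -/
theorem isIso_pf (E : Y.Modules) (hE : FlatMod.IsFinLocFree E) (A : X.Modules) :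
    IsIso (pf f E A) := by
  apply isIso_of_local
  intro y
  obtain ⟨V, n, hy, ⟨e⟩⟩ := hE y
  exact ⟨V, hy, isIso_restrict_pf f V E A n e⟩

/-- The projection formula as an isomorphism of functors `f_* ⋙ (E ⊗ -) ≅ (f^* E ⊗ -) ⋙ f_*`. -/
noncomputable def pfIso (E : Y.Modules) (hE : FlatMod.IsFinLocFree E) :
    (Scheme.Modules.pushforward f) ⋙ (ModSite.tensorBi (shX Y)).obj E ≅ (ModSite.tensorBi (shX X)).obj ((Scheme.Modules.pullback f).obj E) ⋙ (Scheme.Modules.pushforward f) :=
  haveI := fun A => isIso_pf f E hE A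
  NatIso.ofComponents (fun A => asIso (pf f E A)) (by
    intro A A' a
    have h := pf_natural f (𝟙 E) a
    rw [CategoryTheory.Functor.map_id, bimap_id_left, bimap_id_left] at h
    exact h)

end Main

end Groth.Agent.H53.ProjFormula
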