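import Mathlib.CategoryTheory.Comma.Basic
import Mathlib.CategoryTheory.Adjunction.Basic
import Mathlib.CategoryTheory.Adjunction.FullyFaithful
import Mathlib.CategoryTheory.Limits.Shapes.Pullback.IsPullback.Basic
import Mathlib.CategoryTheory.Limits.Preserves.Shapes.Pullbacks
import Mathlib.CategoryTheory.Limits.Shapes.IsTerminal

/-!
# Abstract gluing (recollement) lemma (library, helper53)

Let `jL ⊣ jS` (`jL : E ⥤ A`) and `iL ⊣ iS` (`iL : E ⥤ B`) be adjunctions with fully faithful right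
adjoints, such that `jL` and `iL` preserve pullbacks, `jL (iS Y)` is terminal for all `Y`, and
`jL`, `iL` are jointly conservative. Then `E` is equivalent to the comma category
`Comma (𝟭 B) (jS ⋙ iL)` ("Artin gluing").
-/

set_option autoImplicit false

namespace Groth.Agent.H53.Recoll

open CategoryTheory Limits

universe v₁ v₂ v₃ u₁ u₂ u₃

variable {E : Type u₁} [Category.{v₁} E] {A : Type u₂} [Category.{v₂} A]
  {B : Type u₃} [Category.{v₃} B]
variable {jL : E ⥤ A} {jS : A ⥤ E} (adjJ : jL ⊣ jS) {iL : E ⥤ B} {iS : B ⥤ E} (adjI : iL ⊣ iS)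

/-- The comparison functor `X ↦ (iL X, jL X, iL (unit))`. -/
abbrev Φ (iL : E ⥤ B) : E ⥤ Comma (𝟭 B) (jS ⋙ iL) where
  obj X := { left := iL.obj X, right := jL.obj X, hom := iL.map (adjJ.unit.app X) }
  map {X Y} m :=
    { left := iL.map m
      right := jL.map m
      w := by
        show iL.map m ≫ iL.map (adjJ.unit.app Y) =
          iL.map (adjJ.unit.app X) ≫ iL.map (jS.map (jL.map m))
        rw [← iL.map_comp, ← iL.map_comp]
        exact congrArg iL.map (adjJ.unit.naturality m) }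
  map_id X := by
    apply Comma.hom_ext
    · exact iL.map_id X
    · exact jL.map_id X
  map_comp f g := by
    apply Comma.hom_ext
    · exact iL.map_comp f g
    · exact jL.map_comp f g

lemma homEquiv_symm_comp_unit {X Z : E} (b : X ⟶ Z) :
    (adjI.homEquiv X (iL.obj Z)).symm (b ≫ adjI.unit.app Z) = iL.map b := by
  rw [Equiv.symm_apply_eq, Adjunction.homEquiv_unit]
  exact adjI.unit.naturality b

variable [HasPullbacks E]

/-- First leg of the gluing cospan. -/
abbrev f₁ (T : Comma (𝟭 B) (jS ⋙ iL)) : iS.obj T.left ⟶ iS.obj (iL.obj (jS.obj T.right)) :=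
  iS.map T.hom

/-- Second leg of the gluing cospan. -/
abbrev f₂ (T : Comma (𝟭 B) (jS ⋙ iL)) : jS.obj T.right ⟶ iS.obj (iL.obj (jS.obj T.right)) :=
  adjI.unit.app (jS.obj T.right)

/-- The glued object. -/
noncomputable abbrev Ψo (T : Comma (𝟭 B) (jS ⋙ iL)) : E := pullback (f₁ (iS := iS) T) (f₂ adjI T)

/-- The hom-set bijection. -/
noncomputable def e (X : E) (T : Comma (𝟭 B) (jS ⋙ iL)) :
    ((Φ adjJ iL).obj X ⟶ T) ≃ (X ⟶ Ψo adjI T) where
  toFun φ := pullback.lift (adjI.homEquiv X T.left φ.left) (adjJ.homEquiv X T.right φ.right) (by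
      have hw : φ.left ≫ T.hom = iL.map (adjJ.unit.app X) ≫ iL.map (jS.map φ.right) := φ.w
      rw [Adjunction.homEquiv_unit, Adjunction.homEquiv_unit]
      show (adjI.unit.app X ≫ iS.map φ.left) ≫ iS.map T.hom =
        (adjJ.unit.app X ≫ jS.map φ.right) ≫ adjI.unit.app (jS.obj T.right)
      rw [Category.assoc, ← iS.map_comp, hw, ← iL.map_comp]
      exact (adjI.unit.naturality (adjJ.unit.app X ≫ jS.map φ.right)).symm)
  invFun ψ :=
    { left := (adjI.homEquiv X T.left).symm (ψ ≫ pullback.fst _ _)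
      right := (adjJ.homEquiv X T.right).symm (ψ ≫ pullback.snd _ _)
      w := by
        show (adjI.homEquiv X T.left).symm (ψ ≫ pullback.fst _ _) ≫ T.hom =
          iL.map (adjJ.unit.app X) ≫
            iL.map (jS.map ((adjJ.homEquiv X T.right).symm (ψ ≫ pullback.snd _ _)))
        have h1 : (adjI.homEquiv X T.left).symm (ψ ≫ pullback.fst _ _) ≫ T.hom =
            iL.map (ψ ≫ pullback.snd (f₁ (iS := iS) T) (f₂ adjI T)) := by
          rw [← Adjunction.homEquiv_naturality_right_symm, ← homEquiv_symm_comp_unit adjI]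
          congr 1
          rw [Category.assoc, Category.assoc]
          exact congrArg (fun t => ψ ≫ t) pullback.condition
        have h2 : adjJ.unit.app X ≫
            jS.map ((adjJ.homEquiv X T.right).symm (ψ ≫ pullback.snd _ _)) =
            ψ ≫ pullback.snd (f₁ (iS := iS) T) (f₂ adjI T) := by
          have h := adjJ.homEquiv_unit (X := X) (Y := T.right)
            (f := (adjJ.homEquiv X T.right).symm
              (ψ ≫ pullback.snd (f₁ (iS := iS) T) (f₂ adjI T)))
          rw [Equiv.apply_symm_apply] at h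
          exact h.symm
        rw [h1, ← iL.map_comp, h2] }
  left_inv φ := by
    apply Comma.hom_ext
    · show (adjI.homEquiv X T.left).symm (pullback.lift _ _ _ ≫ pullback.fst _ _) = φ.left
      rw [pullback.lift_fst, Equiv.symm_apply_apply]
    · show (adjJ.homEquiv X T.right).symm (pullback.lift _ _ _ ≫ pullback.snd _ _) = φ.right
      rw [pullback.lift_snd, Equiv.symm_apply_apply]
  right_inv ψ := by
    apply pullback.hom_ext
    · rw [pullback.lift_fst]
      exact Equiv.apply_symm_apply _ _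
    · rw [pullback.lift_snd]
      exact Equiv.apply_symm_apply _ _

lemma e_fst (X : E) (T : Comma (𝟭 B) (jS ⋙ iL)) (φ : (Φ adjJ iL).obj X ⟶ T) :
    e adjJ adjI X T φ ≫ pullback.fst _ _ = adjI.homEquiv X T.left φ.left :=
  pullback.lift_fst _ _ _

lemma e_snd (X : E) (T : Comma (𝟭 B) (jS ⋙ iL)) (φ : (Φ adjJ iL).obj X ⟶ T) :
    e adjJ adjI X T φ ≫ pullback.snd _ _ = adjJ.homEquiv X T.right φ.right :=
  pullback.lift_snd _ _ _

lemma e_nat {X' X : E} (T : Comma (𝟭 B) (jS ⋙ iL)) (f : X' ⟶ X) (g : (Φ adjJ iL).obj X ⟶ T) :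
    e adjJ adjI X' T ((Φ adjJ iL).map f ≫ g) = f ≫ e adjJ adjI X T g := by
  apply pullback.hom_ext
  · rw [e_fst, Category.assoc, e_fst]
    exact adjI.homEquiv_naturality_left f g.left
  · rw [e_snd, Category.assoc, e_snd]
    exact adjJ.homEquiv_naturality_left f g.right

/-- The gluing functor (right adjoint of `Φ`). -/
noncomputable def Ψ : Comma (𝟭 B) (jS ⋙ iL) ⥤ E :=
  Adjunction.rightAdjointOfEquiv (e adjJ adjI) (fun _ _ T f g => e_nat adjJ adjI T f g)

/-- The adjunction `Φ ⊣ Ψ`. -/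
noncomputable def adj : Φ adjJ iL ⊣ Ψ adjJ adjI :=
  Adjunction.adjunctionOfEquivRight (e adjJ adjI) (fun _ _ T f g => e_nat adjJ adjI T f g)

lemma counit_app (T : Comma (𝟭 B) (jS ⋙ iL)) :
    (adj adjJ adjI).counit.app T = (e adjJ adjI (Ψo adjI T) T).symm (𝟙 _) := by
  exact Adjunction.adjunctionOfEquivRight_counit_app (e adjJ adjI)
    (fun _ _ T f g => e_nat adjJ adjI T f g) T

lemma counit_app_left (T : Comma (𝟭 B) (jS ⋙ iL)) :
    ((adj adjJ adjI).counit.app T).left =
      iL.map (pullback.fst (f₁ (iS := iS) T) (f₂ adjI T)) ≫ adjI.counit.app T.left := by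
  rw [counit_app]
  show (adjI.homEquiv _ T.left).symm (𝟙 _ ≫ pullback.fst _ _) = _
  rw [Category.id_comp, Adjunction.homEquiv_counit]

lemma counit_app_right (T : Comma (𝟭 B) (jS ⋙ iL)) :
    ((adj adjJ adjI).counit.app T).right =
      jL.map (pullback.snd (f₁ (iS := iS) T) (f₂ adjI T)) ≫ adjJ.counit.app T.right := by
  rw [counit_app]
  show (adjJ.homEquiv _ T.right).symm (𝟙 _ ≫ pullback.snd _ _) = _
  rw [Category.id_comp, Adjunction.homEquiv_counit]

section iso

variable [PreservesLimitsOfShape WalkingCospan iL] [PreservesLimitsOfShape WalkingCospan jL]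
  [∀ Y, IsIso (adjI.counit.app Y)] [∀ Y, IsIso (adjJ.counit.app Y)]

include adjI in
lemma isIso_iL_unit (Z : E) : IsIso (iL.map (adjI.unit.app Z)) := by
  have h : iL.map (adjI.unit.app Z) = inv (adjI.counit.app (iL.obj Z)) :=
    IsIso.eq_inv_of_inv_hom_id (adjI.left_triangle_components Z)
  rw [h]
  infer_instance

lemma isIso_iL_fst (T : Comma (𝟭 B) (jS ⋙ iL)) :
    IsIso (iL.map (pullback.fst (f₁ (iS := iS) T) (f₂ adjI T))) := by
  have h := (IsPullback.of_hasPullback (f₁ (iS := iS) T) (f₂ adjI T)).map iL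
  have : IsIso (iL.map (f₂ adjI T)) := isIso_iL_unit adjI _
  exact h.isIso_fst_of_isIso

lemma isIso_jL_snd (hT : ∀ Y : B, IsTerminal (jL.obj (iS.obj Y))) (T : Comma (𝟭 B) (jS ⋙ iL)) :
    IsIso (jL.map (pullback.snd (f₁ (iS := iS) T) (f₂ adjI T))) := by
  have h := (IsPullback.of_hasPullback (f₁ (iS := iS) T) (f₂ adjI T)).map jL
  have : IsIso (jL.map (f₁ (iS := iS) T)) := isIso_of_isTerminal (hT _) (hT _) _
  exact h.isIso_snd_of_isIso

lemma isIso_counit_app (hT : ∀ Y : B, IsTerminal (jL.obj (iS.obj Y)))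
    (T : Comma (𝟭 B) (jS ⋙ iL)) : IsIso ((adj adjJ adjI).counit.app T) := by
  have hl : IsIso ((adj adjJ adjI).counit.app T).left := by
    rw [counit_app_left]
    exact IsIso.comp_isIso' (isIso_iL_fst adjI T) inferInstance
  have hr : IsIso ((adj adjJ adjI).counit.app T).right := by
    rw [counit_app_right]
    exact IsIso.comp_isIso' (isIso_jL_snd adjI hT T) inferInstance
  have hw := ((adj adjJ adjI).counit.app T).w
  have : (adj adjJ adjI).counit.app T =
      (Comma.isoMk (asIso ((adj adjJ adjI).counit.app T).left)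
        (asIso ((adj adjJ adjI).counit.app T).right) hw).hom := by
    apply Comma.hom_ext <;> rfl
  rw [this]
  infer_instance

lemma isIso_unit_app (hT : ∀ Y : B, IsTerminal (jL.obj (iS.obj Y)))
    (hc : ∀ {X Y : E} (m : X ⟶ Y), IsIso (jL.map m) → IsIso (iL.map m) → IsIso m) (X : E) :
    IsIso ((adj adjJ adjI).unit.app X) := by
  have h1 : IsIso ((adj adjJ adjI).counit.app ((Φ adjJ iL).obj X)) :=
    isIso_counit_app adjJ adjI hT _
  have h3 : IsIso ((Φ adjJ iL).map ((adj adjJ adjI).unit.app X)) := by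
    have h : (Φ adjJ iL).map ((adj adjJ adjI).unit.app X) =
        inv ((adj adjJ adjI).counit.app ((Φ adjJ iL).obj X)) :=
      IsIso.eq_inv_of_inv_hom_id ((adj adjJ adjI).left_triangle_components X)
    rw [h]
    infer_instance
  have h4 : IsIso ((Φ adjJ iL).map ((adj adjJ adjI).unit.app X)).left :=
    haveI := h3
    (Comma.fst (𝟭 B) (jS ⋙ iL)).map_isIso ((Φ adjJ iL).map ((adj adjJ adjI).unit.app X))
  have h5 : IsIso ((Φ adjJ iL).map ((adj adjJ adjI).unit.app X)).right :=
    haveI := h3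
    (Comma.snd (𝟭 B) (jS ⋙ iL)).map_isIso ((Φ adjJ iL).map ((adj adjJ adjI).unit.app X))
  exact hc _ h5 h4

include adjJ adjI in
/-- **Abstract gluing**: `E` is equivalent to the glued category. -/
theorem nonempty_equiv (hT : ∀ Y : B, IsTerminal (jL.obj (iS.obj Y)))
    (hc : ∀ {X Y : E} (m : X ⟶ Y), IsIso (jL.map m) → IsIso (iL.map m) → IsIso m) :
    Nonempty (E ≌ Comma (𝟭 B) (jS ⋙ iL)) := by
  have : ∀ X, IsIso ((adj adjJ adjI).unit.app X) := isIso_unit_app adjJ adjI hT hc
  have : ∀ T, IsIso ((adj adjJ adjI).counit.app T) := isIso_counit_app adjJ adjI hT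
  exact ⟨(adj adjJ adjI).toEquivalence⟩

end iso

end Groth.Agent.H53.Recoll
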