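import Groth.Agent.H53.SheafDual
import Groth.Agent.H53.MonoidalDual2

/-!
# Duality for locally finite free modules on a ringed site, part 2 (helper53 library)

* `nonempty_tensor_iso_sheafHom_dual` : `N ⊗ E ≅ ℋom(E^∨, N)` for `E` locally finite free;
* `nonempty_tensorDual_natIso_Hsh` : `- ⊗ L^∨ ≅ ℋom(L, -)` naturally;
* `preservesMonomorphisms_tensor_dual`, `injective_tensor_locFinFree`.
-/

set_option autoImplicit false
universe u
open CategoryTheory CategoryTheory.Limits MonoidalCategory Opposite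

namespace Groth.Agent.H53.SheafDual

open Groth.Agent.H31 Groth.Agent.H31.ExtZero Groth.Agent.H53.MonoidalDual

variable {C : Type u} [SmallCategory C] {J : GrothendieckTopology C} {O : Sheaf J CommRingCat.{u}}

section Swap

open Functor.LaxMonoidal in
lemma res_braided (U : C) (X Y : PM O) :
    μ (res O U) X Y ≫ (res O U).map (β_ X Y).hom =
      (β_ ((res O U).obj X) ((res O U).obj Y)).hom ≫ μ (res O U) Y X := by
  ext1 V
  exact ModuleCat.MonoidalCategory.tensor_ext fun _ _ => rfl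

variable (E N : ModSite.Mod O)

/-- The presheaf-level canonical map `N ⊗ E ⟶ [[E, 𝟙], N]`. -/
noncomputable def d₀ : (toPM O).obj N ⊗ (toPM O).obj E ⟶
    (H ((H ((toPM O).obj E)).obj (𝟙_ (PM O)))).obj ((toPM O).obj N) :=
  cm (tensorAdj ((H ((toPM O).obj E)).obj (𝟙_ (PM O)))) (swapPairing (tensorAdj ((toPM O).obj E)))
    ((toPM O).obj N)

theorem isIso_res_map_d₀ (W : C) (I : Type u) [Finite I]
    (e : (ModSite.restr O W).obj E ≅ SheafOfModules.free (R := ModSite.ringSh (O.over W)) I) :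
    IsIso ((res O W).map (d₀ E N)) := by
  obtain ⟨D', ⟨P⟩⟩ := exists_exactPairing_res W E I e
  exact isIso_map_cm_swap (res O W) (tensorAdj ((toPM O).obj E))
    (tensorAdj ((H ((toPM O).obj E)).obj (𝟙_ (PM O))))
    (tensorAdj ((res O W).obj ((toPM O).obj E)))
    (tensorAdj ((res O W).obj ((H ((toPM O).obj E)).obj (𝟙_ (PM O)))))
    (res_braided W) D' ((toPM O).obj N)

theorem isIso_shf_map_d₀ (hE : SheafHomExact.LocFinFree O E) :
    IsIso ((shf O).map (d₀ E N)) := by
  apply isIso_shf_map_of_locally_iso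
  intro V
  obtain ⟨S, hS, hk⟩ := hE V
  refine ⟨S, hS, fun W k hkS => ?_⟩
  obtain ⟨I, hI, ⟨e⟩⟩ := hk k hkS
  exact isIso_res_map_d₀ E N W I e

/-- For `E` locally finite free, `N ⊗ E ≅ ℋom(E^∨, N)`. -/
theorem nonempty_tensor_iso_sheafHom_dual [ModSite.HasSheafHom E]
    [ModSite.HasSheafHom ((ModSite.sheafHom E).obj (ModSite.unit O))]
    (hE : SheafHomExact.LocFinFree O E) :
    Nonempty (((ModSite.tensorBi O).obj N).obj E ≅
      (ModSite.sheafHom ((ModSite.sheafHom E).obj (ModSite.unit O))).obj N) := by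
  let u : ModSite.sheafHom E ≅ Hsh ((toPM O).obj E) :=
    (ModSite.sheafHomAdj E).rightAdjointUniq (Groth.Agent.H31.sheafHomAdj E)
  let Dsh : ModSite.Mod O := (Hsh ((toPM O).obj E)).obj (ModSite.unit O)
  haveI : ModSite.HasSheafHom Dsh := hasSheafHom _
  let v : ModSite.sheafHom ((ModSite.sheafHom E).obj (ModSite.unit O)) ≅ Hsh ((toPM O).obj Dsh) :=
    SheafHomExact.sheafHomIsoOfIso O (u.app (ModSite.unit O)) ≪≫
      (ModSite.sheafHomAdj Dsh).rightAdjointUniq (Groth.Agent.H31.sheafHomAdj Dsh)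
  have h1 : IsIso ((shf O).map (d₀ E N)) := isIso_shf_map_d₀ E N hE
  let e1' := @asIso _ _ _ _ ((shf O).map (d₀ E N)) h1
  let e1 : ((ModSite.tensorBi O).obj N).obj E ≅
      (shf O).obj ((H ((toPM O).obj Dsh)).obj ((toPM O).obj N)) := e1'
  have h2 : IsIso ((shfAdj O).counit.app ((Hsh ((toPM O).obj Dsh)).obj N)) :=
    isIso_counit (O := O) _
  let e2' := @asIso _ _ _ _ ((shfAdj O).counit.app ((Hsh ((toPM O).obj Dsh)).obj N)) h2
  let e2 : (shf O).obj ((H ((toPM O).obj Dsh)).obj ((toPM O).obj N)) ≅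
      (Hsh ((toPM O).obj Dsh)).obj N := e2'
  exact ⟨e1 ≪≫ e2 ≪≫ (v.app N).symm⟩

end Swap

end Groth.Agent.H53.SheafDual
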