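import Groth.Agent.H53.SheafDual3
import Groth.Agent.H31.TensorSite3
import Groth.Agent.H31.Invertible

/-!
# Internal hom and tensor products with locally finite free modules (helper53 library)

* `dualNatIsoHsh` : `- ⊗ E ≅ ℋom(E^∨, -)` naturally, for `E` locally finite free;
* `sheafHomTensorIso` : `ℋom(F ⊗ L, -) ≅ ℋom(L, -) ⋙ ℋom(F, -)`;
* `sheafHomComm` : `ℋom(F, -) ⋙ ℋom(P, -) ≅ ℋom(P, -) ⋙ ℋom(F, -)`;
* `nonempty_sheafHom_comm_flip` : `ℋom(F, -) ⋙ (- ⊗ M) ≅ (- ⊗ M) ⋙ ℋom(F, -)` for `M` locally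
  finite free.
-/

set_option autoImplicit false
universe u
open CategoryTheory CategoryTheory.Limits MonoidalCategory Opposite

namespace Groth.Agent.H53.SheafHomComm

open Groth.Agent.H31 Groth.Agent.H31.ExtZero Groth.Agent.H53.MonoidalDual
  Groth.Agent.H53.SheafDual

variable {C : Type u} [SmallCategory C] {J : GrothendieckTopology C} {O : Sheaf J CommRingCat.{u}}

/-- The canonical maps `d₀ E N` assemble to a natural transformation. -/
noncomputable def dNat (E : ModSite.Mod O) :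
    toPM O ⋙ tensorRight ((toPM O).obj E) ⟶
      toPM O ⋙ H ((H ((toPM O).obj E)).obj (𝟙_ (PM O))) where
  app N := d₀ E N
  naturality _ _ f := cm_naturality (tensorAdj ((H ((toPM O).obj E)).obj (𝟙_ (PM O))))
    (swapPairing (tensorAdj ((toPM O).obj E))) ((toPM O).map f)

lemma Hsh_map_val (N₀ : PM O) {P Q : ModSite.Mod O} (g : P ⟶ Q) :
    ((Hsh N₀).map g).val = (H N₀).map ((incl O).map g) := rfl

lemma toPM_map_val {P Q : ModSite.Mod O} (k : P ⟶ Q) : (toPM O).map k = k.val := rfl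

lemma incl_map_eq_toPM_map {P Q : ModSite.Mod O} (k : P ⟶ Q) :
    (incl O).map k = (toPM O).map k := rfl

variable (O) in
/-- `(toPM P)^♯ ≅ P` naturally. -/
noncomputable def shfToPMIso : toPM O ⋙ shf O ≅ 𝟭 (ModSite.Mod O) :=
  (show toPM O ⋙ shf O ≅ incl O ⋙ shf O from Iso.refl _) ≪≫
    @asIso _ _ _ _ (shfAdj O).counit (isIso_shfAdj_counit O)

/-- The underlying presheaf of `ℋom(N₀, P)`. -/
noncomputable def toPMHIso (N₀ : PM O) : toPM O ⋙ H N₀ ≅ Hsh N₀ ⋙ toPM O :=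
  NatIso.ofComponents (fun P => Iso.refl _) (by
    intro P Q g
    have h : (H N₀).map ((toPM O).map g) = (toPM O).map ((Hsh N₀).map g) := by
      rw [toPM_map_val ((Hsh N₀).map g), Hsh_map_val, incl_map_eq_toPM_map]
      rfl
    exact (Category.comp_id _).trans (h.trans (Category.id_comp _).symm))

/-- `(ℋom(N₀, P))^♯ ≅ ℋom(N₀, P)` naturally in the sheaf `P`. -/
noncomputable def HshCounitIso (N₀ : PM O) : toPM O ⋙ H N₀ ⋙ shf O ≅ Hsh N₀ :=
  (Functor.associator _ _ _).symm ≪≫ Functor.isoWhiskerRight (toPMHIso N₀) (shf O) ≪≫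
    Functor.associator _ _ _ ≪≫ Functor.isoWhiskerLeft (Hsh N₀) (shfToPMIso O) ≪≫
    Functor.rightUnitor _

/-- For `E` locally finite free, `- ⊗ E ≅ ℋom(E^∨, -)` naturally (`Hsh` model). -/
noncomputable def dualNatIsoHsh (E : ModSite.Mod O) (hE : SheafHomExact.LocFinFree O E) :
    (ModSite.tensorBi O).flip.obj E ≅
      Hsh ((toPM O).obj ((Hsh ((toPM O).obj E)).obj (ModSite.unit O))) :=
  let τ : toPM O ⋙ tensorRight ((toPM O).obj E) ⋙ shf O ⟶
      toPM O ⋙ H ((H ((toPM O).obj E)).obj (𝟙_ (PM O))) ⋙ shf O :=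
    Functor.whiskerRight (dNat E) (shf O)
  haveI : ∀ N, IsIso (τ.app N) := fun N => isIso_shf_map_d₀ E N hE
  haveI : IsIso τ := NatIso.isIso_of_isIso_app τ
  (asIso τ : toPM O ⋙ tensorRight ((toPM O).obj E) ⋙ shf O ≅
      toPM O ⋙ H ((H ((toPM O).obj E)).obj (𝟙_ (PM O))) ⋙ shf O) ≪≫
    HshCounitIso ((H ((toPM O).obj E)).obj (𝟙_ (PM O)))

/-- `ℋom(F ⊗ L, -) ≅ ℋom(L, -) ⋙ ℋom(F, -)`. -/
noncomputable def sheafHomTensorIso (F L : ModSite.Mod O) [ModSite.HasSheafHom F]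
    [ModSite.HasSheafHom L] [ModSite.HasSheafHom (((ModSite.tensorBi O).obj F).obj L)] :
    ModSite.sheafHom (((ModSite.tensorBi O).obj F).obj L) ≅
      ModSite.sheafHom L ⋙ ModSite.sheafHom F :=
  let a : (ModSite.tensorBi O).flip.obj (((ModSite.tensorBi O).obj F).obj L) ≅
      (ModSite.tensorBi O).flip.obj F ⋙ (ModSite.tensorBi O).flip.obj L :=
    tensorAssocIso ((toPM O).obj F) ((toPM O).obj L)
  ((ModSite.sheafHomAdj (((ModSite.tensorBi O).obj F).obj L)).ofNatIsoLeft a).rightAdjointUniq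
    ((ModSite.sheafHomAdj F).comp (ModSite.sheafHomAdj L))

/-- `ℋom(F, -) ⋙ ℋom(P, -) ≅ ℋom(P, -) ⋙ ℋom(F, -)`. -/
noncomputable def sheafHomComm (F P : ModSite.Mod O) [ModSite.HasSheafHom F]
    [ModSite.HasSheafHom P] :
    ModSite.sheafHom F ⋙ ModSite.sheafHom P ≅ ModSite.sheafHom P ⋙ ModSite.sheafHom F :=
  haveI : ModSite.HasSheafHom (((ModSite.tensorBi O).obj P).obj F) := hasSheafHom _
  haveI : ModSite.HasSheafHom (((ModSite.tensorBi O).obj F).obj P) := hasSheafHom _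
  (sheafHomTensorIso P F).symm ≪≫
    SheafHomExact.sheafHomIsoOfIso O ((braidIso P).app F) ≪≫ sheafHomTensorIso F P

/-- For `M` locally finite free, `ℋom(F, -) ⋙ (- ⊗ M) ≅ (- ⊗ M) ⋙ ℋom(F, -)`. -/
theorem nonempty_sheafHom_comm_flip (F M : ModSite.Mod O) [ModSite.HasSheafHom F]
    (hM : SheafHomExact.LocFinFree O M) :
    Nonempty (ModSite.sheafHom F ⋙ (ModSite.tensorBi O).flip.obj M ≅
      (ModSite.tensorBi O).flip.obj M ⋙ ModSite.sheafHom F) := by
  let Dsh : ModSite.Mod O := (Hsh ((toPM O).obj M)).obj (ModSite.unit O)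
  haveI : ModSite.HasSheafHom Dsh := hasSheafHom _
  let w : ModSite.sheafHom Dsh ≅ Hsh ((toPM O).obj Dsh) :=
    (ModSite.sheafHomAdj Dsh).rightAdjointUniq (Groth.Agent.H31.sheafHomAdj Dsh)
  let d : (ModSite.tensorBi O).flip.obj M ≅ ModSite.sheafHom Dsh :=
    dualNatIsoHsh M hM ≪≫ w.symm
  exact ⟨Functor.isoWhiskerLeft _ d ≪≫ sheafHomComm F Dsh ≪≫
    Functor.isoWhiskerRight d.symm _⟩

end Groth.Agent.H53.SheafHomComm
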