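import Groth.Agent.H40.LTensorDCoh
import Groth.Agent.H31.KFlatTensor
import Groth.Agent.H31.KFlatColimSite
import Groth.Agent.H53.ProdDer
import Groth.Agent.H53.KanTransfer2
import Mathlib.Algebra.Homology.BifunctorHomotopy
import Mathlib.Algebra.Homology.BifunctorFlip

/-!
# `- ⊗^L K` on a ringed site is computed on left K-flat complexes, and is absolute
(helper53 library)
-/

set_option autoImplicit false
universe u
open CategoryTheory CategoryTheory.Limits HomologicalComplex
attribute [local instance] HasDerivedCategory.standard

namespace Groth.Agent.H53.SiteTensor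

open Groth.Agent.H31 Groth.Agent.H31.KFlat Groth.Agent.H40.LTensorComp Groth.Agent.H40.LeftDer
  Groth.Agent.H53.ProdDer Groth.Agent.H53

variable {C : Type u} [SmallCategory C] {J : GrothendieckTopology C} (O : Sheaf J CommRingCat.{u})

/-- The tensor bifunctor. -/
noncomputable abbrev Tb : ModSite.Mod O ⥤ ModSite.Mod O ⥤ ModSite.Mod O := ModSite.tensorBi O

/-- The flipped tensor bifunctor. -/
noncomputable abbrev Tf : ModSite.Mod O ⥤ ModSite.Mod O ⥤ ModSite.Mod O := (ModSite.tensorBi O).flip

instance additive_Tf : (Tf O).Additive := additive_flip (Tb O)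

instance additive_Tf_obj (X : ModSite.Mod O) : ((Tf O).obj X).Additive := additive_flip_obj (Tb O) X

instance preserves_Tf_flip_obj (X : ModSite.Mod O) :
    PreservesColimitsOfShape ℕ ((Tf O).flip.obj X) :=
  preservesColimitsOfShape_of_natIso (flipFlipObjIso (Tb O) X)

lemma tensorLike_Tf : TensorLike (Tf O) := tensorLike_flip tensorLike_tensorBi

/-- The homotopy category. -/
abbrev HC := HomotopyCategory (ModSite.Mod O) (ComplexShape.up ℤ)

/-- The quotient functor. -/
abbrev qq : CochainComplex (ModSite.Mod O) ℤ ⥤ HC O := HomotopyCategory.quotient _ _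

/-- Homotopy equivalences. -/
abbrev hEq : MorphismProperty (CochainComplex (ModSite.Mod O) ℤ) :=
  HomologicalComplex.homotopyEquivalences (ModSite.Mod O) (ComplexShape.up ℤ)

/-- Acyclic complexes. -/
abbrev Bac : ObjectProperty (HC O) := HomotopyCategory.subcategoryAcyclic (ModSite.Mod O)

/-- Quasi-isomorphisms in the homotopy category. -/
abbrev WK : MorphismProperty (HC O) := (Bac O).trW

/-- Quasi-isomorphisms of complexes. -/
abbrev qis : MorphismProperty (CochainComplex (ModSite.Mod O) ℤ) :=
  HomologicalComplex.quasiIso (ModSite.Mod O) (ComplexShape.up ℤ)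

/-- Left K-flat objects of the homotopy category. -/
abbrev lkfl : ObjectProperty (HC O) := kflat (Tf O)

/-- The inclusion of left K-flat objects, as a localizer morphism. -/
noncomputable abbrev Φl := (lkfl O).triangulatedLocalizerMorphism (Bac O)

lemma good_Φl : Good (Φl O) := by
  have := hasExactColimitsOfShape_nat_Mod (O := O)
  exact good_triangulated (hasLeftRes (tensorLike_Tf O))

instance isLocalization_Qh_WK :
    (DerivedCategory.Qh : HC O ⥤ DerivedCategory (ModSite.Mod O)).IsLocalization (WK O) := by
  have h : (DerivedCategory.Qh : HC O ⥤ DerivedCategory (ModSite.Mod O)).IsLocalization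
      (HomotopyCategory.quasiIso (ModSite.Mod O) (ComplexShape.up ℤ)) := inferInstance
  rwa [HomotopyCategory.quasiIso_eq_trW_subcategoryAcyclic] at h

end Groth.Agent.H53.SiteTensor
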