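import Groth.Agent.H53.SiteTensor2
import Groth.Agent.H53.CxDerive2

/-!
# `- ⊗^L E` on a ringed site only depends on the quasi-isomorphism class of `E` (helper53 library)

`LTensorCxIsoOfQuasiIso q ...: LP ≅ LE` for a quasi-isomorphism `q : P ⟶ E` and any left derived functors
`LP`, `LE` of `- ⊗ P`, `- ⊗ E`; `nonempty_LTensorCx_iso` for the chosen ones; combined with
`exists_isKFlat_resolution` this replaces `E` by a K-flat complex with flat terms.
-/

set_option autoImplicit false
universe u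
open CategoryTheory CategoryTheory.Limits HomologicalComplex
attribute [local instance] HasDerivedCategory.standard

namespace Groth.Agent.H53.SiteTensor

open Groth.Agent.H31 Groth.Agent.H31.KFlat Groth.Agent.H40.LTensorComp Groth.Agent.H40.LeftDer
  Groth.Agent.H53.ProdDer Groth.Agent.H53

variable {C : Type u} [SmallCategory C] {J : GrothendieckTopology C} {O : Sheaf J CommRingCat.{u}}

/-- The natural transformation `- ⊗ P ⟶ - ⊗ E` induced by `q : P ⟶ E`, followed by `Q`. -/
noncomputable def tQmap {P E : CochainComplex (ModSite.Mod O) ℤ} (q : P ⟶ E) :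
    ModSite.tensorCxQ P ⟶ ModSite.tensorCxQ E :=
  Functor.whiskerRight ((ModSite.tensorCx O).flip.map q) DerivedCategory.Q

/-- `M ⊗ q` is a quasi-isomorphism when `M` is left K-flat and `q` is a quasi-isomorphism. -/
lemma isIso_tQmap_app {P E : CochainComplex (ModSite.Mod O) ℤ} (q : P ⟶ E) [QuasiIso q]
    (M : CochainComplex (ModSite.Mod O) ℤ) (hM : KF (Tf O) M) : IsIso ((tQmap q).app M) := by
  have hM' : ∀ L : CochainComplex (ModSite.Mod O) ℤ, L.Acyclic →
      (mapBifunctor M L (Tb O) (ComplexShape.up ℤ)).Acyclic := fun L hL =>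
    acyclic_of_iso (mapBifunctorFlipIso M L (Tb O) (ComplexShape.up ℤ)) (hM L hL)
  have h1 : QuasiIso (mapBifunctorMap (𝟙 M) q (Tb O) (ComplexShape.up ℤ)) :=
    quasiIso_mapBifunctorMap_right (Tb O) M q
      (hM' _ ((quasiIso_iff_acyclic_mappingCone q).1 inferInstance))
  change IsIso (DerivedCategory.Q.map (mapBifunctorMap (𝟙 M) q (Tb O) (ComplexShape.up ℤ)))
  rw [DerivedCategory.isIso_Q_map_iff_quasiIso]
  exact h1

/-- Left derived functors of `- ⊗ P` and `- ⊗ E` are isomorphic when `P ⟶ E` is a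
quasi-isomorphism. -/
noncomputable def LTensorCxIsoOfQuasiIso {P E : CochainComplex (ModSite.Mod O) ℤ} (q : P ⟶ E)
    [QuasiIso q]
    (LP LE : DerivedCategory (ModSite.Mod O) ⥤ DerivedCategory (ModSite.Mod O))
    (εP : DerivedCategory.Q ⋙ LP ⟶ ModSite.tensorCxQ P)
    (εE : DerivedCategory.Q ⋙ LE ⟶ ModSite.tensorCxQ E)
    [LP.IsLeftDerivedFunctor εP (qis O)] [LE.IsLeftDerivedFunctor εE (qis O)] : LP ≅ LE :=
  haveI := (adapted P).isIso_leftDerivedNatTrans (adapted E) (tQmap q)
    (fun M hM => isIso_tQmap_app q M hM) LP LE εP εE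
  asIso (Functor.leftDerivedNatTrans LP LE εP εE (qis O) (tQmap q))

/-- `- ⊗^L P ≅ - ⊗^L E` when `P ⟶ E` is a quasi-isomorphism. -/
noncomputable def LTensorCxIso {P E : CochainComplex (ModSite.Mod O) ℤ} (q : P ⟶ E) [QuasiIso q]
    [ModSite.HasLTensorCx P] [ModSite.HasLTensorCx E] :
    ModSite.LTensorCx P ≅ ModSite.LTensorCx E :=
  LTensorCxIsoOfQuasiIso q (ModSite.LTensorCx P) (ModSite.LTensorCx E)
    ((ModSite.tensorCxQ P).totalLeftDerivedCounit DerivedCategory.Q (qis O))
    ((ModSite.tensorCxQ E).totalLeftDerivedCounit DerivedCategory.Q (qis O))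

/-- For `P` K-flat: `Q ⋙ (- ⊗^L P) ≅ (- ⊗ P) ⋙ Q`. -/
noncomputable def LTensorCxCompQIso (P : CochainComplex (ModSite.Mod O) ℤ) (hP : ModSite.IsKFlat P)
    [ModSite.HasLTensorCx P] : DerivedCategory.Q ⋙ ModSite.LTensorCx P ≅ ModSite.tensorCxQ P :=
  haveI := isIso_counit_of_isKFlat P hP (ModSite.LTensorCx P)
    ((ModSite.tensorCxQ P).totalLeftDerivedCounit DerivedCategory.Q (qis O)) inferInstance
  asIso ((ModSite.tensorCxQ P).totalLeftDerivedCounit DerivedCategory.Q (qis O))

end Groth.Agent.H53.SiteTensor
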