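import Mathlib
import Groth.Agent.H53.LBaseChange
import Groth.Agent.S6945

/-!
# Dévissage for `H^i(K ⊗^L M)` in the module variable (helper53 library)

For a complex `P` of flat modules, `M ↦ P ⊗ M` sends short exact sequences of modules to short exact
sequences of complexes; hence vanishing of `H^i(P ⊗ -)` is closed under extensions.  Also: the base
change `P ⊗_A B` restricted to `A` is `P ⊗_A (B as A-module)`.
-/

set_option autoImplicit false
universe u
open CategoryTheory CategoryTheory.Limits MonoidalCategory
attribute [local instance] HasDerivedCategory.standard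

namespace Groth.Agent.H53.TorDev

open DRing DerivedCategory Groth.Agent.H31 Groth.Agent.H35.TorAmp Groth.Agent.H35.FlatBC
  Groth.Agent.H53.LBaseChange

variable {R : Type u} [CommRing R]

lemma exactAt_of_iso_cx {K L : Cx R} (e : K ≅ L) (i : ℤ) (h : K.ExactAt i) : L.ExactAt i :=
  (quasiIsoAt_iff_exactAt e.hom i h).1 inferInstance

/-- `P ⊗ M ≅ P ⊗ N` for `M ≅ N`. -/
noncomputable def tensorObjIso (P : Cx R) {M N : ModuleCat.{u} R} (e : M ≅ N) :
    CohIII.tensorObj P M ≅ CohIII.tensorObj P N :=
  (NatIso.mapHomologicalComplex ((tensoringRight (ModuleCat.{u} R)).mapIso e)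
    (ComplexShape.up ℤ)).app P

lemma shortExact_tensorLeft (F : ModuleCat.{u} R) [Module.Flat R F]
    (S : ShortComplex (ModuleCat.{u} R)) (hS : S.ShortExact) :
    (S.map (tensorLeft F)).ShortExact := by
  have hm := hS.mono_f
  have he := hS.epi_g
  have h1 : Mono ((tensorLeft F).map S.f) := by
    rw [ModuleCat.mono_iff_injective] at hm ⊢
    exact Module.Flat.lTensor_preserves_injective_linearMap (M := F) S.f.hom hm
  have h2 : Epi ((tensorLeft F).map S.g) := inferInstance
  have h1' : Mono (S.map (tensorLeft F)).f := h1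
  have h2' : Epi (S.map (tensorLeft F)).g := h2
  exact ShortComplex.ShortExact.mk
    (hS.exact.map_of_epi_of_preservesCokernel (tensorLeft F) he inferInstance)

/-- The short complex of complexes `P ⊗ S`. -/
noncomputable def tensorSC (P : Cx R) (S : ShortComplex (ModuleCat.{u} R)) :
    ShortComplex (Cx R) :=
  ShortComplex.mk (CohIII.tensorMap P S.f) (CohIII.tensorMap P S.g) (by
    apply HomologicalComplex.hom_ext
    intro n
    show (P.X n ◁ S.f) ≫ (P.X n ◁ S.g) = 0
    rw [← MonoidalCategory.whiskerLeft_comp, S.zero, MonoidalPreadditive.whiskerLeft_zero])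

lemma tensorSC_shortExact (P : Cx R) (hfl : TermwiseFlat P)
    (S : ShortComplex (ModuleCat.{u} R)) (hS : S.ShortExact) : (tensorSC P S).ShortExact := by
  refine HomologicalComplex.shortExact_of_degreewise_shortExact _ (fun n => ?_)
  have := hfl n
  exact shortExact_tensorLeft (P.X n) S hS

/-- Vanishing of `H^i(P ⊗ -)` is closed under extensions. -/
lemma exactAt_of_shortExact (P : Cx R) (hfl : TermwiseFlat P)
    (S : ShortComplex (ModuleCat.{u} R)) (hS : S.ShortExact) (i : ℤ)
    (h1 : (CohIII.tensorObj P S.X₁).ExactAt i) (h3 : (CohIII.tensorObj P S.X₃).ExactAt i) :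
    (CohIII.tensorObj P S.X₂).ExactAt i := by
  have hSC := tensorSC_shortExact P hfl S hS
  have hex := hSC.homology_exact₂ i
  rw [HomologicalComplex.exactAt_iff_isZero_homology] at h1 h3 ⊢
  exact hex.isZero_of_both_zeros (h1.eq_of_src _ _) (h3.eq_of_tgt _ _)

lemma exactAt_of_subsingleton (P : Cx R) (N : ModuleCat.{u} R) [Subsingleton N] (i : ℤ) :
    (CohIII.tensorObj P N).ExactAt i := by
  refine ShortComplex.exact_of_isZero_X₂ _ ?_
  have hN : IsZero N := ModuleCat.isZero_of_subsingleton N
  exact ((tensorLeft (P.X i)).map_isZero hN)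

/-- The canonical short exact sequence `0 → N' → M → M/N' → 0`. -/
noncomputable def subSC (M : Type u) [AddCommGroup M] [Module R M] (N' : Submodule R M) :
    ShortComplex (ModuleCat.{u} R) :=
  ShortComplex.mk (ModuleCat.ofHom N'.subtype) (ModuleCat.ofHom N'.mkQ) (by
    ext x
    simp)

lemma subSC_shortExact (M : Type u) [AddCommGroup M] [Module R M] (N' : Submodule R M) :
    (subSC M N').ShortExact :=
  ModuleCat.shortComplex_shortExact (subSC M N') (LinearMap.exact_subtype_mkQ N')
    N'.injective_subtype N'.mkQ_surjective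

section BC

variable {A B : Type u} [CommRing A] [CommRing B] (φ : A →+* B)

/-- If the termwise base change `P ⊗_A B` is exact at `i`, so is `P ⊗_A (B as A-module)`. -/
lemma exactAt_tensorObj_Bmod_of_exactAt_extCx (P : Cx A) (i : ℤ)
    (h : ((extCx φ).obj P).ExactAt i) : (CohIII.tensorObj P (Bmod φ)).ExactAt i := by
  have h1 : (((res φ).mapHomologicalComplex (ComplexShape.up ℤ)).obj
      ((extCx φ).obj P)).ExactAt i := ShortComplex.Exact.map h (res φ)
  have h2 : (((ext φ ⋙ res φ).mapHomologicalComplex (ComplexShape.up ℤ)).obj P).ExactAt i := h1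
  have h3 : (((tensorLeft (Bmod φ)).mapHomologicalComplex (ComplexShape.up ℤ)).obj P).ExactAt i :=
    exactAt_of_iso_cx ((NatIso.mapHomologicalComplex (extResIso φ) (ComplexShape.up ℤ)).app P) i h2
  exact exactAt_of_iso_cx ((NatIso.mapHomologicalComplex
    (BraidedCategory.tensorLeftIsoTensorRight (Bmod φ)) (ComplexShape.up ℤ)).app P) i h3

end BC

end Groth.Agent.H53.TorDev
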